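import Groth.Agent.Lib.ArtFun.Basic
import Groth.Prelude.Def_ArtFun3

/-!
# Functors of Artin rings: small extensions, induction along surjections
-/

universe u v

namespace GrothLib.ArtFun

open _root_.ArtFun CategoryTheory IsLocalRing

variable {Λ : Type u} {k : Type u} [CommRing Λ] [Field k] [Algebra Λ k]

section Annihilated

variable {B : Art Λ k}

lemma mul_eq_zero_of_mem_maximalIdeal {K : Ideal B} (h : maximalIdeal B * K = ⊥) {a x : B}
    (ha : a ∈ maximalIdeal B) (hx : x ∈ K) : a * x = 0 := by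
  have := Ideal.mul_mem_mul ha hx
  rwa [h, Ideal.mem_bot] at this

lemma mul_eq_mul_of_res_eq {K : Ideal B} (h : maximalIdeal B * K = ⊥) {a b x : B}
    (hab : B.res a = B.res b) (hx : x ∈ K) : a * x = b * x := by
  rw [← sub_eq_zero, ← sub_mul]
  exact mul_eq_zero_of_mem_maximalIdeal h (by rw [← res_eq_zero_iff, map_sub, hab, sub_self]) hx

lemma mul_eq_zero_iff {t : B} (ht0 : t ≠ 0) (ht : ∀ a ∈ maximalIdeal B, a * t = 0) {a : B} :
    a * t = 0 ↔ B.res a = 0 := by
  refine ⟨fun h => ?_, fun h => ht a (res_eq_zero_iff.1 h)⟩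
  by_contra hne
  exact ht0 ((isUnit_iff_res_ne_zero.2 hne).mul_right_eq_zero.1 h)

/-- In a nonzero ideal there is a nonzero element killed by the maximal ideal. -/
lemma exists_socle_mem {K : Ideal B} (hK : K ≠ ⊥) :
    ∃ t ∈ K, t ≠ 0 ∧ ∀ a ∈ maximalIdeal B, a * t = 0 := by
  obtain ⟨n, hn⟩ := exists_pow_maximalIdeal_eq_bot B
  classical
  have hex : ∃ j, maximalIdeal B ^ j * K = ⊥ := ⟨n, by rw [hn, Ideal.bot_mul]⟩
  have h0 : Nat.find hex ≠ 0 := fun h => hK (by
    have := Nat.find_spec hex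
    rwa [h, pow_zero, Ideal.one_eq_top, Ideal.top_mul] at this)
  obtain ⟨j, hj⟩ := Nat.exists_eq_succ_of_ne_zero h0
  have hne : maximalIdeal B ^ j * K ≠ ⊥ := Nat.find_min hex (by omega)
  obtain ⟨t, ht, ht0⟩ := Submodule.exists_mem_ne_zero_of_ne_bot hne
  refine ⟨t, Ideal.mul_le_right ht, ht0, fun a ha => ?_⟩
  have h1 := Ideal.mul_mem_mul ha ht
  rw [← mul_assoc, ← pow_succ'] at h1
  have := Nat.find_spec hex
  rw [hj] at this
  rwa [this, Ideal.mem_bot] at h1

end Annihilated

section Small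

variable {A B : Art Λ k} {p : B ⟶ A}

lemma smallExt_exists_gen (hp : Art.IsSmallExt p) :
    ∃ t : B, RingHom.ker p.toAlgHom = Ideal.span {t} ∧ t ≠ 0 ∧
      (∀ a ∈ maximalIdeal B, a * t = 0) ∧ p t = 0 := by
  obtain ⟨-, hne, ⟨t, ht⟩, hm⟩ := hp
  have ht' : RingHom.ker p.toAlgHom = Ideal.span {t} := by rw [ht, Ideal.submodule_span_eq]
  have htmem : t ∈ RingHom.ker p.toAlgHom := by rw [ht']; exact Ideal.mem_span_singleton_self t
  exact ⟨t, ht', fun h0 => hne (by rw [ht', h0, Ideal.span_singleton_eq_bot.2 rfl]),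
    fun a ha => mul_eq_zero_of_mem_maximalIdeal hm ha htmem, mem_ker_iff.1 htmem⟩

/-- A surjection with kernel spanned by a nonzero socle element is a small extension. -/
lemma isSmallExt_of_gen (hs : Function.Surjective p) {t : B}
    (hker : RingHom.ker p.toAlgHom = Ideal.span {t}) (ht0 : t ≠ 0)
    (ht : ∀ a ∈ maximalIdeal B, a * t = 0) : Art.IsSmallExt p := by
  refine ⟨hs, ?_, ⟨⟨t, by rw [hker, Ideal.submodule_span_eq]⟩⟩, ?_⟩
  · rw [hker, Ne, Ideal.span_singleton_eq_bot]
    exact ht0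
  · rw [← le_bot_iff, hker, Ideal.mul_le]
    intro a ha b hb
    obtain ⟨c, rfl⟩ := Ideal.mem_span_singleton'.1 hb
    rw [Ideal.mem_bot, mul_left_comm, ht a ha, mul_zero]

/-- The map `quotFactor` is surjective when the original map is. -/
lemma quotFactor_surjective {K : Ideal B} (hK : K ≤ maximalIdeal B)
    (hp : K ≤ RingHom.ker p.toAlgHom) (hs : Function.Surjective p) :
    Function.Surjective (Art.quotFactor hK p hp) := fun a => by
  obtain ⟨b, rfl⟩ := hs a
  exact ⟨Art.quotMk B K hK b, apply_congr_hom (Art.quotMk_quotFactor hK p hp) b⟩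

lemma quotMk_eq_zero_iff {K : Ideal B} (hK : K ≤ maximalIdeal B) {b : B} :
    Art.quotMk B K hK b = 0 ↔ b ∈ K := Ideal.Quotient.eq_zero_iff_mem

lemma ker_quotMk {K : Ideal B} (hK : K ≤ maximalIdeal B) :
    RingHom.ker (Art.quotMk B K hK).toAlgHom = K :=
  Ideal.ext fun _ => mem_ker_iff.trans (quotMk_eq_zero_iff hK)

/-- A morphism killing the kernel of a surjection factors through it. -/
lemma exists_factor {C : Art Λ k} (hs : Function.Surjective p) (g : B ⟶ C)
    (h : RingHom.ker p.toAlgHom ≤ RingHom.ker g.toAlgHom) : ∃ g' : A ⟶ C, p ≫ g' = g := by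
  have hK := ker_le_maximalIdeal p
  have hb : Function.Bijective (Art.quotFactor hK p le_rfl) := by
    refine ⟨fun x y e => ?_, quotFactor_surjective hK le_rfl hs⟩
    obtain ⟨a, rfl⟩ := Art.quotMk_surjective B _ hK x
    obtain ⟨b, rfl⟩ := Art.quotMk_surjective B _ hK y
    rw [← sub_eq_zero, ← map_sub, quotMk_eq_zero_iff, mem_ker_iff, map_sub, sub_eq_zero]
    exact e
  haveI := isIso_of_bijective _ hb
  refine ⟨inv (Art.quotFactor hK p le_rfl) ≫ Art.quotFactor hK g h, ?_⟩
  calc p ≫ inv (Art.quotFactor hK p le_rfl) ≫ Art.quotFactor hK g h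
      = (Art.quotMk B _ hK ≫ Art.quotFactor hK p le_rfl) ≫
          inv (Art.quotFactor hK p le_rfl) ≫ Art.quotFactor hK g h :=
        congrArg (· ≫ _) (Art.quotMk_quotFactor hK p le_rfl).symm
    _ = g := by rw [Category.assoc, IsIso.hom_inv_id_assoc, Art.quotMk_quotFactor]

end Small

/-- Induction along surjections: small extensions and isomorphisms generate them by composition. -/
lemma surj_induction (P : ∀ ⦃A B : Art Λ k⦄, (B ⟶ A) → Prop)
    (hiso : ∀ ⦃A B : Art Λ k⦄ (e : B ⟶ A), IsIso e → P e)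
    (hsmall : ∀ ⦃A B : Art Λ k⦄ (p : B ⟶ A), Art.IsSmallExt p → P p)
    (hcomp : ∀ ⦃A B C : Art Λ k⦄ (p : C ⟶ B) (q : B ⟶ A), Function.Surjective p →
      Function.Surjective q → P p → P q → P (p ≫ q))
    ⦃A B : Art Λ k⦄ (f : B ⟶ A) (hf : Function.Surjective f) : P f := by
  suffices H : ∀ (n : ℕ) ⦃A B : Art Λ k⦄ (f : B ⟶ A), (Module.length B B).toNat ≤ n →
      Function.Surjective f → P f from H _ f le_rfl hf
  clear hf f A B
  intro n
  induction n using Nat.strong_induction_on with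
  | _ n ih =>
    intro A B f hn hf
    by_cases hker : RingHom.ker f.toAlgHom = ⊥
    · refine hiso f (isIso_of_bijective f ⟨fun x y e => ?_, hf⟩)
      rw [← sub_eq_zero, ← Ideal.mem_bot, ← hker, mem_ker_iff, map_sub, sub_eq_zero]
      exact e
    · obtain ⟨t, htK, ht0, htm⟩ := exists_socle_mem hker
      have hle : Ideal.span {t} ≤ RingHom.ker f.toAlgHom := by
        rwa [Ideal.span_le, Set.singleton_subset_iff]
      have hK : Ideal.span {t} ≤ maximalIdeal B := hle.trans (ker_le_maximalIdeal f)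
      have hq : Art.IsSmallExt (Art.quotMk B _ hK) :=
        isSmallExt_of_gen (Art.quotMk_surjective B _ hK) (ker_quotMk hK) ht0 htm
      have hlt : (Module.length (Art.quot B _ hK) (Art.quot B _ hK)).toNat <
          (Module.length B B).toNat := by
        change (Module.length (B ⧸ Ideal.span {t}) (B ⧸ Ideal.span {t})).toNat < _
        have h1 : Module.length B (B ⧸ Ideal.span {t}) =
            Module.length (B ⧸ Ideal.span {t}) (B ⧸ Ideal.span {t}) :=
          Module.length_eq_of_surjective Ideal.Quotient.mk_surjective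
        have h2 : Module.length B (B ⧸ Ideal.span {t}) < Module.length B B :=
          Submodule.length_quotient_lt _ (by rw [Ne, Ideal.span_singleton_eq_bot]; exact ht0)
        have h3 : Module.length B B ≠ ⊤ := Module.length_ne_top
        rw [h1] at h2
        rwa [← ENat.coe_lt_coe, ENat.natCast_toNat h2.ne_top, ENat.natCast_toNat h3]
      rw [← Art.quotMk_quotFactor hK f hle]
      exact hcomp _ _ (Art.quotMk_surjective B _ hK) (quotFactor_surjective hK hle hf)
        (hsmall _ hq)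
        (ih _ (lt_of_lt_of_le hlt hn) _ le_rfl (quotFactor_surjective hK hle hf))

section BaseChange

variable {B A A' A'' : Art Λ k} {p' : B ⟶ A'} {p'' : B ⟶ A''} {f' : A' ⟶ A} {f'' : A'' ⟶ A}

/-- Base change of a small extension is a small extension. -/
lemma isSmallExt_fst (h : Art.IsFibreProd p' p'' f' f'') (hf : Art.IsSmallExt f'') :
    Art.IsSmallExt p' := by
  obtain ⟨t, hker, ht0, htm, ht⟩ := smallExt_exists_gen hf
  obtain ⟨s, hs₁, hs₂⟩ := h.surj 0 t (by rw [map_zero, ht])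
  refine isSmallExt_of_gen (t := s) (fp_fst_surjective h hf.1) ?_ (fun e => ht0 ?_) fun a ha => ?_
  · refine le_antisymm (fun x hx => ?_) ?_
    · rw [mem_ker_iff] at hx
      have hx2 : p'' x ∈ Ideal.span {t} := by
        rw [← hker, mem_ker_iff, ← h.w_apply, hx, map_zero]
      obtain ⟨c, hc⟩ := Ideal.mem_span_singleton'.1 hx2
      obtain ⟨a', ha'⟩ := A'.res_surjective (A''.res c)
      obtain ⟨b, hb⟩ := fp_fst_surjective h hf.1 a'
      refine Ideal.mem_span_singleton'.2 ⟨b, h.inj _ _ ?_ ?_⟩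
      · rw [map_mul, hs₁, mul_zero, hx]
      · rw [map_mul, hs₂, ← hc]
        refine mul_eq_mul_of_res_eq hf.2.2.2 ?_ (mem_ker_iff.2 ht)
        rw [Art.res_app, ← Art.res_app p', hb, ha']
    · rw [Ideal.span_le, Set.singleton_subset_iff]
      exact mem_ker_iff.2 hs₁
  · rw [← hs₂, e, map_zero]
  · exact h.inj _ _ (by rw [map_mul, hs₁, mul_zero, map_zero])
      (by rw [map_mul, hs₂, map_zero, htm _ (map_mem_maximalIdeal p'' ha)])

end BaseChange

section Functor

variable (F : Art Λ k ⥤ Type v)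

/-- A property of comparison maps holding over small extensions, holding over isomorphisms and stable under pasting
holds over all surjections; the two instances used are surjectivity and bijectivity. -/
lemma s1_of_hbar (h : Hbar F) : S1 F := by
  intro B A A' A'' p' p'' f' f'' hsq hf''
  let P : ∀ ⦃A A'' : Art Λ k⦄, (A'' ⟶ A) → Prop := fun A A'' f'' =>
    ∀ ⦃B A' : Art Λ k⦄ (p' : B ⟶ A') (p'' : B ⟶ A'') (f' : A' ⟶ A)
      (h : Art.IsFibreProd p' p'' f' f''), Function.Surjective (cmp F h)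
  refine surj_induction P ?_ ?_ ?_ f'' hf'' p' p'' f' hsq
  · intro A B e he B' A' p' p'' f' hsq
    haveI : IsIso p' := isIso_of_bijective p' (fp_fst_bijective hsq (bijective_of_isIso e))
    rw [cmp_surjective_iff]
    intro x y hxy
    refine ⟨F.map (inv p') x, map_inv_hom F p' x, (map_bijective_of_isIso F e).1 ?_⟩
    rw [← hxy]
    conv_rhs => rw [← map_inv_hom F p' x, map_map, hsq.w, ← map_map]
  · intro A B p hp B' A' p' p'' f' hsq
    exact h p' p'' f' p hsq hp
  · intro A B C p q hp hq hP hQ B' A' p' p'' f' hsq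
    obtain ⟨D, d', d'', hD⟩ := exists_isFibreProd_of_surjective f' q hq
    obtain ⟨c, hc₁, hc₂⟩ := fp_exists_lift hD p' (p'' ≫ p) (by rw [hsq.w, Category.assoc])
    subst hc₁
    have hC := fp_cancel hD hc₂ hsq
    rw [cmp_surjective_iff]
    intro x y hxy
    obtain ⟨d, hd₁, hd₂⟩ := exists_of_cmp_surjective (hQ d' d'' f' hD) x (F.map p y)
      (by rw [hxy, map_map])
    obtain ⟨z, hz₁, hz₂⟩ := exists_of_cmp_surjective (hP c p'' d'' hC) d y hd₂
    exact ⟨z, by rw [← map_map, hz₁, hd₁], hz₂⟩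

lemma hbar_of_s1 (h : S1 F) : Hbar F := fun _ _ _ _ p' p'' f' f'' hsq hf => h p' p'' f' f'' hsq hf.1

/-- Bijectivity of comparison maps over small extensions gives it over all surjections. -/
lemma rs_of_smallExt
    (h : ∀ ⦃B A A' A'' : Art Λ k⦄ (p' : B ⟶ A') (p'' : B ⟶ A'') (f' : A' ⟶ A) (f'' : A'' ⟶ A)
      (h : Art.IsFibreProd p' p'' f' f''), Art.IsSmallExt f'' → Function.Bijective (cmp F h))
    ⦃B A A' A'' : Art Λ k⦄ (p' : B ⟶ A') (p'' : B ⟶ A'') (f' : A' ⟶ A) (f'' : A'' ⟶ A)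
    (hsq : Art.IsFibreProd p' p'' f' f'') (hf'' : Function.Surjective f'') :
    Function.Bijective (cmp F hsq) := by
  refine ⟨?_, s1_of_hbar F (fun _ _ _ _ p' p'' f' f'' hsq hf => (h p' p'' f' f'' hsq hf).2)
    p' p'' f' f'' hsq hf''⟩
  let P : ∀ ⦃A A'' : Art Λ k⦄, (A'' ⟶ A) → Prop := fun A A'' f'' =>
    ∀ ⦃B A' : Art Λ k⦄ (p' : B ⟶ A') (p'' : B ⟶ A'') (f' : A' ⟶ A)
      (h : Art.IsFibreProd p' p'' f' f''), Function.Injective (cmp F h)
  refine surj_induction P ?_ ?_ ?_ f'' hf'' p' p'' f' hsq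
  · intro A B e he B' A' p' p'' f' hsq z₁ z₂ e12
    haveI : IsIso p' := isIso_of_bijective p' (fp_fst_bijective hsq (bijective_of_isIso e))
    exact (map_bijective_of_isIso F p').1 (congrArg (fun x => x.1.1) e12)
  · intro A B p hp B' A' p' p'' f' hsq
    exact (h p' p'' f' p hsq hp).1
  · intro A B C p q hp hq hP hQ B' A' p' p'' f' hsq
    obtain ⟨D, d', d'', hD⟩ := exists_isFibreProd_of_surjective f' q hq
    obtain ⟨c, hc₁, hc₂⟩ := fp_exists_lift hD p' (p'' ≫ p) (by rw [hsq.w, Category.assoc])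
    subst hc₁
    have hC := fp_cancel hD hc₂ hsq
    intro z₁ z₂ e12
    have e₁ : F.map (c ≫ d') z₁ = F.map (c ≫ d') z₂ := congrArg (fun x => x.1.1) e12
    have e₂ : F.map p'' z₁ = F.map p'' z₂ := congrArg (fun x => x.1.2) e12
    refine eq_of_cmp_injective (hP c p'' d'' hC) (eq_of_cmp_injective (hQ d' d'' f' hD) ?_ ?_) e₂
    · rw [map_map, map_map]; exact e₁
    · rw [map_map, map_map, hc₂, ← map_map, e₂, map_map]

end Functor

end GrothLib.ArtFun
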