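import Groth.Prelude.Def_ArtFun2
import Mathlib.RingTheory.LocalRing.Pullback
import Mathlib.RingTheory.LocalRing.Length
import Mathlib.RingTheory.HopkinsLevitzki
import Mathlib.CategoryTheory.Types.Basic

/-!
# Functors of Artin rings: basic lemmas

Elementary facts about `ArtFun.Art Λ k`: maximal ideals, isomorphisms, universal property and
existence of fibre products.
-/

universe u v

namespace GrothLib.ArtFun

open _root_.ArtFun CategoryTheory IsLocalRing

variable {Λ : Type u} {k : Type u} [CommRing Λ] [Field k] [Algebra Λ k]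

section Basic

lemma exists_pow_maximalIdeal_eq_bot (A : Art Λ k) : ∃ n : ℕ, maximalIdeal A ^ n = ⊥ := by
  obtain ⟨n, hn⟩ := (isArtinianRing_iff_isNilpotent_maximalIdeal A).1 inferInstance
  exact ⟨n, hn⟩

lemma res_eq_zero_iff {A : Art Λ k} {a : A} : A.res a = 0 ↔ a ∈ maximalIdeal A :=
  (A.mem_maximalIdeal_iff a).symm

lemma map_mem_maximalIdeal {A B : Art Λ k} (f : A ⟶ B) {a : A} (ha : a ∈ maximalIdeal A) :
    f a ∈ maximalIdeal B := by
  rw [← res_eq_zero_iff, Art.res_app, res_eq_zero_iff]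
  exact ha

lemma isUnit_iff_res_ne_zero {A : Art Λ k} {a : A} : IsUnit a ↔ A.res a ≠ 0 := by
  rw [Ne, res_eq_zero_iff, IsLocalRing.notMem_maximalIdeal]

lemma mem_ker_iff {A B : Art Λ k} {f : A ⟶ B} {a : A} : a ∈ RingHom.ker f.toAlgHom ↔ f a = 0 :=
  RingHom.mem_ker

lemma ker_le_maximalIdeal {A B : Art Λ k} (f : A ⟶ B) :
    RingHom.ker f.toAlgHom ≤ maximalIdeal A := by
  intro a ha
  rw [← res_eq_zero_iff, ← Art.res_app f, mem_ker_iff.1 ha, map_zero]

lemma hom_ext_apply {A B : Art Λ k} {f g : A ⟶ B} (h : ∀ a : A, f a = g a) : f = g :=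
  Art.hom_ext (AlgHom.ext h)

lemma apply_congr_hom {A B : Art Λ k} {f g : A ⟶ B} (h : f = g) (a : A) : f a = g a := by rw [h]

/-- A bijective morphism is an isomorphism. -/
noncomputable def isoOfBijective {A B : Art Λ k} (f : A ⟶ B) (hf : Function.Bijective f) :
    A ≅ B where
  hom := f
  inv := Art.homMk (AlgEquiv.ofBijective f.toAlgHom hf).symm.toAlgHom (by
    apply AlgHom.ext
    intro b
    obtain ⟨a, rfl⟩ := hf.2 b
    have : (AlgEquiv.ofBijective f.toAlgHom hf).symm (f a) = a :=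
      (AlgEquiv.ofBijective f.toAlgHom hf).symm_apply_apply a
    change A.res ((AlgEquiv.ofBijective f.toAlgHom hf).symm (f a)) = B.res (f a)
    rw [this, Art.res_app])
  hom_inv_id := hom_ext_apply fun a => (AlgEquiv.ofBijective f.toAlgHom hf).symm_apply_apply a
  inv_hom_id := hom_ext_apply fun b => (AlgEquiv.ofBijective f.toAlgHom hf).apply_symm_apply b

@[simp] lemma isoOfBijective_hom {A B : Art Λ k} (f : A ⟶ B) (hf : Function.Bijective f) :
    (isoOfBijective f hf).hom = f := rfl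

lemma isIso_of_bijective {A B : Art Λ k} (f : A ⟶ B) (hf : Function.Bijective f) : IsIso f :=
  (isoOfBijective f hf).isIso_hom

lemma bijective_of_isIso {A B : Art Λ k} (f : A ⟶ B) [IsIso f] : Function.Bijective f :=
  Function.bijective_iff_has_inverse.2
    ⟨inv f, fun a => apply_congr_hom (IsIso.hom_inv_id f) a,
      fun b => apply_congr_hom (IsIso.inv_hom_id f) b⟩

lemma toBase_surjective (A : Art Λ k) : Function.Surjective (Art.toBase A) := A.res_surjective

lemma comp_surjective {A B C : Art Λ k} (f : A ⟶ B) (g : B ⟶ C) (hf : Function.Surjective f)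
    (hg : Function.Surjective g) : Function.Surjective (f ≫ g) :=
  fun c => by
    obtain ⟨b, rfl⟩ := hg c
    obtain ⟨a, rfl⟩ := hf b
    exact ⟨a, rfl⟩

lemma surjective_of_comp {A B C : Art Λ k} (f : A ⟶ B) (g : B ⟶ C)
    (h : Function.Surjective (f ≫ g)) : Function.Surjective g :=
  fun c => by
    obtain ⟨a, rfl⟩ := h c
    exact ⟨f a, rfl⟩

end Basic

section Functor

variable (F : Art Λ k ⥤ Type v)

lemma map_map {A B C : Art Λ k} (f : A ⟶ B) (g : B ⟶ C) (x : F.obj A) :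
    F.map g (F.map f x) = F.map (f ≫ g) x := (FunctorToTypes.map_comp_apply F f g x).symm

lemma map_id' {A : Art Λ k} (x : F.obj A) : F.map (𝟙 A) x = x :=
  FunctorToTypes.map_id_apply F x

lemma map_hom_inv {A B : Art Λ k} (f : A ⟶ B) [IsIso f] (x : F.obj A) :
    F.map (inv f) (F.map f x) = x := by rw [map_map, IsIso.hom_inv_id, map_id']

lemma map_inv_hom {A B : Art Λ k} (f : A ⟶ B) [IsIso f] (x : F.obj B) :
    F.map f (F.map (inv f) x) = x := by rw [map_map, IsIso.inv_hom_id, map_id']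

lemma map_bijective_of_isIso {A B : Art Λ k} (f : A ⟶ B) [IsIso f] :
    Function.Bijective (F.map f) :=
  Function.bijective_iff_has_inverse.2 ⟨F.map (inv f), map_hom_inv F f, map_inv_hom F f⟩

variable {F}

lemma cmp_fst {B A A' A'' : Art Λ k} {p' : B ⟶ A'} {p'' : B ⟶ A''} {f' : A' ⟶ A} {f'' : A'' ⟶ A}
    (h : Art.IsFibreProd p' p'' f' f'') (z : F.obj B) : (cmp F h z).1.1 = F.map p' z := rfl

lemma cmp_snd {B A A' A'' : Art Λ k} {p' : B ⟶ A'} {p'' : B ⟶ A''} {f' : A' ⟶ A} {f'' : A'' ⟶ A}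
    (h : Art.IsFibreProd p' p'' f' f'') (z : F.obj B) : (cmp F h z).1.2 = F.map p'' z := rfl

lemma cmp_eq_iff {B A A' A'' : Art Λ k} {p' : B ⟶ A'} {p'' : B ⟶ A''} {f' : A' ⟶ A} {f'' : A'' ⟶ A}
    (h : Art.IsFibreProd p' p'' f' f'') (z : F.obj B) (x : FibProd F f' f'') :
    cmp F h z = x ↔ F.map p' z = x.1.1 ∧ F.map p'' z = x.1.2 :=
  ⟨fun e => by subst e; exact ⟨rfl, rfl⟩, fun e => FibProd.ext e.1 e.2⟩

lemma exists_of_cmp_surjective {B A A' A'' : Art Λ k} {p' : B ⟶ A'} {p'' : B ⟶ A''} {f' : A' ⟶ A}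
    {f'' : A'' ⟶ A} {h : Art.IsFibreProd p' p'' f' f''} (hs : Function.Surjective (cmp F h))
    (x : F.obj A') (y : F.obj A'') (hxy : F.map f' x = F.map f'' y) :
    ∃ z : F.obj B, F.map p' z = x ∧ F.map p'' z = y := by
  obtain ⟨z, hz⟩ := hs ⟨(x, y), hxy⟩
  exact ⟨z, (cmp_eq_iff h z _).1 hz⟩

lemma eq_of_cmp_injective {B A A' A'' : Art Λ k} {p' : B ⟶ A'} {p'' : B ⟶ A''} {f' : A' ⟶ A}
    {f'' : A'' ⟶ A} {h : Art.IsFibreProd p' p'' f' f''} (hs : Function.Injective (cmp F h))
    {z₁ z₂ : F.obj B} (h₁ : F.map p' z₁ = F.map p' z₂) (h₂ : F.map p'' z₁ = F.map p'' z₂) :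
    z₁ = z₂ :=
  hs (FibProd.ext h₁ h₂)

lemma cmp_surjective_iff {B A A' A'' : Art Λ k} {p' : B ⟶ A'} {p'' : B ⟶ A''} {f' : A' ⟶ A}
    {f'' : A'' ⟶ A} (h : Art.IsFibreProd p' p'' f' f'') :
    Function.Surjective (cmp F h) ↔ ∀ (x : F.obj A') (y : F.obj A''), F.map f' x = F.map f'' y →
      ∃ z : F.obj B, F.map p' z = x ∧ F.map p'' z = y :=
  ⟨fun hs => exists_of_cmp_surjective hs, fun hs x => by
    obtain ⟨z, h₁, h₂⟩ := hs x.1.1 x.1.2 x.2
    exact ⟨z, FibProd.ext h₁ h₂⟩⟩

end Functor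

section FibreProd

variable {B A A' A'' : Art Λ k} {p' : B ⟶ A'} {p'' : B ⟶ A''} {f' : A' ⟶ A} {f'' : A'' ⟶ A}

lemma fp_hom_ext (h : Art.IsFibreProd p' p'' f' f'') {C : Art Λ k} {g₁ g₂ : C ⟶ B}
    (h₁ : g₁ ≫ p' = g₂ ≫ p') (h₂ : g₁ ≫ p'' = g₂ ≫ p'') : g₁ = g₂ :=
  hom_ext_apply fun c => h.inj _ _ (apply_congr_hom h₁ c) (apply_congr_hom h₂ c)

/-- Two algebra maps into the corners of a fibre product square, agreeing below, factor through it. -/
lemma fp_exists_algHom (h : Art.IsFibreProd p' p'' f' f'') {R : Type*} [CommRing R] [Algebra Λ R]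
    (a : R →ₐ[Λ] A') (b : R →ₐ[Λ] A'') (hab : f'.toAlgHom.comp a = f''.toAlgHom.comp b) :
    ∃ c : R →ₐ[Λ] B, p'.toAlgHom.comp c = a ∧ p''.toAlgHom.comp c = b := by
  have H : ∀ r : R, ∃ x : B, p' x = a r ∧ p'' x = b r := fun r =>
    h.surj (a r) (b r) (DFunLike.congr_fun hab r)
  choose c hc₁ hc₂ using H
  have hinj : Function.Injective (p'.toAlgHom.prod p''.toAlgHom) := fun x y e =>
    h.inj x y (congrArg Prod.fst e) (congrArg Prod.snd e)
  have hc : ∀ r, p'.toAlgHom.prod p''.toAlgHom (c r) = a.prod b r := fun r =>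
    Prod.ext (hc₁ r) (hc₂ r)
  refine ⟨{ toFun := c, map_one' := hinj (by rw [hc, map_one, map_one])
            map_mul' := fun x y => hinj (by rw [map_mul, hc, hc, hc, map_mul])
            map_zero' := hinj (by rw [hc, map_zero, map_zero])
            map_add' := fun x y => hinj (by rw [map_add, hc, hc, hc, map_add])
            commutes' := fun l => hinj (by rw [hc, AlgHom.commutes, AlgHom.commutes]) },
    AlgHom.ext hc₁, AlgHom.ext hc₂⟩

/-- The universal property of a fibre product square. -/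
lemma fp_exists_lift (h : Art.IsFibreProd p' p'' f' f'') {C : Art Λ k} (a : C ⟶ A') (b : C ⟶ A'')
    (hab : a ≫ f' = b ≫ f'') : ∃ c : C ⟶ B, c ≫ p' = a ∧ c ≫ p'' = b := by
  obtain ⟨c, h₁, h₂⟩ := fp_exists_algHom h a.toAlgHom b.toAlgHom (congrArg Art.Hom.toAlgHom hab)
  refine ⟨Art.homMk c ?_, Art.hom_ext h₁, Art.hom_ext h₂⟩
  rw [← p'.res_comp, AlgHom.comp_assoc, h₁, a.res_comp]

lemma fp_symm (h : Art.IsFibreProd p' p'' f' f'') : Art.IsFibreProd p'' p' f'' f' where
  w := h.w.symm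
  inj b₁ b₂ h₁ h₂ := h.inj b₁ b₂ h₂ h₁
  surj a'' a' e := by
    obtain ⟨b, h₁, h₂⟩ := h.surj a' a'' e.symm
    exact ⟨b, h₂, h₁⟩

lemma fp_fst_surjective (h : Art.IsFibreProd p' p'' f' f'') (hf : Function.Surjective f'') :
    Function.Surjective p' := fun a' => by
  obtain ⟨a'', ha⟩ := hf (f' a')
  obtain ⟨b, hb, -⟩ := h.surj a' a'' ha.symm
  exact ⟨b, hb⟩

lemma fp_snd_surjective (h : Art.IsFibreProd p' p'' f' f'') (hf : Function.Surjective f') :
    Function.Surjective p'' := fp_fst_surjective (fp_symm h) hf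

lemma fp_fst_bijective (h : Art.IsFibreProd p' p'' f' f'') (hf : Function.Bijective f'') :
    Function.Bijective p' := by
  refine ⟨fun x y e => h.inj x y e (hf.1 ?_), fp_fst_surjective h hf.2⟩
  rw [← h.w_apply, ← h.w_apply, e]

/-- Horizontal pasting: the fibre product along a composite. -/
lemma fp_paste {D M : Art Λ k} {d' : D ⟶ A'} {d'' : D ⟶ M} {g : M ⟶ A}
    (hD : Art.IsFibreProd d' d'' f' g) {C : Art Λ k} {c' : C ⟶ D} {c'' : C ⟶ A''} {e : A'' ⟶ M}
    (hC : Art.IsFibreProd c' c'' d'' e) : Art.IsFibreProd (c' ≫ d') c'' f' (e ≫ g) where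
  w := by rw [Category.assoc, hD.w, ← Category.assoc, hC.w, Category.assoc]
  inj x y h₁ h₂ := by
    refine hC.inj x y (hD.inj _ _ h₁ ?_) h₂
    rw [hC.w_apply, hC.w_apply, h₂]
  surj a' a'' e' := by
    obtain ⟨d, hd₁, hd₂⟩ := hD.surj a' (e a'') e'
    obtain ⟨c, hc₁, hc₂⟩ := hC.surj d a'' hd₂
    exact ⟨c, (congrArg d' hc₁).trans hd₁, hc₂⟩

/-- Cancellation: if the composite square and the left one are cartesian, so is the right one. -/
lemma fp_cancel {D M : Art Λ k} {d' : D ⟶ A'} {d'' : D ⟶ M} {g : M ⟶ A}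
    (hD : Art.IsFibreProd d' d'' f' g) {C : Art Λ k} {c' : C ⟶ D} {c'' : C ⟶ A''} {e : A'' ⟶ M}
    (hw : c' ≫ d'' = c'' ≫ e) (hC : Art.IsFibreProd (c' ≫ d') c'' f' (e ≫ g)) :
    Art.IsFibreProd c' c'' d'' e where
  w := hw
  inj x y h₁ h₂ := hC.inj x y (congrArg d' h₁) h₂
  surj d a'' e' := by
    obtain ⟨c, hc₁, hc₂⟩ := hC.surj (d' d) a'' ((hD.w_apply d).trans (congrArg g e'))
    refine ⟨c, hD.inj _ _ hc₁ ?_, hc₂⟩
    rw [e', ← hc₂]
    exact apply_congr_hom hw c

/-- Two fibre products of the same pair of maps are uniquely isomorphic. -/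
lemma fp_exists_iso (h : Art.IsFibreProd p' p'' f' f'') {B' : Art Λ k} {q' : B' ⟶ A'} {q'' : B' ⟶ A''}
    (h' : Art.IsFibreProd q' q'' f' f'') :
    ∃ e : B' ⟶ B, IsIso e ∧ e ≫ p' = q' ∧ e ≫ p'' = q'' := by
  obtain ⟨e, e₁, e₂⟩ := fp_exists_lift h q' q'' h'.w
  obtain ⟨d, d₁, d₂⟩ := fp_exists_lift h' p' p'' h.w
  refine ⟨e, ⟨d, fp_hom_ext h' ?_ ?_, fp_hom_ext h ?_ ?_⟩, e₁, e₂⟩
  · rw [Category.assoc, d₁, e₁, Category.id_comp]
  · rw [Category.assoc, d₂, e₂, Category.id_comp]
  · rw [Category.assoc, e₁, d₁, Category.id_comp]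
  · rw [Category.assoc, e₂, d₂, Category.id_comp]

/-- The square over an isomorphism is cartesian. -/
lemma fp_of_id (f : A' ⟶ A) : Art.IsFibreProd (𝟙 A') f f (𝟙 A) where
  w := by rw [Category.id_comp, Category.comp_id]
  inj _ _ h₁ _ := h₁
  surj a' a'' e := ⟨a', rfl, e⟩

end FibreProd

section Construct

/-- Restriction along a local map with surjective map on residue fields keeps the length. -/
lemma length_eq_of_residue_surjective {B A : Type u} [CommRing B] [CommRing A] [IsLocalRing B]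
    [IsLocalRing A] [Algebra B A] [IsLocalHom (algebraMap B A)]
    (hres : ∀ a : A, ∃ b : B, a - algebraMap B A b ∈ maximalIdeal A)
    (M : Type*) [AddCommGroup M] [Module A M] [Module B M] [IsScalarTower B A M] :
    Module.length B M = Module.length A M := by
  have hs : Function.Surjective (algebraMap (ResidueField B) (ResidueField A)) := by
    intro x
    obtain ⟨a, rfl⟩ := residue_surjective x
    obtain ⟨b, hb⟩ := hres a
    refine ⟨residue B b, ?_⟩
    rw [eq_comm, ← sub_eq_zero]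
    have := (residue_eq_zero_iff _).2 hb
    rw [map_sub] at this
    exact this
  rw [IsLocalRing.length_restrictScalars B A M,
    Module.length_eq_of_surjective (M := ResidueField A) (R := ResidueField A) hs,
    Module.length_eq_one (ResidueField A) (ResidueField A), mul_one]

variable {A A' A'' : Art Λ k} (f' : A' ⟶ A) (f'' : A'' ⟶ A)

/-- `A' ×_A A''` is Artinian as soon as its map to the residue field is surjective. -/
lemma isArtinianRing_pullback
    (hres : ∀ c : k, ∃ a' : A', ∃ a'' : A'', f' a' = f'' a'' ∧ A'.res a' = c) :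
    IsArtinianRing (AlgHom.pullback f'.toAlgHom f''.toAlgHom) := by
  haveI := Art.isLocalHom f''
  haveI : IsLocalRing (AlgHom.pullback f'.toAlgHom f''.toAlgHom) :=
    AlgHom.isLocalRing_pullback _ _
  let B := AlgHom.pullback f'.toAlgHom f''.toAlgHom
  letI : Algebra B A' := (AlgHom.pullbackFst f'.toAlgHom f''.toAlgHom).toRingHom.toAlgebra
  letI : Algebra B A'' := (AlgHom.pullbackSnd f'.toAlgHom f''.toAlgHom).toRingHom.toAlgebra
  have key : ∀ b : B, A''.res (b : A' × A'').2 = A'.res (b : A' × A'').1 := fun b => by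
    rw [← Art.res_app f'', ← Art.res_app f']
    exact congrArg A.res (b.2 : f'.toAlgHom (b : A' × A'').1 = f''.toAlgHom (b : A' × A'').2).symm
  haveI : IsLocalHom (algebraMap B A') := ⟨fun b hb => by
    have hb' : IsUnit (b : A' × A'').1 := hb
    refine (AlgHom.isUnit_pullback_mk_iff _ _ b.2).2 ⟨hb', ?_⟩
    rw [isUnit_iff_res_ne_zero, key, ← isUnit_iff_res_ne_zero]
    exact hb'⟩
  haveI : IsLocalHom (algebraMap B A'') := ⟨fun b hb => by
    have hb' : IsUnit (b : A' × A'').2 := hb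
    refine (AlgHom.isUnit_pullback_mk_iff _ _ b.2).2 ⟨?_, hb'⟩
    rw [isUnit_iff_res_ne_zero, ← key, ← isUnit_iff_res_ne_zero]
    exact hb'⟩
  have h1 : Module.length B A' = Module.length A' A' := by
    refine length_eq_of_residue_surjective (fun a => ?_) A'
    obtain ⟨x, y, hxy, hx⟩ := hres (A'.res a)
    refine ⟨⟨(x, y), hxy⟩, ?_⟩
    rw [← res_eq_zero_iff, map_sub, sub_eq_zero]
    exact hx.symm
  have h2 : Module.length B A'' = Module.length A'' A'' := by
    refine length_eq_of_residue_surjective (fun a => ?_) A''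
    obtain ⟨x, y, hxy, hx⟩ := hres (A''.res a)
    refine ⟨⟨(x, y), hxy⟩, ?_⟩
    rw [← res_eq_zero_iff, map_sub, sub_eq_zero]
    exact hx.symm.trans (key ⟨(x, y), hxy⟩).symm
  let l : B →ₗ[B] A' × A'' := (Algebra.linearMap B A').prod (Algebra.linearMap B A'')
  have hl : Function.Injective l := fun x y e =>
    Subtype.ext (Prod.ext (congrArg Prod.fst e : _) (congrArg Prod.snd e : _))
  have hlen : Module.length B B ≤ Module.length A' A' + Module.length A'' A'' := by
    refine (Module.length_le_of_injective l hl).trans ?_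
    exact le_of_eq ((Module.length_prod B A' A'').trans (congrArg₂ (· + ·) h1 h2))
  have : IsNoetherianRing A' := inferInstance
  have : IsNoetherianRing A'' := inferInstance
  have htop : Module.length B B ≠ ⊤ :=
    ne_top_of_le_ne_top (by simp [Module.length_ne_top]) hlen
  exact (isFiniteLength_iff_isNoetherian_isArtinian.1 (Module.length_ne_top_iff.1 htop)).2

/-- The set-theoretic fibre product as an object. -/
noncomputable def fibreProd
    (hres : ∀ c : k, ∃ a' : A', ∃ a'' : A'', f' a' = f'' a'' ∧ A'.res a' = c) : Art Λ k :=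
  haveI := Art.isLocalHom f''
  haveI : IsLocalRing (AlgHom.pullback f'.toAlgHom f''.toAlgHom) :=
    AlgHom.isLocalRing_pullback _ _
  haveI := isArtinianRing_pullback f' f'' hres
  Art.of (AlgHom.pullback f'.toAlgHom f''.toAlgHom)
    (A'.res.comp (AlgHom.pullbackFst f'.toAlgHom f''.toAlgHom)) fun c => by
      obtain ⟨x, y, hxy, hx⟩ := hres c
      exact ⟨⟨(x, y), hxy⟩, hx⟩

/-- Fibre products exist as soon as the residue map of the set-theoretic one is surjective. -/
lemma exists_isFibreProd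
    (hres : ∀ c : k, ∃ a' : A', ∃ a'' : A'', f' a' = f'' a'' ∧ A'.res a' = c) :
    ∃ (B : Art Λ k) (p' : B ⟶ A') (p'' : B ⟶ A''), Art.IsFibreProd p' p'' f' f'' := by
  refine ⟨fibreProd f' f'' hres,
    Art.homMk (AlgHom.pullbackFst f'.toAlgHom f''.toAlgHom) rfl,
    Art.homMk (AlgHom.pullbackSnd f'.toAlgHom f''.toAlgHom) ?_, ?_⟩
  · refine AlgHom.ext fun b => ?_
    change A''.res (b.1.2) = A'.res (b.1.1)
    rw [← Art.res_app f'', ← Art.res_app f']
    exact congrArg A.res b.2.symm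
  · exact
      { w := hom_ext_apply fun b => b.2
        inj := fun b₁ b₂ h₁ h₂ => Subtype.ext (Prod.ext h₁ h₂)
        surj := fun a' a'' e => ⟨⟨(a', a''), e⟩, rfl, rfl⟩ }

/-- Fibre products exist when the second map is surjective. -/
lemma exists_isFibreProd_of_surjective (hf : Function.Surjective f'') :
    ∃ (B : Art Λ k) (p' : B ⟶ A') (p'' : B ⟶ A''), Art.IsFibreProd p' p'' f' f'' :=
  exists_isFibreProd f' f'' fun c => by
    obtain ⟨a', rfl⟩ := A'.res_surjective c
    obtain ⟨a'', ha⟩ := hf (f' a')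
    exact ⟨a', a'', ha.symm, rfl⟩

end Construct

end GrothLib.ArtFun
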