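import Groth.Agent.Lib.ArtFun.Formal
import Groth.Agent.Lib.AdicLim.Finite

/-!
# Functors of Artin rings: quotients of coefficient rings, cofinality
-/

universe u v

namespace GrothLib.ArtFun

open _root_.ArtFun CategoryTheory IsLocalRing

variable {Λ : Type u} {k : Type u} [CommRing Λ] [Field k] [Algebra Λ k]

/-- The quotient of a coefficient ring by a proper ideal. -/
lemma exists_cring_quot (S : CRing Λ k) (J : Ideal S.carrier) (hJ : J ≤ maximalIdeal S.carrier) :
    ∃ (R : CRing Λ k) (π : S.carrier →ₐ[Λ] R.carrier), R.res.comp π = S.res ∧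
      Function.Surjective π ∧ RingHom.ker π = J := by
  haveI : Nontrivial (S.carrier ⧸ J) :=
    Ideal.Quotient.nontrivial_iff.2 (fun h =>
      (IsLocalRing.maximalIdeal.isMaximal S.carrier).ne_top (top_le_iff.1 (h ▸ hJ)))
  haveI : IsLocalRing (S.carrier ⧸ J) :=
    IsLocalRing.of_surjective' (Ideal.Quotient.mk J) Ideal.Quotient.mk_surjective
  haveI := S.isAdicComplete
  have hc : IsAdicComplete (maximalIdeal S.carrier) (S.carrier ⧸ J) :=
    GrothLib.AdicLim.isAdicComplete_of_finite _ _
  let res : S.carrier ⧸ J →ₐ[Λ] k :=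
    Ideal.Quotient.liftₐ J S.res fun a ha => (CRing.mem_maximalIdeal_iff S a).1 (hJ ha)
  have hmap : maximalIdeal (S.carrier ⧸ J) =
      (maximalIdeal S.carrier).map (algebraMap S.carrier (S.carrier ⧸ J)) := by
    refine le_antisymm (fun x hx => ?_) ?_
    · obtain ⟨a, rfl⟩ := Ideal.Quotient.mk_surjective x
      refine Ideal.mem_map_of_mem _ ?_
      rw [IsLocalRing.mem_maximalIdeal] at hx ⊢
      exact fun hu => hx (hu.map (Ideal.Quotient.mk J))
    · refine Ideal.map_le_iff_le_comap.2 fun a ha => ?_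
      rw [Ideal.mem_comap, IsLocalRing.mem_maximalIdeal]
      intro hu
      have h2 : IsUnit (res (Ideal.Quotient.mk J a)) := hu.map res
      have h3 : res (Ideal.Quotient.mk J a) = 0 := (CRing.mem_maximalIdeal_iff S a).1 ha
      rw [h3] at h2
      exact not_isUnit_zero h2
  refine ⟨{ carrier := S.carrier ⧸ J
            res := res
            res_surjective := fun c => ?_
            isAdicComplete := hmap ▸ (IsAdicComplete.map_algebraMap_iff _ _).2 hc },
    Ideal.Quotient.mkₐ Λ J, AlgHom.ext fun _ => rfl, Ideal.Quotient.mk_surjective, Ideal.mk_ker⟩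
  obtain ⟨a, rfl⟩ := S.res_surjective c
  exact ⟨Ideal.Quotient.mk J a, rfl⟩

/-- In an Artinian ring a decreasing sequence of ideals is eventually constant; transported to
ideals of a coefficient ring containing `m^(n+1)`. -/
lemma exists_stable_sup (S : CRing Λ k) (J : ℕ → Ideal S.carrier) (hJ : Antitone J) (n : ℕ) :
    ∃ N, ∀ q, N ≤ q → J q ⊔ CRing.mpow S n = J N ⊔ CRing.mpow S n := by
  haveI := CRing.isArtinianRing_quot_mpow S n
  let g : ℕ →o (Ideal (S.carrier ⧸ CRing.mpow S n))ᵒᵈ :=
    ⟨fun q => OrderDual.toDual ((J q).map (Ideal.Quotient.mk (CRing.mpow S n))),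
      fun a b h => Ideal.map_mono (hJ h)⟩
  obtain ⟨N, hN⟩ := IsArtinian.monotone_stabilizes g
  refine ⟨N, fun q hq => ?_⟩
  have h := congrArg OrderDual.ofDual (hN q hq)
  have h' : ((J N).map (Ideal.Quotient.mk (CRing.mpow S n))).comap (Ideal.Quotient.mk (CRing.mpow S n)) =
      ((J q).map (Ideal.Quotient.mk (CRing.mpow S n))).comap (Ideal.Quotient.mk (CRing.mpow S n)) :=
    congrArg (Ideal.comap _) h
  rw [Ideal.comap_map_of_surjective' _ Ideal.Quotient.mk_surjective,
    Ideal.comap_map_of_surjective' _ Ideal.Quotient.mk_surjective, Ideal.mk_ker] at h'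
  exact h'.symm

/-- Chevalley's lemma for a decreasing sequence of open ideals. -/
lemma exists_le_iInf_sup (S : CRing Λ k) (J : ℕ → Ideal S.carrier) (hJ : Antitone J)
    (hopen : ∀ q, ∃ N, CRing.mpow S N ≤ J q) (n : ℕ) : ∃ q, J q ≤ (⨅ q, J q) ⊔ CRing.mpow S n := by
  haveI := S.isAdicComplete
  choose N hN using fun n => exists_stable_sup S J hJ n
  let X : ℕ → Ideal S.carrier := fun i => J (N i) ⊔ CRing.mpow S i
  have hX : ∀ i q, X i ≤ J q ⊔ CRing.mpow S i := fun i q => by
    rcases le_total (N i) q with h | h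
    · exact (hN i q h).ge
    · exact sup_le_sup_right (hJ h) _
  have hXs : ∀ i, X i ≤ X (i + 1) ⊔ CRing.mpow S i := fun i => by
    refine sup_le ?_ le_sup_right
    refine le_trans ?_ (sup_le_sup_right (le_sup_left : J (N (i + 1)) ≤ X (i + 1)) _)
    exact le_sup_left.trans (hX i (N (i + 1)))
  refine ⟨N n, fun x hx => ?_⟩
  obtain ⟨y, hy0, hy⟩ := exists_seq (X := fun i => X (n + i))
    (fun i a b => (b : S.carrier) - a ∈ CRing.mpow S (n + i))
    ⟨x, Ideal.mem_sup_left hx⟩ fun i a => by
      obtain ⟨b, hb, c, hc, e⟩ := Submodule.mem_sup.1 (hXs (n + i) a.2)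
      refine ⟨⟨b, hb⟩, ?_⟩
      rw [← e, show b - (b + c) = -c by ring]
      exact neg_mem hc
  have hle : ∀ {i j}, i ≤ j → (y j : S.carrier) - y i ∈ CRing.mpow S (n + i) := by
    intro i j h
    induction j, h using Nat.le_induction with
    | base => rw [sub_self]; exact zero_mem _
    | succ j h ih =>
      rw [← sub_add_sub_cancel (y (j + 1) : S.carrier) (y j) (y i)]
      exact add_mem (Ideal.pow_le_pow_right (by omega) (hy j)) ih
  obtain ⟨L, hL⟩ := IsPrecomplete.prec (I := maximalIdeal S.carrier) inferInstance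
    (f := fun i => (y i : S.carrier)) fun {a b} h => by
      rw [SModEq.sub_mem, Ideal.smul_eq_mul, Ideal.mul_top]
      have h' := Ideal.pow_le_pow_right (show a ≤ n + a + 1 by omega) (hle h)
      simpa using neg_mem h'
  have hL' : ∀ i, (y i : S.carrier) - L ∈ maximalIdeal S.carrier ^ i := fun i => by
    simpa [SModEq.sub_mem] using hL i
  have hLJ : L ∈ ⨅ q, J q := by
    rw [Submodule.mem_iInf]
    intro q
    obtain ⟨M, hM⟩ := hopen q
    have hle' : J q ⊔ CRing.mpow S (n + (M + 1)) ≤ J q ⊔ CRing.mpow S M :=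
      sup_le_sup_left (Ideal.pow_le_pow_right (by omega)) _
    have h1 : (y (M + 1) : S.carrier) ∈ J q ⊔ CRing.mpow S M :=
      hle' (hX (n + (M + 1)) q (y (M + 1)).2)
    rw [sup_eq_left.2 hM] at h1
    have h2 := hM (hL' (M + 1))
    have h3 := sub_mem h1 h2
    rwa [sub_sub_cancel] at h3
  have hlast : (y (n + 1) : S.carrier) - x ∈ CRing.mpow S n := by
    have := hle (Nat.zero_le (n + 1))
    rw [congrArg Subtype.val hy0] at this
    exact this
  refine Submodule.mem_sup.2 ⟨L, hLJ, x - L, ?_, add_sub_cancel _ _⟩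
  rw [← sub_sub_sub_cancel_left L x (y (n + 1) : S.carrier)]
  exact sub_mem (hL' (n + 1)) hlast

end GrothLib.ArtFun
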