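import Groth.Agent.Lib.ArtFun.SmoothFun

/-!
# Functors of Artin rings: coproducts and limits of coefficient rings
-/

universe u v

namespace GrothLib.ArtFun

open _root_.ArtFun CategoryTheory IsLocalRing

variable {Λ : Type u} {k : Type u} [CommRing Λ] [Field k] [Algebra Λ k]

section Extend

variable {P : Type u} [CommRing P] [Algebra Λ P] {f : P →ₐ[Λ] k} {C T : CRing Λ k}
  {of : P →ₐ[Λ] C.carrier} (hof : C.res.comp of = f)
  (huniv : ∀ {A : Art Λ k} (ψ : P →ₐ[Λ] A), A.res.comp ψ = f →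
    ∃! φ : HomSet C.carrier C.res A, φ.1.comp of = ψ)

include huniv in
lemma algHom_completion_ext {φ φ' : C.carrier →ₐ[Λ] T.carrier} (h : T.res.comp φ = C.res)
    (h' : T.res.comp φ' = C.res) (hψ : T.res.comp (φ.comp of) = f)
    (e : φ.comp of = φ'.comp of) : φ = φ' := by
  refine algHom_ext_trunc (S := T) fun q => ?_
  exact congrArg Subtype.val ((huniv ((T.truncHom q).1.comp (φ.comp of))
    (by rw [← AlgHom.comp_assoc, (T.truncHom q).2, hψ])).unique
    (y₁ := ⟨(T.truncHom q).1.comp φ, by rw [← AlgHom.comp_assoc, (T.truncHom q).2, h]⟩)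
    (y₂ := ⟨(T.truncHom q).1.comp φ', by rw [← AlgHom.comp_assoc, (T.truncHom q).2, h']⟩)
    (AlgHom.comp_assoc _ _ _) (by rw [e]; exact AlgHom.comp_assoc _ _ _))

include huniv in
lemma exists_algHom_completion (ψ : P →ₐ[Λ] T.carrier) (hψ : T.res.comp ψ = f) :
    ∃ φ : C.carrier →ₐ[Λ] T.carrier, T.res.comp φ = C.res ∧ φ.comp of = ψ := by
  have hq : ∀ q, (T.trunc q).res.comp ((T.truncHom q).1.comp ψ) = f := fun q => by
    rw [← AlgHom.comp_assoc, (T.truncHom q).2, hψ]
  choose a ha _ using fun q => huniv _ (hq q)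
  have hmap : ∀ q, HomSet.map (T.truncMap q) (a (q + 1)) = a q := fun q =>
    (huniv _ (hq q)).unique (by
      change ((T.truncMap q).toAlgHom.comp (a (q + 1)).1).comp of = _
      rw [AlgHom.comp_assoc, ha, ← AlgHom.comp_assoc]
      exact congrArg (fun g => AlgHom.comp g ψ)
        (congrArg Subtype.val (CRing.truncMap_truncHom T q))) (ha q)
  obtain ⟨φ, hφ, hφq⟩ := exists_algHom_of_trunc a hmap
  exact ⟨φ, hφ, AlgHom.ext fun p => eq_of_forall_trunc fun q =>
    (DFunLike.congr_fun (hφq q) (of p)).trans (DFunLike.congr_fun (ha q) p)⟩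

end Extend

section Coproduct

variable [IsNoetherianRing Λ] [Module.Finite Λ k]

/-- Coproducts of coefficient rings. -/
lemma exists_coproduct (R S : CRing Λ k) :
    ∃ (P : CRing Λ k) (i₁ : R.carrier →ₐ[Λ] P.carrier) (i₂ : S.carrier →ₐ[Λ] P.carrier),
      P.res.comp i₁ = R.res ∧ P.res.comp i₂ = S.res ∧
      ∀ (T : CRing Λ k) (g₁ : R.carrier →ₐ[Λ] T.carrier) (g₂ : S.carrier →ₐ[Λ] T.carrier),
        T.res.comp g₁ = R.res → T.res.comp g₂ = S.res →
          ∃! h : P.carrier →ₐ[Λ] T.carrier,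
            T.res.comp h = P.res ∧ h.comp i₁ = g₁ ∧ h.comp i₂ = g₂ := by
  obtain ⟨n, x, S₀, of, π, hof, huniv, hπ, hπof, hπs, -⟩ := exists_presentation S
  let P' := MvPolynomial (Fin n) R.carrier
  let f' : P' →ₐ[Λ] k :=
    { MvPolynomial.eval₂Hom (R.res : R.carrier →+* k) (fun i => S.res (x i)) with
      commutes' := fun l => by
        change MvPolynomial.eval₂Hom _ _ (algebraMap Λ P' l) = _
        rw [MvPolynomial.algebraMap_apply]
        simp }
  have hf' : Function.Surjective f' := fun c => by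
    obtain ⟨a, rfl⟩ := R.res_surjective c
    exact ⟨MvPolynomial.C a, MvPolynomial.eval₂Hom_C _ _ _⟩
  obtain ⟨C, of', hof', huniv'⟩ := exists_completion P' f' hf'
  let cst : R.carrier →ₐ[Λ] P' :=
    { (MvPolynomial.C : R.carrier →+* P') with
      commutes' := fun l => by
        change MvPolynomial.C (algebraMap Λ R.carrier l) = algebraMap Λ P' l
        rw [MvPolynomial.algebraMap_apply] }
  let vars : MvPolynomial (Fin n) Λ →ₐ[Λ] P' := MvPolynomial.aeval fun i => MvPolynomial.X i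
  have hvars : f'.comp vars = S.res.comp (MvPolynomial.aeval x) := MvPolynomial.algHom_ext fun i => by
    simp only [vars, AlgHom.comp_apply, MvPolynomial.aeval_X]
    exact MvPolynomial.eval₂Hom_X' _ _ _
  obtain ⟨jS, hjS, hjSof⟩ := exists_algHom_completion huniv (T := C) (of'.comp vars)
    (by rw [← AlgHom.comp_assoc, hof', hvars])
  have hI : (RingHom.ker π).map jS ≤ maximalIdeal C.carrier :=
    Ideal.map_le_iff_le_comap.2 fun z hz => by
      rw [Ideal.mem_comap, CRing.mem_maximalIdeal_iff, ← AlgHom.comp_apply, hjS, ← hπ,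
        AlgHom.comp_apply, RingHom.mem_ker.1 hz, map_zero]
  obtain ⟨P, q, hq, hqs, hqk⟩ := exists_cring_quot C _ hI
  obtain ⟨i₂, hi₂⟩ := exists_factor_algHom π hπs (q.comp jS) fun z hz =>
    RingHom.mem_ker.1 (hqk.ge (Ideal.mem_map_of_mem jS (RingHom.mem_ker.2 hz)))
  have hi₂' : ∀ i, i₂ (x i) = q (of' (MvPolynomial.X i)) := fun i => by
    have e : x i = π (of (MvPolynomial.X i)) := by
      rw [← AlgHom.comp_apply π of, hπof, MvPolynomial.aeval_X]
    rw [e, ← AlgHom.comp_apply i₂ π, hi₂, AlgHom.comp_apply, ← AlgHom.comp_apply jS of, hjSof,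
      AlgHom.comp_apply]
    simp [vars]
  refine ⟨P, q.comp (of'.comp cst), i₂, AlgHom.ext fun r => ?_, AlgHom.ext fun y => ?_, ?_⟩
  · rw [AlgHom.comp_apply, AlgHom.comp_apply, ← AlgHom.comp_apply P.res q, hq, AlgHom.comp_apply,
      ← AlgHom.comp_apply C.res of', hof']
    exact MvPolynomial.eval₂Hom_C _ _ _
  · obtain ⟨z, rfl⟩ := hπs y
    rw [AlgHom.comp_apply, ← AlgHom.comp_apply i₂ π, hi₂, AlgHom.comp_apply,
      ← AlgHom.comp_apply P.res q, hq, ← AlgHom.comp_apply C.res jS, hjS, ← hπ, AlgHom.comp_apply]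
  · intro T g₁ g₂ hg₁ hg₂
    let ψ : P' →ₐ[Λ] T.carrier :=
      { MvPolynomial.eval₂Hom (g₁ : R.carrier →+* T.carrier) (fun i => g₂ (x i)) with
        commutes' := fun l => by
          change MvPolynomial.eval₂Hom _ _ (algebraMap Λ P' l) = _
          rw [MvPolynomial.algebraMap_apply]
          simp }
    have hψC : ∀ r, ψ (MvPolynomial.C r) = g₁ r := fun r => MvPolynomial.eval₂Hom_C _ _ _
    have hψX : ∀ i, ψ (MvPolynomial.X i) = g₂ (x i) := fun i => MvPolynomial.eval₂Hom_X' _ _ _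
    have hψ : T.res.comp ψ = f' := AlgHom.ext fun p => by
      refine RingHom.congr_fun (MvPolynomial.ringHom_ext (f := (T.res : T.carrier →+* k).comp
        (ψ : P' →+* T.carrier)) (g := (f' : P' →+* k)) (fun r => ?_) fun i => ?_) p
      · refine ((congrArg T.res (hψC r)).trans (DFunLike.congr_fun hg₁ r)).trans ?_
        exact (MvPolynomial.eval₂Hom_C _ _ _).symm
      · refine ((congrArg T.res (hψX i)).trans (DFunLike.congr_fun hg₂ (x i))).trans ?_
        exact (MvPolynomial.eval₂Hom_X' (R.res : R.carrier →+* k) (fun i => S.res (x i)) i).symm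
    obtain ⟨h₀, hh₀, hh₀of⟩ := exists_algHom_completion huniv' (T := T) ψ hψ
    have hkey : h₀.comp jS = g₂.comp π := by
      refine algHom_completion_ext huniv (by rw [← AlgHom.comp_assoc, hh₀, hjS])
        (by rw [← AlgHom.comp_assoc, hg₂, hπ])
        (by rw [AlgHom.comp_assoc, hjSof, ← AlgHom.comp_assoc h₀, hh₀of, ← AlgHom.comp_assoc, hψ,
          hvars]) ?_
      rw [AlgHom.comp_assoc, AlgHom.comp_assoc, hjSof, ← AlgHom.comp_assoc h₀, hh₀of, hπof]
      exact MvPolynomial.algHom_ext fun i => by simp [vars, hψX]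
    obtain ⟨h, hh⟩ := exists_factor_algHom q hqs h₀ fun z hz => by
      have hz' : z ∈ (RingHom.ker π).map jS := hqk ▸ RingHom.mem_ker.2 hz
      refine Submodule.span_induction (p := fun z _ => h₀ z = 0) ?_ (map_zero h₀) ?_ ?_ hz'
      · rintro _ ⟨w, hw, rfl⟩
        refine (DFunLike.congr_fun hkey w).trans ?_
        rw [AlgHom.comp_apply, RingHom.mem_ker.1 hw, map_zero]
      · intro a b _ _ ha hb
        rw [map_add, ha, hb, add_zero]
      · intro a b _ hb
        rw [smul_eq_mul, map_mul, hb, mul_zero]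
    refine ⟨h, ⟨AlgHom.ext fun z => ?_, AlgHom.ext fun r => ?_, AlgHom.ext fun y => ?_⟩, ?_⟩
    · obtain ⟨w, rfl⟩ := hqs z
      rw [AlgHom.comp_apply, ← AlgHom.comp_apply h q, hh, ← AlgHom.comp_apply T.res h₀, hh₀, ← hq,
        AlgHom.comp_apply]
    · rw [AlgHom.comp_apply, AlgHom.comp_apply, ← AlgHom.comp_apply h q, hh, AlgHom.comp_apply,
        ← AlgHom.comp_apply h₀ of', hh₀of]
      exact hψC r
    · obtain ⟨w, rfl⟩ := hπs y
      rw [AlgHom.comp_apply, ← AlgHom.comp_apply i₂ π, hi₂, AlgHom.comp_apply,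
        ← AlgHom.comp_apply h q, hh, ← AlgHom.comp_apply h₀ jS, hkey, AlgHom.comp_apply]
    · rintro h' ⟨hres, h1, h2⟩
      have e : h'.comp q = h₀ := by
        refine algHom_completion_ext huniv' (by rw [← AlgHom.comp_assoc, hres, hq]) hh₀
          (by rw [← AlgHom.comp_assoc, ← AlgHom.comp_assoc, hres, hq, hof']) ?_
        rw [hh₀of]
        refine AlgHom.ext fun p => RingHom.congr_fun (MvPolynomial.ringHom_ext
          (f := (((h'.comp q).comp of') : P' →+* T.carrier)) (g := (ψ : P' →+* T.carrier))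
          (fun r => ?_) fun i => ?_) p
        · exact (DFunLike.congr_fun h1 r).trans (hψC r).symm
        · refine Eq.trans ?_ (hψX i).symm
          rw [← h2, AlgHom.comp_apply, hi₂']
          rfl
      exact AlgHom.ext fun z => by
        obtain ⟨w, rfl⟩ := hqs z
        rw [← AlgHom.comp_apply, e, ← AlgHom.comp_apply h q, hh]

/-- Pushouts of coefficient rings. -/
lemma exists_pushout (R S₁ S₂ : CRing Λ k) (f₁ : R.carrier →ₐ[Λ] S₁.carrier)
    (hf₁ : S₁.res.comp f₁ = R.res) (f₂ : R.carrier →ₐ[Λ] S₂.carrier)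
    (hf₂ : S₂.res.comp f₂ = R.res) :
    ∃ (P : CRing Λ k) (i₁ : S₁.carrier →ₐ[Λ] P.carrier) (i₂ : S₂.carrier →ₐ[Λ] P.carrier),
      P.res.comp i₁ = S₁.res ∧ P.res.comp i₂ = S₂.res ∧ i₁.comp f₁ = i₂.comp f₂ ∧
      ∀ (T : CRing Λ k) (g₁ : S₁.carrier →ₐ[Λ] T.carrier) (g₂ : S₂.carrier →ₐ[Λ] T.carrier),
        T.res.comp g₁ = S₁.res → T.res.comp g₂ = S₂.res → g₁.comp f₁ = g₂.comp f₂ →
          ∃! h : P.carrier →ₐ[Λ] T.carrier,
            T.res.comp h = P.res ∧ h.comp i₁ = g₁ ∧ h.comp i₂ = g₂ := by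
  obtain ⟨Q, j₁, j₂, hj₁, hj₂, huniv⟩ := exists_coproduct S₁ S₂
  let K : Ideal Q.carrier := Ideal.span (Set.range fun r => j₁ (f₁ r) - j₂ (f₂ r))
  have hK : K ≤ maximalIdeal Q.carrier := Ideal.span_le.2 <| by
    rintro _ ⟨r, rfl⟩
    rw [SetLike.mem_coe, CRing.mem_maximalIdeal_iff, map_sub, ← AlgHom.comp_apply Q.res j₁,
      ← AlgHom.comp_apply Q.res j₂, hj₁, hj₂, ← AlgHom.comp_apply S₁.res f₁,
      ← AlgHom.comp_apply S₂.res f₂, hf₁, hf₂, sub_self]
  obtain ⟨P, q, hq, hqs, hqk⟩ := exists_cring_quot Q K hK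
  refine ⟨P, q.comp j₁, q.comp j₂, by rw [← AlgHom.comp_assoc, hq, hj₁],
    by rw [← AlgHom.comp_assoc, hq, hj₂], AlgHom.ext fun r => ?_, ?_⟩
  · change q (j₁ (f₁ r)) = q (j₂ (f₂ r))
    rw [← sub_eq_zero, ← map_sub, ← RingHom.mem_ker, hqk]
    exact Ideal.subset_span ⟨r, rfl⟩
  · intro T g₁ g₂ hg₁ hg₂ hg
    obtain ⟨h₀, ⟨hh₀, h01, h02⟩, hu⟩ := huniv T g₁ g₂ hg₁ hg₂
    obtain ⟨h, hh⟩ := exists_factor_algHom q hqs h₀ fun z hz => by
      have hz' : z ∈ K := hqk ▸ RingHom.mem_ker.2 hz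
      refine (Ideal.span_le.2 ?_ : K ≤ RingHom.ker h₀) hz'
      rintro _ ⟨r, rfl⟩
      rw [SetLike.mem_coe, RingHom.mem_ker, map_sub, sub_eq_zero, ← AlgHom.comp_apply h₀ j₁, h01,
        ← AlgHom.comp_apply h₀ j₂, h02]
      exact DFunLike.congr_fun hg r
    refine ⟨h, ⟨AlgHom.ext fun z => ?_, ?_, ?_⟩, ?_⟩
    · obtain ⟨w, rfl⟩ := hqs z
      rw [AlgHom.comp_apply, ← AlgHom.comp_apply h q, hh, ← AlgHom.comp_apply T.res h₀, hh₀, ← hq,
        AlgHom.comp_apply]
    · rw [← AlgHom.comp_assoc, hh, h01]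
    · rw [← AlgHom.comp_assoc, hh, h02]
    · rintro h' ⟨hres, h1, h2⟩
      have e := hu (h'.comp q) ⟨by rw [← AlgHom.comp_assoc, hres, hq],
        (AlgHom.comp_assoc _ _ _).trans h1, (AlgHom.comp_assoc _ _ _).trans h2⟩
      exact AlgHom.ext fun z => by
        obtain ⟨w, rfl⟩ := hqs z
        rw [← AlgHom.comp_apply, e, ← AlgHom.comp_apply h q, hh]

end Coproduct

section Limit

/-- An Artinian local ring is complete. -/
lemma isAdicComplete_art (A : Art Λ k) : IsAdicComplete (maximalIdeal A) A := by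
  obtain ⟨n, hn⟩ := exists_pow_maximalIdeal_eq_bot A
  refine { haus' := fun x hx => ?_, prec' := fun f hf => ⟨f n, fun m => ?_⟩ }
  · simpa [SModEq.sub_mem, hn] using hx n
  · rcases le_total m n with h | h
    · exact hf h
    · have := hf h
      rw [SModEq.sub_mem, Ideal.smul_eq_mul, Ideal.mul_top, hn, Ideal.mem_bot, sub_eq_zero] at this
      rw [this]

/-- Families of generators of least cardinality are independent. -/
lemma indep_of_least {B : Type u} [CommRing B] [IsLocalRing B] {J N : Ideal B} {r : ℕ}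
    (x : Fin r → B) (hx : ∀ i, x i ∈ J) (hspan : J ≤ Ideal.span (Set.range x) ⊔ N)
    (hmin : ∀ s < r, ∀ y : Fin s → B, (∀ i, y i ∈ J) → ¬J ≤ Ideal.span (Set.range y) ⊔ N)
    (c : Fin r → B) (hc : ∑ i, c i * x i ∈ N) (i : Fin r) : c i ∈ maximalIdeal B := by
  by_contra hu
  obtain ⟨s, rfl⟩ := Nat.exists_eq_succ_of_ne_zero (Nat.pos_iff_ne_zero.1 i.pos)
  obtain ⟨b, hb⟩ := isUnit_iff_exists_inv'.1 (IsLocalRing.notMem_maximalIdeal.1 hu)
  refine hmin s (Nat.lt_succ_self s) (fun j => x (i.succAbove j)) (fun j => hx _)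
    (hspan.trans (sup_le (Ideal.span_le.2 ?_) le_sup_right))
  rintro _ ⟨l, rfl⟩
  by_cases hl : l = i
  · subst hl
    have hsum := Fin.sum_univ_succAbove (fun m => c m * x m) l
    have e : x l = b * ∑ m, c m * x m - b * ∑ j, c (l.succAbove j) * x (l.succAbove j) := by
      rw [hsum]
      linear_combination -(x l) * hb
    rw [e]
    exact sub_mem (Ideal.mem_sup_right (Ideal.mul_mem_left _ _ hc)) (Ideal.mul_mem_left _ _
      (Ideal.mem_sup_left (Ideal.sum_mem _ fun j _ =>
        Ideal.mul_mem_left _ _ (Ideal.subset_span ⟨j, rfl⟩))))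
  · obtain ⟨j, rfl⟩ := Fin.exists_succAbove_eq hl
    exact Ideal.mem_sup_left (Ideal.subset_span ⟨j, rfl⟩)

/-- Kernels of a surjective system with bounded cotangent spaces are eventually in `m²`. -/
lemma exists_ker_le_sq (A : ℕ → Art Λ k) (f : ∀ n, A (n + 1) ⟶ A n)
    (hf : ∀ n, Function.Surjective (f n)) (d : ℕ)
    (hd : ∀ n, Module.finrank (ResidueField (A n)) (CotangentSpace (A n)) ≤ d) :
    ∃ N, ∀ n, N ≤ n → RingHom.ker (f n).toAlgHom ≤ maximalIdeal (A (n + 1)) ^ 2 := by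
  classical
  let Sp : ∀ n, ℕ → Prop := fun n r => ∃ x : Fin r → A n, (∀ i, x i ∈ maximalIdeal (A n)) ∧
    maximalIdeal (A n) ≤ Ideal.span (Set.range x) ⊔ maximalIdeal (A n) ^ 2
  have hex : ∀ n, ∃ r, Sp n r := fun n => by
    obtain ⟨r, x, hx, hs, -⟩ :=
      exists_minimal_generators (maximalIdeal (A n)) (maximalIdeal (A n) ^ 2)
    exact ⟨r, x, hx, hs⟩
  let ρ : ℕ → ℕ := fun n => Nat.find (hex n)
  have hindep : ∀ n (x : Fin (ρ n) → A n), (∀ i, x i ∈ maximalIdeal (A n)) →
      maximalIdeal (A n) ≤ Ideal.span (Set.range x) ⊔ maximalIdeal (A n) ^ 2 →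
      ∀ c : Fin (ρ n) → A n, ∑ i, c i * x i ∈ maximalIdeal (A n) ^ 2 →
        ∀ i, c i ∈ maximalIdeal (A n) := fun n x hx hs =>
    indep_of_least x hx hs fun s hs' y hy hy' => Nat.find_min (hex n) hs' ⟨y, hy, hy'⟩
  have hbound : ∀ n, ρ n ≤ d := fun n => by
    obtain ⟨x, hx, hs⟩ := Nat.find_spec (hex n)
    refine le_trans ?_ (hd n)
    have hli : LinearIndependent (ResidueField (A n))
        (fun i => (maximalIdeal (A n)).toCotangent ⟨x i, hx i⟩ : Fin (ρ n) → CotangentSpace (A n)) := by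
      rw [Fintype.linearIndependent_iff]
      intro g hg i
      choose c hc using fun i => IsLocalRing.residue_surjective (g i)
      have hsum : (maximalIdeal (A n)).toCotangent (∑ i, c i • (⟨x i, hx i⟩ : maximalIdeal (A n))) = 0 := by
        rw [map_sum, ← hg]
        refine Finset.sum_congr rfl fun i _ => ?_
        rw [map_smul, ← hc]
        rfl
      rw [Ideal.toCotangent_eq_zero] at hsum
      rw [← hc i, IsLocalRing.residue_eq_zero_iff]
      exact hindep n x hx hs c (by simpa using hsum) i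
    simpa using hli.fintype_card_le_finrank
  have hgens : ∀ n (x : Fin (ρ (n + 1)) → A (n + 1)), (∀ i, x i ∈ maximalIdeal (A (n + 1))) →
      maximalIdeal (A (n + 1)) ≤ Ideal.span (Set.range x) ⊔ maximalIdeal (A (n + 1)) ^ 2 →
      (∀ i, f n (x i) ∈ maximalIdeal (A n)) ∧
        maximalIdeal (A n) ≤ Ideal.span (Set.range fun i => f n (x i)) ⊔ maximalIdeal (A n) ^ 2 := by
    intro n x hx hs
    refine ⟨fun i => map_mem_maximalIdeal (f n) (hx i), fun a ha => ?_⟩
    obtain ⟨b, rfl⟩ := hf n a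
    have hb : b ∈ maximalIdeal (A (n + 1)) := by
      rw [← res_eq_zero_iff, ← Art.res_app (f n), res_eq_zero_iff]; exact ha
    have h2 := Ideal.mem_map_of_mem (f n).toAlgHom (hs hb)
    rw [Ideal.map_sup, Ideal.map_span, ← Set.range_comp, Ideal.map_pow] at h2
    exact sup_le_sup_left (Ideal.pow_right_mono (map_maximalIdeal_le (f n)) 2) _ h2
  have hmono : Monotone ρ := monotone_nat_of_le_succ fun n => by
    obtain ⟨x, hx, hs⟩ := Nat.find_spec (hex (n + 1))
    exact Nat.find_min' (hex n) ⟨_, (hgens n x hx hs).1, (hgens n x hx hs).2⟩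
  obtain ⟨N, hN⟩ : ∃ N, ∀ n, N ≤ n → ρ n = ρ N := by
    have hfin : (Set.range ρ).Finite := (Set.finite_Iic d).subset (by rintro _ ⟨n, rfl⟩; exact hbound n)
    obtain ⟨_, ⟨N, rfl⟩, hN⟩ := hfin.exists_maximal (Set.range_nonempty ρ)
    exact ⟨N, fun n hn => le_antisymm (hN ⟨n, rfl⟩ (hmono hn)) (hmono hn)⟩
  refine ⟨N, fun n hn z hz => ?_⟩
  have heq : ρ (n + 1) = ρ n := (hN (n + 1) (by omega)).trans (hN n hn).symm
  obtain ⟨x, hx, hs⟩ := Nat.find_spec (hex (n + 1))
  obtain ⟨hfx, hfs⟩ := hgens n x hx hs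
  obtain ⟨w, hw, v, hv, rfl⟩ := Submodule.mem_sup.1 (hs (ker_le_maximalIdeal (f n) hz))
  obtain ⟨c, rfl⟩ := Ideal.mem_span_range_iff_exists_fun.1 hw
  refine add_mem (Ideal.sum_mem _ fun i _ => ?_) hv
  have h0 : ∑ i, f n (c i) * f n (x i) ∈ maximalIdeal (A n) ^ 2 := by
    have h1 : ∑ i, f n (c i) * f n (x i) = -(f n v) := by
      rw [eq_neg_iff_add_eq_zero]
      have := mem_ker_iff.1 hz
      rw [map_add, map_sum] at this
      simpa only [map_mul] using this
    rw [h1]
    refine neg_mem (Ideal.pow_right_mono (map_maximalIdeal_le (f n)) 2 ?_)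
    rw [← Ideal.map_pow]
    exact Ideal.mem_map_of_mem _ hv
  have hci : f n (c i) ∈ maximalIdeal (A n) := by
    refine indep_of_least (fun j => f n (x j)) hfx hfs (fun s hs' y hy hy' =>
      Nat.find_min (hex n) (lt_of_lt_of_eq hs' heq) ⟨y, hy, hy'⟩) (fun j => f n (c j)) h0 i
  rw [pow_two]
  refine Ideal.mul_mem_mul ?_ (hx i)
  rw [← res_eq_zero_iff, ← Art.res_app (f n), res_eq_zero_iff]
  exact hci

variable [IsNoetherianRing Λ] [Module.Finite Λ k]

/-- The limit of a surjective system with bounded cotangent spaces is a coefficient ring. -/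
lemma exists_limit (A : ℕ → Art Λ k) (f : ∀ n, A (n + 1) ⟶ A n)
    (hf : ∀ n, Function.Surjective (f n)) (d : ℕ)
    (hd : ∀ n, Module.finrank (ResidueField (A n)) (CotangentSpace (A n)) ≤ d) :
    ∃ (S : CRing Λ k) (π : ∀ n, HomSet S.carrier S.res (A n)),
      (∀ n, HomSet.map (f n) (π (n + 1)) = π n) ∧
      (∀ n, Function.Surjective (π n).1) ∧
      (∀ a : ∀ n, A n, (∀ n, f n (a (n + 1)) = a n) → ∃! s : S.carrier, ∀ n, (π n).1 s = a n) ∧
      (∀ n, ∃ N, RingHom.ker (π N).1 ≤ maximalIdeal S.carrier ^ n) ∧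
      (∀ n, ∃ N, maximalIdeal S.carrier ^ N ≤ RingHom.ker (π n).1) := by
  obtain ⟨N, hN⟩ := exists_ker_le_sq A f hf d hd
  haveI := finite_art (A N)
  obtain ⟨n₀, g, hg⟩ := Module.Finite.exists_fin (R := Λ) (M := A N)
  let P := MvPolynomial (Fin n₀) Λ
  let ev : P →ₐ[Λ] A N := MvPolynomial.aeval g
  have hev : Function.Surjective ev := fun a => by
    obtain ⟨l, hl⟩ := (Submodule.mem_span_range_iff_exists_fun Λ).1
      (show a ∈ Submodule.span Λ (Set.range g) from hg ▸ trivial)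
    exact ⟨∑ i, l i • MvPolynomial.X i, by rw [map_sum, ← hl]; exact Finset.sum_congr rfl fun i _ => by rw [map_smul, MvPolynomial.aeval_X]⟩
  obtain ⟨S₀, of, hof, huniv⟩ := exists_completion P ((A N).res.comp ev)
    ((A N).res_surjective.comp hev)
  have hsm : IsSmoothFunctor (hR S₀.carrier S₀.res) :=
    isSmoothFunctor_of_completion hof huniv fun B C μ hμ ψ _ => by
      choose b hb using fun i => hμ (ψ (MvPolynomial.X i))
      exact ⟨MvPolynomial.aeval b, MvPolynomial.algHom_ext fun i => by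
        rw [AlgHom.comp_apply, MvPolynomial.aeval_X, hb]⟩
  obtain ⟨φN, hφN, -⟩ := huniv ev rfl
  have hφNs : Function.Surjective φN.1 := fun a => by
    obtain ⟨p, rfl⟩ := hev a
    exact ⟨of p, DFunLike.congr_fun hφN p⟩
  obtain ⟨X, -, hX⟩ := exists_seq
    (X := fun j => {φ : HomSet S₀.carrier S₀.res (A (N + j)) // Function.Surjective φ.1})
    (fun j φ φ' => HomSet.map (f (N + j)) φ'.1 = φ.1) ⟨φN, hφNs⟩ fun j φ => by
      obtain ⟨φ', hφ'⟩ := hsm (f (N + j)) (hf (N + j)) φ.1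
      refine ⟨⟨φ', ?_⟩, hφ'⟩
      haveI := isAdicComplete_art (A (N + j + 1))
      refine (surjective_of_cotangent' (S := A (N + j + 1)) S₀ (Art.res_surjective _) _
        (φ' : HomSet S₀.carrier S₀.res _).2 ?_)
      intro a ha
      obtain ⟨z, hz⟩ := φ.2 (f (N + j) a)
      have hz' : a - (φ' : HomSet S₀.carrier S₀.res _).1 z ∈ RingHom.ker (f (N + j)).toAlgHom := by
        rw [mem_ker_iff, map_sub, sub_eq_zero, ← hz]
        exact (DFunLike.congr_fun (congrArg Subtype.val hφ') z).symm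
      refine (congrArg (· ∈ _) ((sub_add_cancel a ((φ' : HomSet S₀.carrier S₀.res _).1 z)).symm.trans (add_comm _ _))).mpr ?_
      refine Submodule.mem_sup.2 ⟨_, Ideal.mem_map_of_mem _ ?_, _, hN (N + j) (by omega) hz', rfl⟩
      rw [CRing.mem_maximalIdeal_iff, ← res_of_homSet φ.1, hz, Art.res_app]
      exact res_eq_zero_iff.2 ha
  let π' : ∀ n, HomSet S₀.carrier S₀.res (A n) := fun n =>
    Nat.decreasingInduction (motive := fun i _ => HomSet S₀.carrier S₀.res (A i))
      (fun i _ y => HomSet.map (f i) y) (X n).1 (Nat.le_add_left n N)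
  have hcompat : ∀ n, HomSet.map (f n) (π' (n + 1)) = π' n := fun n => by
    refine Eq.trans (Nat.decreasingInduction_succ_left (motive := fun i _ => HomSet S₀.carrier S₀.res (A i))
      (fun i _ y => HomSet.map (f i) y) (X (n + 1)).1 (Nat.le_add_left (n + 1) N)
      (Nat.le_trans (Nat.le_succ n) (Nat.le_add_left (n + 1) N))).symm ?_
    refine (Nat.decreasingInduction_succ (motive := fun i _ => HomSet S₀.carrier S₀.res (A i))
      (fun i _ y => HomSet.map (f i) y) (X (n + 1)).1 (Nat.le_add_left n N)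
      (Nat.le_trans (Nat.le_add_left n N) (Nat.le_succ _))).trans ?_
    exact congrArg (fun y => Nat.decreasingInduction (motive := fun i _ => HomSet S₀.carrier S₀.res (A i)) (fun i _ y => HomSet.map (f i) y) y (Nat.le_add_left n N)) (hX n)
  have hπ's : ∀ n, Function.Surjective (π' n).1 := fun n => by
    have : ∀ i (h : i ≤ N + n), Function.Surjective
        (Nat.decreasingInduction (motive := fun i _ => HomSet S₀.carrier S₀.res (A i))
          (fun i _ y => HomSet.map (f i) y) (X n).1 h).1 := by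
      intro i h
      induction h using Nat.decreasingInduction with
      | self => rw [Nat.decreasingInduction_self]; exact (X n).2
      | of_succ i h ih =>
        rw [Nat.decreasingInduction_succ_left _ _ h]
        exact (hf i).comp ih
    exact this n _
  have hanti : Antitone fun n => RingHom.ker (π' n).1 := antitone_nat_of_succ_le fun n z hz => by
    rw [RingHom.mem_ker] at hz ⊢
    rw [← hcompat n]
    exact (congrArg (f n).toAlgHom hz).trans (map_zero _)
  have hJm : (⨅ n, RingHom.ker (π' n).1) ≤ maximalIdeal S₀.carrier := fun z hz =>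
    mem_maximalIdeal_of_apply_eq_zero (π' 0) (RingHom.mem_ker.1 ((Submodule.mem_iInf _).1 hz 0))
  obtain ⟨S, q, hq, hqs, hqk⟩ := exists_cring_quot S₀ _ hJm
  choose π hπ using fun n => exists_factor_algHom q hqs (π' n).1 fun z hz =>
    RingHom.mem_ker.1 ((Submodule.mem_iInf _).1 (hqk ▸ RingHom.mem_ker.2 hz) n)
  have hπres : ∀ n, (A n).res.comp (π n) = S.res := fun n => AlgHom.ext fun z => by
    obtain ⟨w, rfl⟩ := hqs z
    rw [AlgHom.comp_apply, ← AlgHom.comp_apply (π n) q, hπ, res_of_homSet, ← hq, AlgHom.comp_apply]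
  have hπc : ∀ n, HomSet.map (f n) ⟨π (n + 1), hπres _⟩ = (⟨π n, hπres n⟩ : HomSet S.carrier S.res _) :=
    fun n => homSet_ext fun z => by
      obtain ⟨w, rfl⟩ := hqs z
      change f n (π (n + 1) (q w)) = π n (q w)
      rw [← AlgHom.comp_apply (π n) q, hπ, ← AlgHom.comp_apply (π (n + 1)) q, hπ]
      exact DFunLike.congr_fun (congrArg Subtype.val (hcompat n)) w
  have hsmall : ∀ j, ∃ M, ∀ z, π M z = 0 → z ∈ maximalIdeal S.carrier ^ j := fun j => by
    obtain ⟨M, hM⟩ := exists_le_iInf_sup S₀ _ hanti (fun n => by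
      obtain ⟨m, hm⟩ := exists_mpow_eq_zero (π' n)
      exact ⟨m, fun z hz => RingHom.mem_ker.2 (hm z hz)⟩) j
    refine ⟨M, fun z hz => ?_⟩
    obtain ⟨w, rfl⟩ := hqs z
    obtain ⟨a, ha, b, hb, rfl⟩ := Submodule.mem_sup.1 (hM (RingHom.mem_ker.2
      (((DFunLike.congr_fun (hπ M) w).symm.trans hz))))
    have ha' : q a = 0 := RingHom.mem_ker.1 (hqk.ge ha)
    rw [map_add, ha', zero_add]
    have h1 : (CRing.mpow S₀ j).map q ≤ maximalIdeal S.carrier ^ (j + 1) := by
      rw [CRing.mpow, Ideal.map_pow]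
      exact Ideal.pow_right_mono
        (Ideal.map_le_iff_le_comap.2 (CRing.maximalIdeal_le_comap q hq)) _
    exact Ideal.pow_le_pow_right (Nat.le_succ j) (h1 (Ideal.mem_map_of_mem q hb))
  have hopen : ∀ n, ∃ M, maximalIdeal S.carrier ^ M ≤ RingHom.ker (π n) := fun n => by
    obtain ⟨m, hm⟩ := exists_mpow_eq_zero (⟨π n, hπres n⟩ : HomSet S.carrier S.res _)
    exact ⟨m + 1, fun z hz => RingHom.mem_ker.2 (hm z hz)⟩
  haveI := S.isAdicComplete
  refine ⟨S, fun n => ⟨π n, hπres n⟩, hπc, fun n a => ?_, fun a ha => ?_, fun n => ?_, hopen⟩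
  · obtain ⟨w, rfl⟩ := hπ's n a
    exact ⟨q w, DFunLike.congr_fun (hπ n) w⟩
  · have hs : ∀ n, ∃ z, π n z = a n := fun n => by
      obtain ⟨w, hw⟩ := hπ's n (a n)
      exact ⟨q w, (DFunLike.congr_fun (hπ n) w).trans hw⟩
    choose z hz using hs
    have hle : ∀ i j, i ≤ j → π i (z j) = a i := fun i j h => by
      induction h using Nat.decreasingInduction with
      | self => exact hz j
      | of_succ i h ih =>
        rw [← ha i, ← ih]
        exact (DFunLike.congr_fun (congrArg Subtype.val (hπc i)) (z j)).symm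
    choose M hM using hsmall
    let Q : ℕ → ℕ := fun j => j + ∑ i ∈ Finset.range (j + 1), M i
    have hQM : ∀ {i j}, i ≤ j → M i ≤ Q j := fun {i j} h =>
      le_add_left (Finset.single_le_sum (f := M) (fun _ _ => Nat.zero_le _)
        (Finset.mem_range.2 (Nat.lt_succ_of_le h)))
    obtain ⟨L, hL⟩ := IsPrecomplete.prec (I := maximalIdeal S.carrier) inferInstance
      (f := fun j => z (Q j)) fun {i j} h => by
        rw [SModEq.sub_mem, Ideal.smul_eq_mul, Ideal.mul_top]
        refine hM i _ ?_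
        rw [map_sub, hle _ _ (hQM le_rfl), hle _ _ (hQM h), sub_self]
    refine ⟨L, fun n => ?_, fun s hs => ?_⟩
    · obtain ⟨m, hm⟩ := hopen n
      have h := hL (max n m)
      rw [SModEq.sub_mem, Ideal.smul_eq_mul, Ideal.mul_top] at h
      have h' := RingHom.mem_ker.1 (hm (Ideal.pow_le_pow_right (le_max_right n m) h))
      rw [map_sub, hle n _ ((le_max_left n m).trans (Nat.le_add_right _ _)), sub_eq_zero] at h'
      exact h'.symm
    · refine eq_of_sub_eq_zero
        (IsHausdorff.haus (I := maximalIdeal S.carrier) inferInstance _ fun j => ?_)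
      rw [SModEq.sub_mem, sub_zero, Ideal.smul_eq_mul, Ideal.mul_top,
        ← sub_add_sub_cancel s (z (Q j)) L]
      refine add_mem (hM j _ ?_) (by simpa [SModEq.sub_mem] using hL j)
      rw [map_sub, hs, hle _ _ (hQM le_rfl), sub_self]
  · obtain ⟨M, hM⟩ := hsmall n
    exact ⟨M, fun z hz => hM z (RingHom.mem_ker.1 hz)⟩

end Limit

end GrothLib.ArtFun
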