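import Groth.Agent.Lib.ArtFun.Criteria

/-!
# Functors of Artin rings: surjectivity through cotangent spaces
-/

universe u v

namespace GrothLib.ArtFun

open _root_.ArtFun CategoryTheory IsLocalRing

section RingLevel

variable {A B : Type u} [CommRing A] [IsLocalRing A] [CommRing B] [IsLocalRing B] (f : A →+* B)

/-- Nakayama: an ideal filling the cotangent space is the maximal ideal. -/
lemma maximalIdeal_le_of_sup_sq [IsNoetherianRing B] {I : Ideal B}
    (h : maximalIdeal B ≤ I ⊔ maximalIdeal B ^ 2) : maximalIdeal B ≤ I :=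
  Submodule.le_of_le_smul_of_le_jacobson_bot (IsNoetherian.noetherian _)
    (maximalIdeal_le_jacobson ⊥) (by rwa [Ideal.smul_eq_mul, ← pow_two])

/-- Successive approximation. -/
lemma exists_approx (hres : ∀ b : B, ∃ a : A, b - f a ∈ maximalIdeal B)
    (hm : maximalIdeal B ≤ (maximalIdeal A).map f) :
    ∀ (j : ℕ) (b : B), ∃ a : A, b - f a ∈ (maximalIdeal A ^ j).map f := by
  intro j
  induction j with
  | zero => exact fun b => ⟨0, by simp [Ideal.map_top]⟩
  | succ j ih =>
    intro b
    obtain ⟨a, ha⟩ := ih b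
    suffices H : ∀ x ∈ (maximalIdeal A ^ j).map f,
        ∃ c, x - f c ∈ (maximalIdeal A ^ (j + 1)).map f by
      obtain ⟨c, hc⟩ := H _ ha
      exact ⟨a + c, by rwa [map_add, ← sub_sub]⟩
    intro x hx
    refine Submodule.span_induction (p := fun x _ => ∃ c, x - f c ∈ (maximalIdeal A ^ (j + 1)).map f)
      ?_ ⟨0, by simp⟩ ?_ ?_ hx
    · rintro _ ⟨z, -, rfl⟩
      exact ⟨z, by simp⟩
    · rintro x y _ _ ⟨c, hc⟩ ⟨d, hd⟩
      exact ⟨c + d, by rw [map_add, add_sub_add_comm]; exact add_mem hc hd⟩
    · rintro s x hx ⟨c, hc⟩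
      obtain ⟨a', ha'⟩ := hres s
      refine ⟨a' * c, ?_⟩
      rw [smul_eq_mul, map_mul,
        show s * x - f a' * f c = (s - f a') * x + f a' * (x - f c) by ring]
      refine add_mem ?_ (Ideal.mul_mem_left _ _ hc)
      rw [pow_succ', Ideal.map_mul]
      exact Ideal.mul_mem_mul (hm ha') hx

/-- A local map to a separated Noetherian ring from a complete one is surjective when it is so on residue fields and
cotangent spaces. -/
lemma surjective_of_complete [IsNoetherianRing B] [IsAdicComplete (maximalIdeal A) A]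
    [IsHausdorff (maximalIdeal B) B] (hloc : (maximalIdeal A).map f ≤ maximalIdeal B)
    (hres : ∀ b : B, ∃ a : A, b - f a ∈ maximalIdeal B)
    (hm : maximalIdeal B ≤ (maximalIdeal A).map f ⊔ maximalIdeal B ^ 2) :
    Function.Surjective f := by
  intro b
  have hm' := maximalIdeal_le_of_sup_sq hm
  have step : ∀ (j : ℕ), ∀ x ∈ (maximalIdeal A ^ j).map f,
      ∃ c ∈ maximalIdeal A ^ j, x - f c ∈ (maximalIdeal A ^ (j + 1)).map f := by
    intro j x hx
    refine Submodule.span_induction (p := fun x _ => ∃ c ∈ maximalIdeal A ^ j,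
      x - f c ∈ (maximalIdeal A ^ (j + 1)).map f) ?_ ⟨0, zero_mem _, by simp⟩ ?_ ?_ hx
    · rintro _ ⟨z, hz, rfl⟩
      exact ⟨z, hz, by simp⟩
    · rintro x y _ _ ⟨c, hc, hc'⟩ ⟨d, hd, hd'⟩
      exact ⟨c + d, add_mem hc hd, by rw [map_add, add_sub_add_comm]; exact add_mem hc' hd'⟩
    · rintro s x hx ⟨c, hc, hc'⟩
      obtain ⟨a', ha'⟩ := hres s
      refine ⟨a' * c, Ideal.mul_mem_left _ _ hc, ?_⟩
      rw [smul_eq_mul, map_mul,
        show s * x - f a' * f c = (s - f a') * x + f a' * (x - f c) by ring]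
      refine add_mem ?_ (Ideal.mul_mem_left _ _ hc')
      rw [pow_succ', Ideal.map_mul]
      exact Ideal.mul_mem_mul (hm' ha') hx
  obtain ⟨a, -, ha⟩ := exists_seq
    (X := fun j => {a : A // b - f a ∈ (maximalIdeal A ^ j).map f})
    (fun j a a' => (a'.1 - a.1) ∈ maximalIdeal A ^ j) ⟨0, by simp [Ideal.map_top]⟩ fun j a => by
      obtain ⟨c, hc, hc'⟩ := step j _ a.2
      exact ⟨⟨a.1 + c, by rwa [map_add, ← sub_sub]⟩, by simpa using hc⟩
  obtain ⟨L, hL⟩ := IsPrecomplete.prec (I := maximalIdeal A) inferInstance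
    (f := fun i => (a i).1) fun {m n} h => by
      rw [SModEq.sub_mem, Ideal.smul_eq_mul, Ideal.mul_top]
      induction n, h using Nat.le_induction with
      | base => simp
      | succ n h ih =>
        rw [← sub_add_sub_cancel (a m).1 (a n).1 (a (n + 1)).1, ← neg_sub (a (n + 1)).1 (a n).1]
        exact add_mem ih (neg_mem (Ideal.pow_le_pow_right h (ha n)))
  refine ⟨L, eq_of_sub_eq_zero (IsHausdorff.haus (I := maximalIdeal B) inferInstance _ fun j => ?_)⟩
  rw [SModEq.sub_mem, sub_zero, Ideal.smul_eq_mul, Ideal.mul_top]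
  have h1 : (maximalIdeal A ^ j).map f ≤ maximalIdeal B ^ j := by
    rw [Ideal.map_pow]
    exact Ideal.pow_right_mono hloc j
  have h2 := hL j
  rw [SModEq.sub_mem, Ideal.smul_eq_mul, Ideal.mul_top] at h2
  rw [show f L - b = -(b - f (a j).1) - f ((a j).1 - L) by rw [map_sub]; ring]
  exact sub_mem (neg_mem (h1 (a j).2)) (h1 (Ideal.mem_map_of_mem f h2))

end RingLevel

variable {Λ : Type u} {k : Type u} [CommRing Λ] [Field k] [Algebra Λ k]

section ArtLevel

variable {A B : Art Λ k} (f : A ⟶ B)

lemma map_maximalIdeal_le : (maximalIdeal A).map f.toAlgHom ≤ maximalIdeal B :=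
  Ideal.map_le_iff_le_comap.2 fun _ ha => map_mem_maximalIdeal f ha

lemma map_ker_le :
    (RingHom.ker (algebraMap Λ k)).map (algebraMap Λ B) ≤ (maximalIdeal A).map f.toAlgHom := by
  refine Ideal.map_le_iff_le_comap.2 fun l hl => ?_
  rw [Ideal.mem_comap, ← AlgHom.commutes f.toAlgHom]
  refine Ideal.mem_map_of_mem _ ?_
  rw [← res_eq_zero_iff, AlgHom.commutes]
  exact hl

/-- Surjectivity from surjectivity on cotangent spaces. -/
lemma surjective_of_cotangent
    (h : maximalIdeal B ≤ (maximalIdeal A).map f.toAlgHom ⊔ maximalIdeal B ^ 2) :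
    Function.Surjective f := by
  intro b
  obtain ⟨n, hn⟩ := exists_pow_maximalIdeal_eq_bot A
  obtain ⟨a, ha⟩ := exists_approx (f.toAlgHom : A →+* B) (fun b => by
    obtain ⟨a, ha⟩ := A.res_surjective (B.res b)
    exact ⟨a, res_eq_zero_iff.1 (by rw [map_sub, ← ha]; exact sub_eq_zero.2 (Art.res_app f a).symm)⟩)
    (maximalIdeal_le_of_sup_sq h) n b
  rw [hn, Ideal.map_bot, Ideal.mem_bot, sub_eq_zero] at ha
  exact ⟨a, ha.symm⟩

lemma maximalIdeal_le_of_surjective (hf : Function.Surjective f) :
    maximalIdeal B ≤ (maximalIdeal A).map f.toAlgHom := fun b hb => by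
  obtain ⟨a, rfl⟩ := hf b
  refine Ideal.mem_map_of_mem _ ?_
  rw [← res_eq_zero_iff, ← Art.res_app f, res_eq_zero_iff]
  exact hb

lemma surjective_tfae :
    List.TFAE [Function.Surjective f,
      Ideal.map f.toAlgHom (maximalIdeal A) ⊔ maximalIdeal B ^ 2 = maximalIdeal B,
      Ideal.map (algebraMap Λ B) (RingHom.ker (algebraMap Λ k)) ⊔
        Ideal.map f.toAlgHom (maximalIdeal A) ⊔ maximalIdeal B ^ 2 = maximalIdeal B] := by
  tfae_have 1 → 2 := fun h => le_antisymm
    (sup_le (map_maximalIdeal_le f) (Ideal.pow_le_self two_ne_zero))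
    ((maximalIdeal_le_of_surjective f h).trans le_sup_left)
  tfae_have 2 → 3 := fun h => by rw [sup_eq_right.2 (map_ker_le f), h]
  tfae_have 3 → 1 := fun h =>
    surjective_of_cotangent f (by rw [sup_eq_right.2 (map_ker_le f)] at h; exact h.ge)
  tfae_finish

/-- A map to a small extension which is not surjective but surjects below misses the kernel. -/
lemma eq_zero_of_not_surjective {C : Art Λ k} (hf : Art.IsSmallExt f) {g : C ⟶ A}
    (hs : Function.Surjective (g ≫ f)) (hg : ¬ Function.Surjective g) {c : C} (hc : f (g c) = 0) :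
    g c = 0 := by
  by_contra hne
  refine hg fun d => ?_
  obtain ⟨t, hker, ht0, htm, -⟩ := smallExt_exists_gen hf
  obtain ⟨e, he⟩ : ∃ e, e * t = g c := Ideal.mem_span_singleton'.1 (hker ▸ mem_ker_iff.2 hc)
  have he0 : A.res e ≠ 0 := fun h => hne (by rw [← he]; exact htm e (res_eq_zero_iff.1 h))
  obtain ⟨z, hz⟩ := hs (f d)
  obtain ⟨a, ha⟩ : ∃ a, a * t = d - g z := Ideal.mem_span_singleton'.1
    (hker ▸ mem_ker_iff.2 (by rw [map_sub, sub_eq_zero]; exact hz.symm))
  obtain ⟨w, hw⟩ := C.res_surjective (A.res a / A.res e)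
  refine ⟨z + w * c, ?_⟩
  have e1 : g w * e * t = a * t := mul_eq_mul_of_res_eq hf.2.2.2
    (by rw [map_mul, Art.res_app g, hw, div_mul_cancel₀ _ he0])
    (hker ▸ Ideal.mem_span_singleton_self t)
  rw [map_add, map_mul, ← he, ← mul_assoc, e1, ha, add_sub_cancel]

/-- A small extension is essential unless it has a section. -/
lemma not_essential_iff_exists_section (hf : Art.IsSmallExt f) :
    (∃ (C : Art Λ k) (g : C ⟶ A), Function.Surjective (g ≫ f) ∧ ¬ Function.Surjective g) ↔
      ∃ s : B ⟶ A, s ≫ f = 𝟙 B := by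
  constructor
  · rintro ⟨C, g, hs, hg⟩
    obtain ⟨s, hs'⟩ := exists_factor hs g fun c hc =>
      mem_ker_iff.2 (eq_zero_of_not_surjective f hf hs hg (mem_ker_iff.1 hc))
    refine ⟨s, hom_ext_apply fun b => ?_⟩
    obtain ⟨c, rfl⟩ := hs b
    change f (s ((g ≫ f) c)) = (g ≫ f) c
    rw [show s ((g ≫ f) c) = g c from apply_congr_hom hs' c]
    rfl
  · rintro ⟨s, hs⟩
    refine ⟨B, s, fun b => ⟨b, apply_congr_hom hs b⟩, fun h => hf.2.1 ?_⟩
    rw [eq_bot_iff]
    intro a ha
    obtain ⟨b, rfl⟩ := h a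
    have e : f (s b) = b := apply_congr_hom hs b
    rw [mem_ker_iff, e] at ha
    rw [ha, Ideal.mem_bot, map_zero]

end ArtLevel

section CRingLevel

variable (R : CRing Λ k) {S : Type u} [CommRing S] [Algebra Λ S] [IsLocalRing S]
  [IsNoetherianRing S] {resS : S →ₐ[Λ] k} (hresS : Function.Surjective resS)
  (f : R.carrier →ₐ[Λ] S) (hf : resS.comp f = R.res)

include hresS in
lemma mem_maximalIdeal_iff_res {s : S} : s ∈ maximalIdeal S ↔ resS s = 0 := by
  rw [← IsLocalRing.eq_maximalIdeal (RingHom.ker_isMaximal_of_surjective (resS : S →+* k) hresS)]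
  exact RingHom.mem_ker

include hresS hf in
lemma map_maximalIdeal_le' : (maximalIdeal R.carrier).map f ≤ maximalIdeal S :=
  Ideal.map_le_iff_le_comap.2 fun a ha => (mem_maximalIdeal_iff_res hresS).2
    ((DFunLike.congr_fun hf a).trans ((CRing.mem_maximalIdeal_iff R a).1 ha))

include hf in
lemma map_ker_le' :
    (RingHom.ker (algebraMap Λ k)).map (algebraMap Λ S) ≤ (maximalIdeal R.carrier).map f := by
  refine Ideal.map_le_iff_le_comap.2 fun l hl => ?_
  rw [Ideal.mem_comap, ← AlgHom.commutes f]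
  refine Ideal.mem_map_of_mem _ ((CRing.mem_maximalIdeal_iff R _).2 ?_)
  rw [AlgHom.commutes]
  exact hl

include hresS hf in
lemma surjective_of_cotangent' [IsAdicComplete (maximalIdeal S) S]
    (h : maximalIdeal S ≤ (maximalIdeal R.carrier).map f ⊔ maximalIdeal S ^ 2) :
    Function.Surjective f := by
  haveI := R.isAdicComplete
  refine surjective_of_complete (f : R.carrier →+* S) (map_maximalIdeal_le' R hresS f hf)
    (fun s => ?_) h
  obtain ⟨a, ha⟩ := R.res_surjective (resS s)
  refine ⟨a, (mem_maximalIdeal_iff_res hresS).2 ?_⟩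
  rw [map_sub, sub_eq_zero, ← ha]
  exact (DFunLike.congr_fun hf a).symm

include hresS hf in
lemma surjective_tfae' [IsAdicComplete (maximalIdeal S) S] :
    List.TFAE [Function.Surjective f,
      Ideal.map f (maximalIdeal R.carrier) ⊔ maximalIdeal S ^ 2 = maximalIdeal S,
      Ideal.map (algebraMap Λ S) (RingHom.ker (algebraMap Λ k)) ⊔
        Ideal.map f (maximalIdeal R.carrier) ⊔ maximalIdeal S ^ 2 = maximalIdeal S] := by
  tfae_have 1 → 2 := fun h => by
    refine le_antisymm (sup_le (map_maximalIdeal_le' R hresS f hf) (Ideal.pow_le_self two_ne_zero))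
      (fun s hs => Ideal.mem_sup_left ?_)
    obtain ⟨a, rfl⟩ := h s
    refine Ideal.mem_map_of_mem _ ((CRing.mem_maximalIdeal_iff R a).2 ?_)
    rw [← hf]
    exact (mem_maximalIdeal_iff_res hresS).1 hs
  tfae_have 2 → 3 := fun h => by rw [sup_eq_right.2 (map_ker_le' R f hf), h]
  tfae_have 3 → 1 := fun h => surjective_of_cotangent' R hresS f hf
    (by rw [sup_eq_right.2 (map_ker_le' R f hf)] at h; exact h.ge)
  tfae_finish

end CRingLevel

section Derivations

variable (R : CRing Λ k) {S : Type u} [CommRing S] [Algebra Λ S] [IsLocalRing S]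
  [IsNoetherianRing S] [IsAdicComplete (maximalIdeal S) S] [Algebra S k] [IsScalarTower Λ S k]
  (hresS : Function.Surjective (algebraMap S k))

include hresS in
/-- Injectivity of the restriction of derivations forces surjectivity. -/
lemma surjective_of_derivation (f : R.carrier →ₐ[Λ] S)
    (hf : (IsScalarTower.toAlgHom Λ S k).comp f = R.res)
    (hinj : ∀ D₁ D₂ : Derivation Λ S k, (∀ r, D₁ (f r) = D₂ (f r)) → D₁ = D₂) :
    Function.Surjective f := by
  have hres' : Function.Surjective (IsScalarTower.toAlgHom Λ S k) := hresS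
  refine surjective_of_cotangent' R hres' f hf ?_
  let I : Ideal S := (maximalIdeal R.carrier).map f ⊔ maximalIdeal S ^ 2
  by_contra hI
  obtain ⟨x, hx, hxI⟩ := SetLike.not_le_iff_exists.1 hI
  let φ : R.carrier →+* S ⧸ I := (Ideal.Quotient.mk I).comp f
  have hφ : RingHom.ker (R.res : R.carrier →+* k) ≤ RingHom.ker φ := fun r hr =>
    RingHom.mem_ker.2 (Ideal.Quotient.eq_zero_iff_mem.2 (Ideal.mem_sup_left (Ideal.mem_map_of_mem _
      ((CRing.mem_maximalIdeal_iff R r).2 (RingHom.mem_ker.1 hr)))))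
  let σ : k →+* S ⧸ I := (Ideal.Quotient.lift _ φ fun a ha => hφ ha).comp
    (RingHom.quotientKerEquivOfSurjective (f := (R.res : R.carrier →+* k)) R.res_surjective).symm.toRingHom
  have hσ : ∀ r, σ (R.res r) = Ideal.Quotient.mk I (f r) := fun r => by
    have e : (RingHom.quotientKerEquivOfSurjective (f := (R.res : R.carrier →+* k))
        R.res_surjective).symm (R.res r) = Ideal.Quotient.mk _ r :=
      (RingEquiv.symm_apply_eq _).2 rfl
    change Ideal.Quotient.lift _ φ (fun a ha => hφ ha) ((RingHom.quotientKerEquivOfSurjective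
      (f := (R.res : R.carrier →+* k)) R.res_surjective).symm (R.res r)) = _
    rw [e]
    rfl
  letI : Algebra k (S ⧸ I) := σ.toAlgebra
  have hIm : I ≤ maximalIdeal S :=
    sup_le (map_maximalIdeal_le' R hres' f hf) (Ideal.pow_le_self two_ne_zero)
  have hx1 : (Ideal.Quotient.mk I x) ∉ Submodule.span k {(1 : S ⧸ I)} := fun h => by
    obtain ⟨c, hc⟩ := Submodule.mem_span_singleton.1 h
    obtain ⟨r, rfl⟩ := R.res_surjective c
    rw [Algebra.smul_def, mul_one] at hc
    change σ (R.res r) = _ at hc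
    rw [hσ, Ideal.Quotient.eq] at hc
    have h1 : f r ∈ maximalIdeal S := by simpa using add_mem (hIm hc) hx
    have h2 : r ∈ maximalIdeal R.carrier := (CRing.mem_maximalIdeal_iff R r).2
      ((DFunLike.congr_fun hf r).symm.trans ((mem_maximalIdeal_iff_res hres').1 h1))
    refine hxI ?_
    have h3 := sub_mem (S := Ideal S) (Ideal.mem_sup_left (T := maximalIdeal S ^ 2)
      (Ideal.mem_map_of_mem f h2)) hc
    rwa [sub_sub_cancel] at h3
  obtain ⟨l, hlx, hl⟩ := Submodule.exists_dual_map_eq_bot_of_notMem hx1 inferInstance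
  have hl1 : l (1 : S ⧸ I) = 0 := by
    have := Submodule.mem_map_of_mem (f := l) (Submodule.mem_span_singleton_self (1 : S ⧸ I))
    rwa [hl, Submodule.mem_bot] at this
  have hlf : ∀ r, l (Ideal.Quotient.mk I (f r)) = 0 := fun r => by
    rw [← hσ, show σ (R.res r) = R.res r • (1 : S ⧸ I) by
      rw [Algebra.smul_def, mul_one]; rfl, map_smul, hl1, smul_zero]
  let e : S → k := fun s => algebraMap S k s
  have key : ∀ s t : S, l (Ideal.Quotient.mk I (s * t)) =
      e s * l (Ideal.Quotient.mk I t) + e t * l (Ideal.Quotient.mk I s) := by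
    intro s t
    obtain ⟨a, ha⟩ := R.res_surjective (e s)
    obtain ⟨b, hb⟩ := R.res_surjective (e t)
    have h : ∀ {u : S} {c : R.carrier}, R.res c = e u → u - f c ∈ maximalIdeal S := fun {u c} h =>
      (mem_maximalIdeal_iff_res hres').2 (by
        rw [map_sub, sub_eq_zero]
        exact h.symm.trans (DFunLike.congr_fun hf c).symm)
    have h0 : Ideal.Quotient.mk I (s * t) = e s • Ideal.Quotient.mk I t + e t • Ideal.Quotient.mk I s
        - (e s * e t) • (1 : S ⧸ I) := by
      rw [← ha, ← hb, ← map_mul, Algebra.smul_def, Algebra.smul_def, Algebra.smul_def, mul_one]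
      change _ = σ _ * _ + σ _ * _ - σ _
      rw [hσ, hσ, hσ, ← map_mul, ← map_mul, ← map_add, ← map_sub, Ideal.Quotient.eq, map_mul,
        show s * t - (f a * t + f b * s - f a * f b) = (s - f a) * (t - f b) by ring]
      refine Ideal.mem_sup_right ?_
      rw [pow_two]
      exact Ideal.mul_mem_mul (h ha) (h hb)
    rw [h0, map_sub, map_add, map_smul, map_smul, map_smul, hl1, smul_zero, sub_zero,
      smul_eq_mul, smul_eq_mul]
  have hlin : ∀ (c : Λ) (s : S),
      l (Ideal.Quotient.mk I (c • s)) = c • l (Ideal.Quotient.mk I s) := fun c s => by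
    rw [Algebra.smul_def c s, ← AlgHom.commutes f c, key, hlf, mul_zero, add_zero, Algebra.smul_def]
    congr 1
    exact ((DFunLike.congr_fun hf _).trans (AlgHom.commutes R.res c))
  let D : Derivation Λ S k := Derivation.mk'
    { toFun := fun s => l (Ideal.Quotient.mk I s)
      map_add' := fun s t => by rw [map_add, map_add]
      map_smul' := hlin }
    fun s t => by
      refine (key s t).trans ?_
      simp only [e, Algebra.smul_def]
      rfl
  have h0 : D = 0 := hinj D 0 fun r => (hlf r).trans (by simp)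
  exact hlx (DFunLike.congr_fun h0 x)

include hresS in
/-- Derivations to the residue field form a finite-dimensional space. -/
lemma finite_derivation [IsNoetherianRing Λ] [Module.Finite Λ k] :
    Module.Finite k (Derivation Λ S k) := by
  have hres' : Function.Surjective (IsScalarTower.toAlgHom Λ S k) := hresS
  let C : CRing Λ k :=
    { carrier := S, res := IsScalarTower.toAlgHom Λ S k, res_surjective := hres'
      isAdicComplete := inferInstance }
  haveI := finite_art (C.trunc 1)
  obtain ⟨M, g, hg⟩ := Module.Finite.exists_fin (R := Λ) (M := C.trunc 1)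
  choose s hs using fun j => truncHom_surjective C 1 (g j)
  let ev : Derivation Λ S k →ₗ[k] (Fin M → k) :=
    { toFun := fun D j => D (s j)
      map_add' := fun _ _ => rfl
      map_smul' := fun _ _ => rfl }
  refine Module.Finite.of_injective ev fun D₁ D₂ h => Derivation.ext fun x => ?_
  obtain ⟨c, hc⟩ := (Submodule.mem_span_range_iff_exists_fun Λ).1
    (show (C.truncHom 1).1 x ∈ Submodule.span Λ (Set.range g) from hg ▸ trivial)
  have hker : ∀ D : Derivation Λ S k, D x = ∑ j, c j • D (s j) := fun D => by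
    have h0 : x - ∑ j, c j • s j ∈ maximalIdeal S * maximalIdeal S := by
      rw [← pow_two]
      refine (truncHom_eq_zero_iff C 1 _).1 ?_
      rw [map_sub, map_sum, sub_eq_zero, ← hc]
      exact Finset.sum_congr rfl fun j _ => by rw [map_smul, hs]
    have h1 : ∀ z ∈ maximalIdeal S * maximalIdeal S, D z = 0 := fun z hz => by
      refine Submodule.mul_induction_on hz (fun a ha b hb => ?_)
        fun a b ha hb => by rw [map_add, ha, hb, add_zero]
      rw [Derivation.leibniz, Algebra.smul_def a, Algebra.smul_def b]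
      rw [show algebraMap S k a = 0 from (mem_maximalIdeal_iff_res hres').1 ha,
        show algebraMap S k b = 0 from (mem_maximalIdeal_iff_res hres').1 hb]
      simp
    have h2 := h1 _ h0
    rw [map_sub, map_sum, sub_eq_zero] at h2
    rw [h2]
    exact Finset.sum_congr rfl fun j _ => D.map_smul _ _
  rw [hker, hker]
  exact Finset.sum_congr rfl fun j _ => by rw [show D₁ (s j) = D₂ (s j) from congrFun h j]

end Derivations

end GrothLib.ArtFun
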