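import Groth.Agent.Lib.ArtFun.Hull
import Mathlib.RingTheory.Finiteness.Cardinality
import Mathlib.LinearAlgebra.Dual.Lemmas

/-!
# Functors of Artin rings: consequences of hulls and the pro-representability criterion
-/

universe u v

namespace GrothLib.ArtFun

open _root_.ArtFun CategoryTheory IsLocalRing

variable {Λ : Type u} {k : Type u} [CommRing Λ] [Field k] [Algebra Λ k]

/-- If `Λ → k` is surjective every element of `k` is a simple root over `Λ`. -/
lemma simpleRoots_of_surjective (h : Function.Surjective (algebraMap Λ k)) : SimpleRoots Λ k := by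
  intro α
  obtain ⟨a, rfl⟩ := h α
  exact ⟨Polynomial.X - Polynomial.C a, by simp, by simp⟩

/-- With a field of constants mapping bijectively to `k`, `Λ → k` is surjective. -/
lemma simpleRoots_of_tower [Algebra k Λ] [IsScalarTower k Λ k] : SimpleRoots Λ k :=
  simpleRoots_of_surjective fun x =>
    ⟨algebraMap k Λ x, (IsScalarTower.algebraMap_apply k Λ k x).symm⟩

section Finite

variable [IsNoetherianRing Λ] [Module.Finite Λ k]

/-- Objects are finite `Λ`-modules. -/
lemma finite_art (A : Art Λ k) : Module.Finite Λ A := by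
  suffices H : ∀ ⦃A B : Art Λ k⦄ (f : B ⟶ A), Function.Surjective f →
      Module.Finite Λ A → Module.Finite Λ B from
    H (Art.toBase A) (toBase_surjective A) (inferInstanceAs (Module.Finite Λ k))
  refine surj_induction (fun A B _ => Module.Finite Λ A → Module.Finite Λ B) ?_ ?_
    (fun _ _ _ _ _ _ _ hp hq h => hp (hq h))
  · intro A B e he h
    exact Module.Finite.of_injective e.toAlgHom.toLinearMap (bijective_of_isIso e).1
  · intro A B p hp h
    obtain ⟨t, hker, -, -, hpt⟩ := smallExt_exists_gen hp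
    obtain ⟨n, s, hs⟩ := Module.Finite.exists_fin (R := Λ) (M := k)
    choose b hb using fun i => B.res_surjective (s i)
    refine ⟨Submodule.fg_of_fg_map_of_fg_inf_ker p.toAlgHom.toLinearMap
      (IsNoetherian.noetherian _) ?_⟩
    rw [top_inf_eq]
    classical
    refine ⟨Finset.univ.image fun i => b i * t, le_antisymm ?_ fun x hx => ?_⟩
    · rw [Submodule.span_le]
      intro x hx
      obtain ⟨i, -, rfl⟩ := Finset.mem_image.1 hx
      exact (map_mul p.toAlgHom (b i) t).trans (by rw [show p.toAlgHom t = 0 from hpt, mul_zero])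
    · obtain ⟨a, rfl⟩ : ∃ a, a * t = x :=
        Ideal.mem_span_singleton'.1 (hker ▸ mem_ker_iff.2 hx)
      obtain ⟨c, hc⟩ := (Submodule.mem_span_range_iff_exists_fun Λ).1
        (show B.res a ∈ Submodule.span Λ (Set.range s) from hs ▸ trivial)
      have e : (∑ i, c i • b i) * t = a * t := mul_eq_mul_of_res_eq hp.2.2.2
        (by rw [map_sum, ← hc]; exact Finset.sum_congr rfl fun i _ => by rw [map_smul, hb])
        (mem_ker_iff.2 hpt)
      rw [← e, Finset.sum_mul]
      refine Submodule.sum_mem _ fun i _ => ?_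
      rw [smul_mul_assoc]
      exact Submodule.smul_mem _ _ (Submodule.subset_span
        (Finset.mem_coe.2 (Finset.mem_image.2 ⟨i, Finset.mem_univ _, rfl⟩)))

/-- A versal family makes the tangent space finite-dimensional. -/
lemma hfin_of_versal {F : Art Λ k ⥤ Type v} [TangentStr F] {R : CRing Λ k} (h0 : H0 F)
    (h2 : Heps F) (ξ : Family R.carrier R.res F) (hξ : IsVersal ξ) : Hfin F := by
  classical
  have hsurj := isVersal_surjective ξ hξ h0
  haveI := finite_art (R.trunc 1)
  obtain ⟨M, g, hg⟩ := Module.Finite.exists_fin (R := Λ) (M := R.trunc 1)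
  change Module.Finite k (TangentSpace F)
  refine Module.rank_lt_aleph0_iff.1 (lt_of_le_of_lt (rank_le (n := M) fun s hs => ?_)
    Cardinal.natCast_lt_aleph0)
  let e := s.equivFin
  let θ : Fin s.card → TangentSpace F := fun i => ((e.symm i : s) : TangentSpace F)
  have hθ : LinearIndependent k θ := hs.comp _ e.symm.injective
  obtain ⟨z, hz⟩ := (coords_bijective h0 h2 s.card).2 fun i => TangentSpace.val (θ i)
  obtain ⟨χ, rfl⟩ := hsurj _ z
  obtain ⟨u, hu⟩ : ∃ u : R.trunc 1 ⟶ tsze Λ k (Fin s.card → k),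
      HomSet.map u (R.truncHom 1) = χ := by
    refine exists_factor_homSet (truncHom_surjective R 1) χ fun x hx => RingHom.mem_ker.2 ?_
    have hx' : x ∈ maximalIdeal R.carrier * maximalIdeal R.carrier := by
      rw [← pow_two]
      exact (truncHom_eq_zero_iff R 1 x).1 (RingHom.mem_ker.1 hx)
    refine Submodule.mul_induction_on hx' (fun a ha b hb => ?_) fun a b ha hb => by
      rw [map_add, ha, hb, add_zero]
    have h : ∀ r ∈ maximalIdeal R.carrier,
        TrivSqZeroExt.fst (χ.1 r : TrivSqZeroExt k (Fin s.card → k)) = 0 := fun r hr =>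
      (res_of_homSet χ r).trans ((CRing.mem_maximalIdeal_iff R r).1 hr)
    rw [map_mul]
    refine TrivSqZeroExt.ext ?_ ?_
    · exact (TrivSqZeroExt.fst_mul _ _).trans (mul_eq_zero_of_left (h a ha) _)
    · refine (TrivSqZeroExt.snd_mul _ _).trans ?_
      rw [h a ha, h b hb]
      simp
      rfl
  by_contra hlt
  push_neg at hlt
  let W : Submodule k (Fin s.card → k) := Submodule.span k (Set.range fun j =>
    TrivSqZeroExt.snd (u (g j) : TrivSqZeroExt k (Fin s.card → k)))
  have hW : W < ⊤ := lt_top_iff_ne_top.2 fun h => by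
    have h1 : Module.finrank k W ≤ M := (finrank_range_le_card _).trans_eq (Fintype.card_fin M)
    rw [h, finrank_top, Module.finrank_fin_fun] at h1
    omega
  obtain ⟨l, hl0, hl⟩ := Submodule.exists_le_ker_of_lt_top W hW
  have hu0 : ∀ a, l (TrivSqZeroExt.snd (u a : TrivSqZeroExt k (Fin s.card → k))) = 0 := fun a => by
    refine Submodule.span_induction (p := fun a _ =>
      l (TrivSqZeroExt.snd (u a : TrivSqZeroExt k (Fin s.card → k))) = 0) ?_ ?_ ?_ ?_
      (show a ∈ Submodule.span Λ (Set.range g) from hg ▸ trivial)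
    · rintro _ ⟨j, rfl⟩
      exact LinearMap.mem_ker.1 (hl (Submodule.subset_span ⟨j, rfl⟩))
    · rw [map_zero]
      exact map_zero l
    · intro x y _ _ hx hy
      rw [map_add]
      exact (map_add l _ _).trans ((congrArg₂ (· + ·) hx hy).trans (add_zero 0))
    · intro c x _ hx
      rw [map_smul]
      change l (c • TrivSqZeroExt.snd (u x : TrivSqZeroExt k (Fin s.card → k))) = 0
      rw [← algebraMap_smul k c, map_smul, hx, smul_zero]
  have hmap : u ≫ tszeHom l = u ≫ tszeHom (0 : (Fin s.card → k) →ₗ[k] k) :=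
    hom_ext_apply fun a => TrivSqZeroExt.ext rfl (hu0 a)
  have hf : dualToTangent (ξ.app _ χ) l = 0 := by
    rw [← map_zero (dualToTangent (ξ.app (tsze Λ k (Fin s.card → k)) χ))]
    change F.map (tszeHom l) (ξ.app _ χ) = F.map (tszeHom 0) (ξ.app _ χ)
    rw [← ξ.natural, ← ξ.natural, ← hu, homSet_map_comp, hmap, homSet_map_comp]
  have hsum : l = ∑ i, l (Pi.single i 1) • (LinearMap.proj i : (Fin s.card → k) →ₗ[k] k) :=
    (Pi.basisFun k (Fin s.card)).ext fun j => by
      simp [LinearMap.sum_apply, Pi.single_apply]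
  rw [hsum, map_sum] at hf
  refine hl0 (hsum.trans (Finset.sum_eq_zero fun i _ => ?_))
  rw [Fintype.linearIndependent_iff.1 hθ (fun i => l (Pi.single i 1)) ?_ i, zero_smul]
  rw [← hf]
  refine Finset.sum_congr rfl fun i _ => ?_
  rw [map_smul]
  exact congrArg _ (congrFun hz i).symm

/-- A miniversal family makes the tangent space finite-dimensional. -/
lemma hfin_of_miniversal {F : Art Λ k ⥤ Type v} [TangentStr F] {R : CRing Λ k} (h0 : H0 F)
    (ξ : Family R.carrier R.res F) (hξ : IsMiniversal ξ) : Hfin F :=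
  hfin_of_versal h0 (heps_of_miniversal ξ hξ (isVersal_surjective ξ hξ.1 h0)) ξ hξ.1

end Finite

section Universal

variable {F : Art Λ k ⥤ Type v} {R : Type u} [CommRing R] [Algebra Λ R] {resR : R →ₐ[Λ] k}
  (ξ : Family R resR F)

lemma isLeftExact_of_isUniversal (hξ : IsUniversal ξ) : IsLeftExact F := by
  intro B A A' A'' p' p'' f' f'' h
  constructor
  · intro z₁ z₂ e
    have e₁ : F.map p' z₁ = F.map p' z₂ := congrArg (fun t => t.1.1) e
    have e₂ : F.map p'' z₁ = F.map p'' z₂ := congrArg (fun t => t.1.2) e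
    obtain ⟨a, rfl⟩ := (hξ B).2 z₁
    obtain ⟨b, rfl⟩ := (hξ B).2 z₂
    rw [← ξ.natural, ← ξ.natural] at e₁ e₂
    rw [homSet_fp_ext h ((hξ A').1 e₁) ((hξ A'').1 e₂)]
  · rw [cmp_surjective_iff]
    intro x y e
    obtain ⟨a, rfl⟩ := (hξ A').2 x
    obtain ⟨b, rfl⟩ := (hξ A'').2 y
    obtain ⟨c, rfl, rfl⟩ := homSet_fp_exists h a b
      ((hξ A).1 (by rw [ξ.natural, ξ.natural, e]))
    exact ⟨ξ.app B c, (ξ.natural p' c).symm, (ξ.natural p'' c).symm⟩

lemma isMiniversal_of_isUniversal (hξ : IsUniversal ξ) : IsMiniversal ξ := by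
  refine ⟨fun B A μ _ φ y hy => ?_, hξ _⟩
  obtain ⟨ψ, rfl⟩ := (hξ B).2 y
  exact ⟨ψ, (hξ A).1 (by rw [ξ.natural, hy]), rfl⟩

lemma h0_of_isUniversal (hξ : IsUniversal ξ) : H0 F := h0_of_family_surjective ξ (hξ _).2

/-- The injectivity part of the pro-representability criterion. -/
lemma injective_of_tangent_injective (h0 : H0 F) (h4 : HSq F)
    (ht : Function.Injective (ξ.app (Art.dual Λ k))) (A : Art Λ k) :
    Function.Injective (ξ.app A) := by
  suffices H : ∀ ⦃A B : Art Λ k⦄ (μ : B ⟶ A), Function.Surjective μ →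
      Function.Injective (ξ.app A) → Function.Injective (ξ.app B) from
    H (Art.toBase A) (toBase_surjective A) fun x y _ =>
      (homSet_base_eq x).trans (homSet_base_eq y).symm
  refine surj_induction (fun A B _ => Function.Injective (ξ.app A) → Function.Injective (ξ.app B))
    ?_ ?_ (fun _ _ _ _ _ _ _ hp hq h => hp (hq h))
  · intro A B e he h x y hxy
    have h1 : HomSet.map e x = HomSet.map e y := h (by rw [ξ.natural, ξ.natural, hxy])
    exact homSet_ext fun r =>
      (bijective_of_isIso e).1 (DFunLike.congr_fun (congrArg Subtype.val h1) r)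
  · intro A B μ hμ h x y hxy
    obtain ⟨t, hker, -⟩ := smallExt_exists_gen hμ
    obtain ⟨P, p₁, p₂, hP⟩ := exists_isFibreProd_of_surjective μ μ hμ.1
    obtain ⟨g, hg⟩ := exists_isDiff hμ hker hP
    obtain ⟨w, hw₁, hw₂⟩ := homSet_fp_exists hP x y (h (by rw [ξ.natural, ξ.natural, hxy]))
    have hθ : TRel p₁ p₂ g (ξ.app _ (HomSet.map g w)) (ξ.app B x) (ξ.app B x) :=
      ⟨ξ.app P w, by rw [← ξ.natural, hw₁], (ξ.natural g w).symm, by rw [← ξ.natural, hw₂, hxy]⟩
    have e := trel_free hμ hP h4 hθ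
      (trel_zero hμ hker hP hg h0 (ξ.app B x) (ξ.app _ homSetBase))
    rw [← ξ.natural] at e
    obtain ⟨d, hd₁, hd₂⟩ := exists_diag hP
    have hw : w = HomSet.map d x := homSet_fp_ext (isFibreProd_of_isDiff hμ hker hP hg)
      (by rw [hw₁, homSet_map_comp, hd₁]; exact homSet_ext fun _ => rfl)
      (by rw [ht e, homSet_map_comp, diag_comp hμ hker hg hd₁ hd₂, ← homSet_map_comp,
        homSet_base_eq (HomSet.map (Art.toBase B) x)])
    rw [← hw₂, hw, homSet_map_comp, hd₂]
    exact homSet_ext fun _ => rfl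

lemma isUniversal_of_isMiniversal (h0 : H0 F) (h4 : HSq F) (hξ : IsMiniversal ξ) : IsUniversal ξ :=
  fun A => ⟨injective_of_tangent_injective ξ h0 h4 hξ.2.1 A, isVersal_surjective ξ hξ.1 h0 A⟩

end Universal

section Criterion

variable [IsNoetherianRing Λ] [Module.Finite Λ k] {F : Art Λ k ⥤ Type v} [TangentStr F]

lemma s1_heps_hfin_of_hasHull (h0 : H0 F) (h : HasHull F) : S1 F ∧ Heps F ∧ Hfin F := by
  obtain ⟨⟨R, ξ, hξ⟩⟩ := h
  have hs := isVersal_surjective ξ hξ.1 h0
  exact ⟨s1_of_versal ξ hξ.1 hs, heps_of_miniversal ξ hξ hs, hfin_of_miniversal h0 ξ hξ⟩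

lemma hfin_of_isProrepresentable (h : IsProrepresentable F) : Hfin F := by
  obtain ⟨⟨R, ξ, hξ⟩⟩ := h
  exact hfin_of_miniversal (h0_of_isUniversal ξ hξ) ξ (isMiniversal_of_isUniversal ξ hξ)

lemma isLeftExact_of_isProrepresentable (h : IsProrepresentable F) : IsLeftExact F := by
  obtain ⟨⟨R, ξ, hξ⟩⟩ := h
  exact isLeftExact_of_isUniversal ξ hξ

/-- Schlessinger's criterion. -/
lemma isProrepresentable_iff_schlessinger (hsep : SimpleRoots Λ k) (h0 : H0 F) :
    IsProrepresentable F ↔ (Hbar F ∧ Heps F ∧ Hfin F ∧ HSq F) := by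
  refine ⟨fun h => ?_, fun ⟨h1, h2, h3, h4⟩ => ?_⟩
  · have hl := isLeftExact_of_isProrepresentable h
    exact ⟨fun _ _ _ _ _ _ _ _ hsq _ => (hl _ _ _ _ hsq).2, fun _ _ _ _ hsq => hl _ _ _ _ hsq,
      hfin_of_isProrepresentable h, fun _ _ _ _ _ _ hsq _ => hl _ _ _ _ hsq⟩
  · obtain ⟨⟨R, ξ, hξ⟩⟩ := hasHull_of_conditions hsep h0 (s1_of_hbar F h1) h2 h3
    exact ⟨⟨R, ξ, isUniversal_of_isMiniversal ξ h0 h4 hξ⟩⟩

lemma isProrepresentable_iff_leftExact (hsep : SimpleRoots Λ k) (h0 : H0 F) :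
    IsProrepresentable F ↔ (IsLeftExact F ∧ Hfin F) :=
  ⟨fun h => ⟨isLeftExact_of_isProrepresentable h, hfin_of_isProrepresentable h⟩, fun ⟨hl, hf⟩ =>
    (isProrepresentable_iff_schlessinger hsep h0).2
      ⟨fun _ _ _ _ _ _ _ _ hsq _ => (hl _ _ _ _ hsq).2, fun _ _ _ _ hsq => hl _ _ _ _ hsq, hf,
        fun _ _ _ _ _ _ hsq _ => hl _ _ _ _ hsq⟩⟩

end Criterion

end GrothLib.ArtFun
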