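import Groth.Agent.Lib.ArtFun.Constructions
import Mathlib.RingTheory.Kaehler.Basic
import Mathlib.RingTheory.Etale.Field
import Mathlib.RingTheory.TensorProduct.Basic

/-!
# Functors of Artin rings: essential surjections
-/

universe u v

namespace GrothLib.ArtFun

open _root_.ArtFun CategoryTheory IsLocalRing
open scoped TensorProduct

variable {Λ : Type u} {k : Type u} [CommRing Λ] [Field k] [Algebra Λ k]

section Criterion

/-- A `Λ`-derivation to the residue field, as a linear map. -/
def IsDer (B : Art Λ k) (D : B →ₗ[Λ] k) : Prop := ∀ a b, D (a * b) = B.res a * D b + B.res b * D a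

variable {B : Art Λ k} {D : B →ₗ[Λ] k}

lemma IsDer.map_one (hD : IsDer B D) : D 1 = 0 := by
  have h := hD 1 1
  simp only [one_mul, _root_.map_one] at h
  exact left_eq_add.1 h

lemma IsDer.map_algebraMap (hD : IsDer B D) (l : Λ) : D (algebraMap Λ B l) = 0 := by
  rw [Algebra.algebraMap_eq_smul_one, map_smul, hD.map_one, smul_zero]

lemma IsDer.eq_zero_of_mem_sq (hD : IsDer B D) {z : B} (hz : z ∈ maximalIdeal B ^ 2) : D z = 0 := by
  rw [pow_two] at hz
  refine Submodule.mul_induction_on hz (fun a ha b hb => ?_) fun a b ha hb => by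
    rw [map_add, ha, hb, add_zero]
  rw [hD, res_eq_zero_iff.2 ha, res_eq_zero_iff.2 hb, zero_mul, zero_mul, add_zero]

lemma IsDer.eq_zero_of_mem_map (hD : IsDer B D) {z : B}
    (hz : z ∈ (RingHom.ker (algebraMap Λ k)).map (algebraMap Λ B)) : D z = 0 := by
  refine Submodule.span_induction (p := fun z _ => D z = 0 ∧ B.res z = 0) ?_
    ⟨map_zero D, map_zero B.res⟩ ?_ ?_ hz |>.1
  · rintro _ ⟨l, hl, rfl⟩
    exact ⟨hD.map_algebraMap l, (B.res.commutes l).trans hl⟩
  · intro a b _ _ ha hb
    exact ⟨by rw [map_add, ha.1, hb.1, add_zero], by rw [map_add, ha.2, hb.2, add_zero]⟩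
  · intro a b _ hb
    exact ⟨by rw [smul_eq_mul, hD, hb.1, hb.2, mul_zero, zero_mul, add_zero],
      by rw [smul_eq_mul, map_mul, hb.2, mul_zero]⟩

lemma IsDer.eq_zero_of_mem_sup (hD : IsDer B D) {z : B}
    (hz : z ∈ (RingHom.ker (algebraMap Λ k)).map (algebraMap Λ B) ⊔ maximalIdeal B ^ 2) :
    D z = 0 := by
  obtain ⟨a, ha, b, hb, rfl⟩ := Submodule.mem_sup.1 hz
  rw [map_add, hD.eq_zero_of_mem_map ha, hD.eq_zero_of_mem_sq hb, add_zero]

variable [IsNoetherianRing Λ] [Module.Finite Λ k]

/-- The constants of a derivation. -/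
lemma exists_der_ker (hD : IsDer B D) {z : B} (hz : B.res z = 0) (hDz : D z ≠ 0) :
    ∃ (C : Art Λ k) (g : C ⟶ B), ∀ b, (∃ c, g c = b) ↔ D b = 0 := by
  let S : Subalgebra Λ B :=
    { carrier := {b | D b = 0}
      mul_mem' := fun {a b} (ha : D a = 0) (hb : D b = 0) => by
        change D (a * b) = 0
        rw [hD, ha, hb, mul_zero, mul_zero, add_zero]
      one_mem' := hD.map_one
      add_mem' := fun {a b} (ha : D a = 0) (hb : D b = 0) => by
        change D (a + b) = 0
        rw [map_add, ha, hb, add_zero]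
      zero_mem' := map_zero D
      algebraMap_mem' := hD.map_algebraMap }
  haveI := isArtinian_art B
  haveI : IsArtinian Λ S := isArtinian_of_injective S.val.toLinearMap Subtype.val_injective
  haveI : IsArtinianRing S := isArtinian_of_tower Λ inferInstance
  have hunit : ∀ c : S, B.res c ≠ 0 → IsUnit c := fun c hc => by
    obtain ⟨b, hb⟩ := isUnit_iff_exists_inv.1 (isUnit_iff_res_ne_zero.2 hc)
    refine isUnit_iff_exists_inv.2 ⟨⟨b, ?_⟩, Subtype.ext hb⟩
    change D b = 0
    have h1 := hD c b
    rw [hb, hD.map_one, show D (c : B) = 0 from c.2, mul_zero, add_zero] at h1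
    exact (mul_eq_zero.1 h1.symm).resolve_left hc
  haveI : IsLocalRing S := IsLocalRing.of_isUnit_or_isUnit_one_sub_self fun c => by
    by_cases h : B.res c = 0
    · exact Or.inr (hunit _ (by simp [h]))
    · exact Or.inl (hunit _ h)
  have hres : Function.Surjective (B.res.comp S.val) := fun x => by
    obtain ⟨b, rfl⟩ := B.res_surjective x
    obtain ⟨c, hc⟩ := B.res_surjective (-(D b) / D z)
    refine ⟨⟨b + c * z, ?_⟩, ?_⟩
    · change D (b + c * z) = 0
      rw [map_add, hD, hz, zero_mul, add_zero, hc, div_mul_cancel₀ _ hDz, add_neg_cancel]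
    · change B.res (b + c * z) = B.res b
      rw [map_add, map_mul, hz, mul_zero, add_zero]
  exact ⟨Art.of S (B.res.comp S.val) hres, ⟨S.val, rfl⟩,
    fun b => ⟨by rintro ⟨c, rfl⟩; exact c.2, fun h => ⟨⟨b, h⟩, rfl⟩⟩⟩

variable {A : Art Λ k} (f : B ⟶ A)

/-- Essential surjections are those whose kernel is killed by all derivations. -/
lemma essential_iff :
    (Function.Surjective f ∧ ∀ (C : Art Λ k) (g : C ⟶ B),
        Function.Surjective (g ≫ f) → Function.Surjective g) ↔
      (Function.Surjective f ∧ ∀ D : B →ₗ[Λ] k, IsDer B D → ∀ z, f z = 0 → D z = 0) := by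
  refine and_congr_right fun hf => ⟨fun h D hD z hz => ?_, fun h C g hgs => ?_⟩
  · by_contra hne
    have hzm : B.res z = 0 := by rw [← Art.res_app f, hz, map_zero]
    obtain ⟨C, g, hg⟩ := exists_der_ker hD hzm hne
    have hs : Function.Surjective (g ≫ f) := fun a => by
      obtain ⟨b, rfl⟩ := hf a
      obtain ⟨c, hc⟩ := B.res_surjective (-(D b) / D z)
      obtain ⟨y, hy⟩ := (hg (b + c * z)).2 (by
        rw [map_add, hD, hzm, zero_mul, add_zero, hc, div_mul_cancel₀ _ hne, add_neg_cancel])
      refine ⟨y, ?_⟩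
      change f (g y) = f b
      rw [hy, map_add, map_mul, hz, mul_zero, add_zero]
    exact hne ((hg z).1 (h C g hs z))
  · letI : Algebra B k := (B.res : B →+* k).toAlgebra
    haveI : IsScalarTower Λ B k := IsScalarTower.of_algebraMap_eq fun l => (B.res.commutes l).symm
    haveI := isAdicComplete_art B
    have htower : IsScalarTower.toAlgHom Λ B k = B.res := AlgHom.ext fun _ => rfl
    let CC : CRing Λ k :=
      { carrier := C, res := C.res, res_surjective := C.res_surjective,
        isAdicComplete := isAdicComplete_art C }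
    refine surjective_of_derivation CC B.res_surjective g.toAlgHom (htower.symm ▸ g.res_comp)
      fun D₁ D₂ hD => ?_
    let D : B →ₗ[Λ] k := (D₁ : B →ₗ[Λ] k) - (D₂ : B →ₗ[Λ] k)
    have hd : IsDer B D := fun a b => by
      change D₁ (a * b) - D₂ (a * b) = B.res a * (D₁ b - D₂ b) + B.res b * (D₁ a - D₂ a)
      rw [D₁.leibniz, D₂.leibniz, Algebra.smul_def, Algebra.smul_def, Algebra.smul_def,
        Algebra.smul_def]
      change B.res a * D₁ b + B.res b * D₁ a - (B.res a * D₂ b + B.res b * D₂ a) = _
      ring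
    refine Derivation.ext fun b => sub_eq_zero.1 ?_
    change D b = 0
    obtain ⟨c, hc⟩ := hgs (f b)
    have hc' : f (g c) = f b := hc
    have h0 : D (b - g c) = 0 := h D hd _ (by rw [map_sub, hc', sub_self])
    rw [map_sub, sub_eq_zero] at h0
    rw [h0]
    exact sub_eq_zero.2 (hD c)

end Criterion

section Quotients

variable [IsNoetherianRing Λ] [Module.Finite Λ k] {A B A' B' : Art Λ k} (f : B ⟶ A)

/-- Essential surjections can be tested modulo `m_Λ + m²`. -/
lemma essential_iff_quot (qB : B ⟶ B') (hqB : Function.Surjective qB)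
    (hkB : RingHom.ker qB.toAlgHom =
      Ideal.map (algebraMap Λ B) (RingHom.ker (algebraMap Λ k)) ⊔ maximalIdeal B ^ 2)
    (qA : A ⟶ A') (hqA : Function.Surjective qA)
    (hkA : RingHom.ker qA.toAlgHom =
      Ideal.map (algebraMap Λ A) (RingHom.ker (algebraMap Λ k)) ⊔ maximalIdeal A ^ 2)
    (f' : B' ⟶ A') (hf' : qB ≫ f' = f ≫ qA) :
    (Function.Surjective f ∧ ∀ (C : Art Λ k) (g : C ⟶ B),
        Function.Surjective (g ≫ f) → Function.Surjective g) ↔
      (Function.Surjective f' ∧ ∀ (C : Art Λ k) (g : C ⟶ B'),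
        Function.Surjective (g ≫ f') → Function.Surjective g) := by
  have hcomm : ∀ b, f' (qB b) = qA (f b) := fun b => apply_congr_hom hf' b
  have hkill : ∀ {D : B →ₗ[Λ] k}, IsDer B D → ∀ w, qB w = 0 → D w = 0 := fun hD w hw =>
    hD.eq_zero_of_mem_sup (hkB ▸ mem_ker_iff.2 hw)
  have hs : Function.Surjective f ↔ Function.Surjective f' := by
    refine ⟨fun h a => ?_, fun h => surjective_of_cotangent f fun a ha => ?_⟩
    · obtain ⟨a, rfl⟩ := hqA a
      obtain ⟨b, rfl⟩ := h a
      exact ⟨qB b, hcomm b⟩
    · obtain ⟨y, hy⟩ := h (qA a)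
      obtain ⟨b, rfl⟩ := hqB y
      rw [hcomm] at hy
      have hd : a - f b ∈ RingHom.ker qA.toAlgHom := by
        rw [mem_ker_iff, map_sub, hy, sub_self]
      rw [hkA] at hd
      rw [← sub_add_cancel a (f b)]
      refine add_mem ((sup_le_sup_right (map_ker_le f) _) hd)
        (Ideal.mem_sup_left (Ideal.mem_map_of_mem f.toAlgHom ?_))
      rw [← res_eq_zero_iff, ← Art.res_app f b, ← Art.res_app qA (f b), hy, Art.res_app,
        res_eq_zero_iff]
      exact ha
  rw [essential_iff, essential_iff, ← hs]
  refine and_congr_right fun hf => ⟨fun h D' hD' z' hz' => ?_, fun h D hD z hz => ?_⟩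
  · have hD : IsDer B (D' ∘ₗ qB.toAlgHom.toLinearMap) := fun a b => by
      change D' (qB (a * b)) = B.res a * D' (qB b) + B.res b * D' (qB a)
      rw [map_mul, hD', Art.res_app, Art.res_app]
    obtain ⟨b, rfl⟩ := hqB z'
    rw [hcomm] at hz'
    have hmem : f b ∈ RingHom.ker qA.toAlgHom := mem_ker_iff.2 hz'
    rw [hkA] at hmem
    have hle : Ideal.map (algebraMap Λ A) (RingHom.ker (algebraMap Λ k)) ⊔ maximalIdeal A ^ 2 ≤
        (RingHom.ker qB.toAlgHom).map f.toAlgHom := by
      rw [hkB, Ideal.map_sup]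
      refine sup_le_sup (le_of_eq ?_) ?_
      · rw [← AlgHom.comp_algebraMap f.toAlgHom, ← Ideal.map_map]
        rfl
      · rw [Ideal.map_pow]
        exact Ideal.pow_right_mono (maximalIdeal_le_of_surjective f hf) 2
    obtain ⟨w, hw, hwb⟩ :=
      (Ideal.mem_map_iff_of_surjective f.toAlgHom hf).1 (hle hmem)
    have h0 : D' (qB (b - w)) = 0 := h _ hD (b - w) (by rw [map_sub, ← hwb]; exact sub_self _)
    rwa [map_sub, mem_ker_iff.1 hw, sub_zero] at h0
  · choose s hsq using hqB
    have hwd : ∀ a b, qB a = qB b → D a = D b := fun a b e => by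
      rw [← sub_eq_zero, ← map_sub]
      exact hkill hD _ (by rw [map_sub, e, sub_self])
    let D' : B' →ₗ[Λ] k :=
      { toFun := fun b' => D (s b')
        map_add' := fun a b => by
          rw [← map_add]
          exact hwd _ _ (by rw [map_add, hsq, hsq, hsq])
        map_smul' := fun l a => by
          rw [RingHom.id_apply, ← map_smul]
          exact hwd _ _ (by rw [map_smul, hsq, hsq]) }
    have hD'd : IsDer B' D' := fun a b => by
      change D (s (a * b)) = B'.res a * D (s b) + B'.res b * D (s a)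
      rw [hwd (s (a * b)) (s a * s b) (by rw [map_mul, hsq, hsq, hsq]), hD,
        ← Art.res_app qB, hsq, ← Art.res_app qB (s b), hsq]
    have h1 : D (s (qB z)) = 0 := h D' hD'd (qB z) (by rw [hcomm, hz, map_zero])
    rwa [hwd (s (qB z)) z (hsq _)] at h1

/-- A section of the residue map of `B/(m_Λ B + m_B²)`, from separability. -/
lemma exists_der_of_not_mem [Algebra.IsSeparable (↥(algebraMap Λ k).range) k] {z : B}
    (hz : z ∈ maximalIdeal B)
    (hzI : z ∉ Ideal.map (algebraMap Λ B) (RingHom.ker (algebraMap Λ k)) ⊔ maximalIdeal B ^ 2) :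
    ∃ D : B →ₗ[Λ] k, IsDer B D ∧ D z ≠ 0 := by
  let I : Ideal B := Ideal.map (algebraMap Λ B) (RingHom.ker (algebraMap Λ k)) ⊔ maximalIdeal B ^ 2
  have hIm : I ≤ maximalIdeal B := sup_le (Ideal.map_le_iff_le_comap.2 fun l hl => by
    rw [Ideal.mem_comap, ← res_eq_zero_iff, AlgHom.commutes]
    exact hl) (Ideal.pow_le_self two_ne_zero)
  let L := (algebraMap Λ k).range
  letI : Algebra Λ L := (algebraMap Λ k).rangeRestrict.toAlgebra
  haveI : IsScalarTower Λ L k := IsScalarTower.of_algebraMap_eq fun _ => rfl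
  have hfin : Module.Finite L k := Module.Finite.of_restrictScalars_finite Λ L k
  haveI := hfin
  have hfld : IsField L :=
    isField_of_isIntegral_of_isField (R := L) (S := k) Subtype.val_injective (Field.toIsField k)
  letI : Field L := hfld.toField
  haveI : Algebra.FormallyEtale L k := Algebra.FormallyEtale.of_isSeparable L k
  obtain ⟨ι, hι⟩ : ∃ ι : L →+* B ⧸ I, ∀ l : Λ, ι ((algebraMap Λ k).rangeRestrict l) =
      Ideal.Quotient.mk I (algebraMap Λ B l) :=
    ⟨(algebraMap Λ k).rangeRestrict.liftOfSurjective (algebraMap Λ k).rangeRestrict_surjective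
      ⟨(Ideal.Quotient.mk I).comp (algebraMap Λ B), fun l hl => RingHom.mem_ker.2
        (Ideal.Quotient.eq_zero_iff_mem.2 (Ideal.mem_sup_left (Ideal.mem_map_of_mem _
          (RingHom.mem_ker.2 (congrArg Subtype.val (RingHom.mem_ker.1 hl))))))⟩,
      fun l => RingHom.liftOfSurjective_comp_apply (algebraMap Λ k).rangeRestrict
        (algebraMap Λ k).rangeRestrict_surjective _ l⟩
  letI : Algebra L (B ⧸ I) := ι.toAlgebra
  let res₀ : B ⧸ I →+* k := Ideal.Quotient.lift I (B.res : B →+* k)
    fun a ha => res_eq_zero_iff.2 (hIm ha)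
  let res : B ⧸ I →ₐ[L] k :=
    { res₀ with
      commutes' := fun x => by
        obtain ⟨l, rfl⟩ := (algebraMap Λ k).rangeRestrict_surjective x
        change res₀ (ι _) = _
        rw [hι]
        exact B.res.commutes l }
  have hres : Function.Surjective res := fun c => by
    obtain ⟨b, rfl⟩ := B.res_surjective c
    exact ⟨Ideal.Quotient.mk I b, rfl⟩
  let J : Ideal (B ⧸ I) := RingHom.ker res
  have hJ : IsNilpotent J := ⟨2, le_bot_iff.1 (by
    rw [pow_two, Ideal.mul_le]
    intro x hx y hy
    obtain ⟨a, rfl⟩ := Ideal.Quotient.mk_surjective x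
    obtain ⟨b, rfl⟩ := Ideal.Quotient.mk_surjective y
    rw [Ideal.mem_bot, ← map_mul, Ideal.Quotient.eq_zero_iff_mem]
    refine Ideal.mem_sup_right ?_
    rw [pow_two]
    exact Ideal.mul_mem_mul (res_eq_zero_iff.1 (RingHom.mem_ker.1 hx))
      (res_eq_zero_iff.1 (RingHom.mem_ker.1 hy)))⟩
  obtain ⟨σ, hσ⟩ := Algebra.FormallySmooth.exists_lift J hJ
    (Ideal.quotientKerAlgEquivOfSurjective hres).symm.toAlgHom
  have hσ' : ∀ c, res (σ c) = c := fun c => by
    have h := congrArg (Ideal.quotientKerAlgEquivOfSurjective hres) (DFunLike.congr_fun hσ c)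
    rw [show (Ideal.quotientKerAlgEquivOfSurjective hres)
      (((Ideal.quotientKerAlgEquivOfSurjective hres).symm.toAlgHom) c) = c from
        (Ideal.quotientKerAlgEquivOfSurjective hres).apply_symm_apply c] at h
    exact h
  letI : Algebra k (B ⧸ I) := (σ : k →+* B ⧸ I).toAlgebra
  have hsm : ∀ (c : k) (x : B ⧸ I), c • x = σ c * x := fun c x => Algebra.smul_def c x
  have hx1 : Ideal.Quotient.mk I z ∉ Submodule.span k {(1 : B ⧸ I)} := fun h => by
    obtain ⟨c, hc⟩ := Submodule.mem_span_singleton.1 h
    rw [hsm, mul_one] at hc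
    have h1 : c = 0 := by
      rw [← hσ' c, hc]
      exact res_eq_zero_iff.2 hz
    rw [h1, map_zero, eq_comm, Ideal.Quotient.eq_zero_iff_mem] at hc
    exact hzI hc
  obtain ⟨l, hlx, hl⟩ := Submodule.exists_dual_map_eq_bot_of_notMem hx1 inferInstance
  have hl1 : l (1 : B ⧸ I) = 0 := by
    have := Submodule.mem_map_of_mem (f := l) (Submodule.mem_span_singleton_self (1 : B ⧸ I))
    rwa [hl, Submodule.mem_bot] at this
  have hl' : ∀ c, l (σ c) = 0 := fun c => by
    rw [show σ c = c • (1 : B ⧸ I) by rw [hsm, mul_one], map_smul, hl1, smul_zero]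
  have key : ∀ a b : B, l (Ideal.Quotient.mk I (a * b)) =
      B.res a * l (Ideal.Quotient.mk I b) + B.res b * l (Ideal.Quotient.mk I a) := fun a b => by
    have h0 : (Ideal.Quotient.mk I a - σ (B.res a)) * (Ideal.Quotient.mk I b - σ (B.res b)) = 0 := by
      have hmem : ∀ a : B, Ideal.Quotient.mk I a - σ (B.res a) ∈ J := fun a => RingHom.mem_ker.2 (by
        rw [map_sub, hσ']
        exact sub_self _)
      obtain ⟨p, hp⟩ := Ideal.Quotient.mk_surjective (Ideal.Quotient.mk I a - σ (B.res a))
      obtain ⟨q, hq⟩ := Ideal.Quotient.mk_surjective (Ideal.Quotient.mk I b - σ (B.res b))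
      rw [← hp, ← hq, ← map_mul, Ideal.Quotient.eq_zero_iff_mem]
      refine Ideal.mem_sup_right ?_
      rw [pow_two]
      have hp' : res (Ideal.Quotient.mk I p) = 0 :=
        (congrArg res hp).trans (RingHom.mem_ker.1 (hmem a))
      have hq' : res (Ideal.Quotient.mk I q) = 0 :=
        (congrArg res hq).trans (RingHom.mem_ker.1 (hmem b))
      exact Ideal.mul_mem_mul (res_eq_zero_iff.1 hp') (res_eq_zero_iff.1 hq')
    have e : Ideal.Quotient.mk I (a * b) = B.res a • Ideal.Quotient.mk I b +
        B.res b • Ideal.Quotient.mk I a - (B.res a * B.res b) • (1 : B ⧸ I) := by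
      rw [hsm, hsm, hsm, mul_one, map_mul σ, map_mul, ← sub_eq_zero, ← h0]
      ring
    rw [e, map_sub, map_add, map_smul, map_smul, map_smul, hl1, smul_zero, sub_zero, smul_eq_mul,
      smul_eq_mul]
  have hlin : ∀ (t : Λ) (b : B), l (Ideal.Quotient.mk I (t • b)) = t • l (Ideal.Quotient.mk I b) :=
    fun t b => by
      rw [Algebra.smul_def t b, key, AlgHom.commutes, ← hι,
        show ι ((algebraMap Λ k).rangeRestrict t) = σ (algebraMap Λ k t) from
          (σ.commutes ((algebraMap Λ k).rangeRestrict t)).symm,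
        hl', mul_zero, add_zero, Algebra.smul_def]
  exact ⟨{ toFun := fun b => l (Ideal.Quotient.mk I b)
           map_add' := fun a b => by rw [map_add, map_add]
           map_smul' := hlin }, key, hlx⟩

/-- With separable residue field extension essential surjections are isomorphisms on cotangent spaces. -/
lemma essential_iff_cotangent [Algebra.IsSeparable (↥(algebraMap Λ k).range) k] :
    (Function.Surjective f ∧ ∀ (C : Art Λ k) (g : C ⟶ B),
        Function.Surjective (g ≫ f) → Function.Surjective g) ↔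
      (Ideal.map (algebraMap Λ A) (RingHom.ker (algebraMap Λ k)) ⊔
          Ideal.map f.toAlgHom (maximalIdeal B) ⊔ maximalIdeal A ^ 2 = maximalIdeal A ∧
        ∀ b ∈ maximalIdeal B,
          f b ∈ Ideal.map (algebraMap Λ A) (RingHom.ker (algebraMap Λ k)) ⊔ maximalIdeal A ^ 2 →
          b ∈ Ideal.map (algebraMap Λ B) (RingHom.ker (algebraMap Λ k)) ⊔ maximalIdeal B ^ 2) := by
  rw [essential_iff]
  constructor
  · rintro ⟨hf, h⟩
    refine ⟨((surjective_tfae f).out 0 2).1 hf, fun b hb hfb => ?_⟩
    have hle : Ideal.map (algebraMap Λ A) (RingHom.ker (algebraMap Λ k)) ⊔ maximalIdeal A ^ 2 ≤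
        (Ideal.map (algebraMap Λ B) (RingHom.ker (algebraMap Λ k)) ⊔ maximalIdeal B ^ 2).map
          f.toAlgHom := by
      rw [Ideal.map_sup]
      refine sup_le_sup (le_of_eq ?_) ?_
      · rw [← AlgHom.comp_algebraMap f.toAlgHom, ← Ideal.map_map]
        rfl
      · rw [Ideal.map_pow]
        exact Ideal.pow_right_mono (maximalIdeal_le_of_surjective f hf) 2
    obtain ⟨w, hw, hwb⟩ := (Ideal.mem_map_iff_of_surjective f.toAlgHom hf).1 (hle hfb)
    rw [← sub_add_cancel b w]
    refine add_mem ?_ hw
    by_contra hn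
    have hwm : w ∈ maximalIdeal B := by
      rw [← res_eq_zero_iff, ← Art.res_app f w, show f w = f b from hwb, Art.res_app,
        res_eq_zero_iff]
      exact hb
    obtain ⟨D, hD, hDne⟩ := exists_der_of_not_mem (sub_mem hb hwm) hn
    exact hDne (h D hD _ (by rw [map_sub, ← hwb]; exact sub_self _))
  · rintro ⟨hs, hinj⟩
    have hf : Function.Surjective f := ((surjective_tfae f).out 0 2).2 hs
    refine ⟨hf, fun D hD z hz => ?_⟩
    have hzm : z ∈ maximalIdeal B := ker_le_maximalIdeal f (mem_ker_iff.2 hz)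
    exact hD.eq_zero_of_mem_sup (hinj z hzm (by rw [hz]; exact zero_mem _))

end Quotients

section Kaehler

variable [IsNoetherianRing Λ] [Module.Finite Λ k] {A B : Art Λ k} (f : B ⟶ A)

/-- Surjectivity through relative differentials. -/
lemma surjective_iff_kaehler :
    letI : Algebra B A := f.toAlgHom.toRingHom.toAlgebra
    letI : Algebra A k := A.res.toRingHom.toAlgebra
    Function.Surjective f ↔ Subsingleton (k ⊗[A] Ω[A⁄B]) := by
  letI : Algebra B A := f.toAlgHom.toRingHom.toAlgebra
  letI : Algebra A k := A.res.toRingHom.toAlgebra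
  constructor
  · intro h
    haveI : Subsingleton (Ω[A⁄B]) := KaehlerDifferential.subsingleton_of_surjective B A h
    exact subsingleton_of_forall_eq 0 fun t => by
      induction t using TensorProduct.induction_on with
      | zero => rfl
      | tmul c w => rw [Subsingleton.elim w 0, TensorProduct.tmul_zero]
      | add x y hx hy => rw [hx, hy, add_zero]
  · intro h
    letI : Algebra B k := (B.res : B →+* k).toAlgebra
    haveI : IsScalarTower B A k := IsScalarTower.of_algebraMap_eq fun b => (Art.res_app f b).symm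
    haveI : IsScalarTower Λ A k := IsScalarTower.of_algebraMap_eq fun l => (A.res.commutes l).symm
    haveI := isAdicComplete_art A
    have htower : IsScalarTower.toAlgHom Λ A k = A.res := AlgHom.ext fun _ => rfl
    let CC : CRing Λ k :=
      { carrier := B, res := B.res, res_surjective := B.res_surjective,
        isAdicComplete := isAdicComplete_art B }
    refine surjective_of_derivation CC A.res_surjective f.toAlgHom (htower.symm ▸ f.res_comp)
      fun D₁ D₂ hD => ?_
    let E : Λ →+* B := algebraMap Λ B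
    let d : A →ₗ[B] k :=
      { toFun := fun a => D₁ a - D₂ a
        map_add' := fun a b => by rw [map_add, map_add]; abel
        map_smul' := fun b a => by
          rw [RingHom.id_apply, Algebra.smul_def b a]
          change D₁ (f b * a) - D₂ (f b * a) = b • (D₁ a - D₂ a)
          rw [D₁.leibniz, D₂.leibniz, hD b, Algebra.smul_def b (D₁ a - D₂ a), Algebra.smul_def,
            Algebra.smul_def, Algebra.smul_def]
          change A.res (f b) * D₁ a + A.res a * D₂ (f b) - (A.res (f b) * D₂ a + A.res a * D₂ (f b)) = B.res b * _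
          rw [Art.res_app]
          ring }
    let Dd : Derivation B A k := Derivation.mk' d fun a b => by
      change D₁ (a * b) - D₂ (a * b) = a • (D₁ b - D₂ b) + b • (D₁ a - D₂ a)
      rw [D₁.leibniz, D₂.leibniz, smul_sub, smul_sub]
      abel
    refine Derivation.ext fun a => sub_eq_zero.1 ?_
    have h1 : Dd.liftKaehlerDifferential (KaehlerDifferential.D B A a) = Dd a :=
      Dd.liftKaehlerDifferential_comp_D a
    have h2 : ((1 : k) ⊗ₜ[A] KaehlerDifferential.D B A a) = 0 := Subsingleton.elim _ _
    have h3 := congrArg (Dd.liftKaehlerDifferential.liftBaseChange k) h2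
    rw [LinearMap.liftBaseChange_tmul, one_smul, map_zero, h1] at h3
    exact h3

/-- Derivations to `k` are dual to differentials tensored with `k`. -/
lemma finrank_kaehler [Algebra A k] [IsScalarTower Λ A k] (hs : Function.Surjective (algebraMap A k)) :
    Module.finrank k (k ⊗[A] Ω[A⁄Λ]) = Module.finrank k (Derivation Λ A k) := by
  let e₁ := KaehlerDifferential.linearMapEquivDerivation (M := k) Λ A
  let e₂ : (Ω[A⁄Λ] →ₗ[A] k) ≃ₗ[k] Derivation Λ A k :=
    { e₁ with
      map_smul' := fun c φ => by
        obtain ⟨a, rfl⟩ := hs c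
        change e₁ (algebraMap A k a • φ) = algebraMap A k a • e₁ φ
        rw [algebraMap_smul, algebraMap_smul, map_smul] }
  rw [← (LinearMap.liftBaseChangeEquiv k).symm.trans e₂ |>.finrank_eq]
  exact (Subspace.dual_finrank_eq).symm

/-- Essential surjections through differentials. -/
lemma essential_iff_kaehler :
    letI : Algebra B A := f.toAlgHom.toRingHom.toAlgebra
    letI : Algebra A k := A.res.toRingHom.toAlgebra
    letI : Algebra B k := B.res.toRingHom.toAlgebra
    (Function.Surjective f ∧ ∀ (C : Art Λ k) (g : C ⟶ B),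
        Function.Surjective (g ≫ f) → Function.Surjective g) ↔
      (Subsingleton (k ⊗[A] Ω[A⁄B]) ∧
        Module.finrank k (k ⊗[B] Ω[B⁄Λ]) = Module.finrank k (k ⊗[A] Ω[A⁄Λ])) := by
  letI : Algebra B A := f.toAlgHom.toRingHom.toAlgebra
  letI : Algebra A k := A.res.toRingHom.toAlgebra
  letI : Algebra B k := B.res.toRingHom.toAlgebra
  haveI : IsScalarTower Λ A k := IsScalarTower.of_algebraMap_eq fun l => (A.res.commutes l).symm
  haveI : IsScalarTower Λ B k := IsScalarTower.of_algebraMap_eq fun l => (B.res.commutes l).symm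
  haveI := isAdicComplete_art A
  haveI := isAdicComplete_art B
  haveI : Module.Finite k (Derivation Λ A k) := finite_derivation (S := A) A.res_surjective
  haveI : Module.Finite k (Derivation Λ B k) := finite_derivation (S := B) B.res_surjective
  rw [essential_iff, finrank_kaehler A.res_surjective, finrank_kaehler B.res_surjective,
    ← surjective_iff_kaehler f]
  refine and_congr_right fun hf => ?_
  let Φ : Derivation Λ A k →ₗ[k] Derivation Λ B k :=
    { toFun := fun E => Derivation.mk' ((E : A →ₗ[Λ] k) ∘ₗ f.toAlgHom.toLinearMap) fun a b => by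
        change E (f (a * b)) = a • E (f b) + b • E (f a)
        rw [map_mul, E.leibniz, Algebra.smul_def, Algebra.smul_def, Algebra.smul_def,
          Algebra.smul_def]
        change A.res (f a) * _ + A.res (f b) * _ = B.res a * _ + B.res b * _
        rw [Art.res_app, Art.res_app]
      map_add' := fun _ _ => Derivation.ext fun _ => rfl
      map_smul' := fun _ _ => Derivation.ext fun _ => rfl }
  have hinj : Function.Injective Φ := fun E₁ E₂ h => Derivation.ext fun a => by
    obtain ⟨b, rfl⟩ := hf a
    exact DFunLike.congr_fun h b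
  constructor
  · intro h
    refine (LinearEquiv.ofBijective Φ ⟨hinj, fun D => ?_⟩).finrank_eq.symm
    choose s hs using hf
    have hD : IsDer B (D : B →ₗ[Λ] k) := fun a b => by
      change D (a * b) = _
      rw [D.leibniz, Algebra.smul_def, Algebra.smul_def]
      rfl
    have hwd : ∀ a b, f a = f b → D a = D b := fun a b e => by
      rw [← sub_eq_zero, ← map_sub]
      exact h _ hD _ (by rw [map_sub, e, sub_self])
    refine ⟨Derivation.mk'
      { toFun := fun a => D (s a)
        map_add' := fun a b => by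
          rw [← map_add]
          exact hwd _ _ (by rw [map_add, hs, hs, hs])
        map_smul' := fun l a => by
          rw [RingHom.id_apply, ← D.map_smul]
          exact hwd _ _ (by rw [map_smul, hs, hs]) } fun a b => ?_,
      Derivation.ext fun b => hwd _ _ (hs _)⟩
    change D (s (a * b)) = a • D (s b) + b • D (s a)
    rw [hwd (s (a * b)) (s a * s b) (by rw [map_mul, hs, hs, hs]), D.leibniz, Algebra.smul_def,
      Algebra.smul_def, Algebra.smul_def, Algebra.smul_def]
    change B.res (s a) * _ + B.res (s b) * _ = A.res a * _ + A.res b * _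
    rw [← Art.res_app f, hs, ← Art.res_app f (s b), hs]
  · intro hr D hD z hz
    let D' : Derivation Λ B k := Derivation.mk' D fun a b => by
      rw [hD, Algebra.smul_def, Algebra.smul_def]
      rfl
    obtain ⟨E, hE⟩ :=
      ((LinearMap.injective_iff_surjective_of_finrank_eq_finrank hr.symm).1 hinj) D'
    change D' z = 0
    rw [← hE]
    change E (f z) = 0
    rw [hz, map_zero]

end Kaehler

end GrothLib.ArtFun
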