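import Groth.Agent.Lib.ArtFun.Versal
import Groth.Prelude.Def_ArtFun5
import Mathlib.RingTheory.AdicCompletion.RingHom

/-!
# Functors of Artin rings: coefficient rings and formal elements
-/

universe u v

namespace GrothLib.ArtFun

open _root_.ArtFun CategoryTheory IsLocalRing

variable {Λ : Type u} {k : Type u} [CommRing Λ] [Field k] [Algebra Λ k]

section CRingBasic

variable {R S : CRing Λ k}

lemma res_of_homSet {A : Art Λ k} (φ : HomSet R.carrier R.res A) (r : R.carrier) :
    A.res (φ.1 r) = R.res r := DFunLike.congr_fun φ.2 r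

lemma exists_mpow_eq_zero {A : Art Λ k} (φ : HomSet R.carrier R.res A) :
    ∃ n, ∀ x ∈ CRing.mpow R n, φ.1 x = 0 := by
  obtain ⟨N, hN⟩ := exists_pow_maximalIdeal_eq_bot A
  refine ⟨N, fun x hx => ?_⟩
  have h1 : (CRing.mpow R N).map φ.1 ≤ maximalIdeal A ^ (N + 1) := by
    rw [CRing.mpow, Ideal.map_pow]
    refine Ideal.pow_right_mono (Ideal.map_le_iff_le_comap.2 fun a ha => ?_) _
    rw [Ideal.mem_comap, ← res_eq_zero_iff]
    exact (res_of_homSet φ a).trans ((CRing.mem_maximalIdeal_iff R a).1 ha)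
  have h2 : maximalIdeal A ^ (N + 1) ≤ ⊥ := hN ▸ Ideal.pow_le_pow_right (Nat.le_succ N)
  simpa using h2 (h1 (Ideal.mem_map_of_mem _ hx))

lemma truncHom_surjective (R : CRing Λ k) (n : ℕ) : Function.Surjective (R.truncHom n).1 :=
  Ideal.Quotient.mk_surjective

lemma truncHom_eq_zero_iff (R : CRing Λ k) (n : ℕ) (x : R.carrier) :
    (R.truncHom n).1 x = 0 ↔ x ∈ CRing.mpow R n := Ideal.Quotient.eq_zero_iff_mem

lemma truncMap_surjective (R : CRing Λ k) (n : ℕ) : Function.Surjective (R.truncMap n) := fun y => by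
  obtain ⟨r, rfl⟩ := truncHom_surjective R n y
  exact ⟨(R.truncHom (n + 1)).1 r, rfl⟩

/-- The transition map `R/m^(m+1) → R/m^(n+1)`. -/
noncomputable def truncTo (R : CRing Λ k) {n m : ℕ} (h : n ≤ m) : R.trunc m ⟶ R.trunc n :=
  Art.homMk (Ideal.Quotient.liftₐ (CRing.mpow R m) (Ideal.Quotient.mkₐ Λ (CRing.mpow R n))
      (fun _ ha => Ideal.Quotient.eq_zero_iff_mem.2 (Ideal.pow_le_pow_right (by omega) ha))) (by
    apply AlgHom.ext
    intro x
    obtain ⟨a, rfl⟩ := Ideal.Quotient.mk_surjective x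
    rfl)

lemma truncTo_truncHom (R : CRing Λ k) {n m : ℕ} (h : n ≤ m) :
    HomSet.map (truncTo R h) (R.truncHom m) = R.truncHom n := homSet_ext fun _ => rfl

lemma trunc_hom_ext {A : Art Λ k} {n : ℕ} {f g : R.trunc n ⟶ A}
    (h : HomSet.map f (R.truncHom n) = HomSet.map g (R.truncHom n)) : f = g :=
  hom_ext_apply fun x => by
    obtain ⟨r, rfl⟩ := truncHom_surjective R n x
    exact DFunLike.congr_fun (congrArg Subtype.val h) r

lemma truncTo_self (R : CRing Λ k) (n : ℕ) : truncTo R (le_refl n) = 𝟙 _ :=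
  trunc_hom_ext (homSet_ext fun _ => rfl)

lemma truncTo_succ (R : CRing Λ k) {n m : ℕ} (h : n ≤ m) :
    truncTo R (h.trans (Nat.le_succ m)) = R.truncMap m ≫ truncTo R h :=
  trunc_hom_ext (homSet_ext fun _ => rfl)

/-- A point of `h_R` factors through a truncation. -/
lemma exists_factor_trunc {A : Art Λ k} (φ : HomSet R.carrier R.res A) :
    ∃ (n : ℕ) (u : R.trunc n ⟶ A), HomSet.map u (R.truncHom n) = φ := by
  obtain ⟨n, hn⟩ := exists_mpow_eq_zero φ
  refine ⟨n, Art.homMk (Ideal.Quotient.liftₐ (CRing.mpow R n) φ.1 hn) (AlgHom.ext fun x => ?_),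
    homSet_ext fun _ => rfl⟩
  obtain ⟨r, rfl⟩ := Ideal.Quotient.mk_surjective x
  exact res_of_homSet φ r

end CRingBasic

section Formal

variable {R : CRing Λ k} {F : Art Λ k ⥤ Type v}

lemma elt_truncTo (η : FormalElt F R) {n m : ℕ} (h : n ≤ m) :
    F.map (truncTo R h) (η.elt m) = η.elt n := by
  induction m, h using Nat.le_induction with
  | base => rw [truncTo_self, map_id']
  | succ m h ih => rw [truncTo_succ R h, ← map_map, η.compat, ih]

lemma map_elt_eq (η : FormalElt F R) {A : Art Λ k} {φ : HomSet R.carrier R.res A} {n m : ℕ}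
    {u : R.trunc n ⟶ A} {w : R.trunc m ⟶ A} (hu : HomSet.map u (R.truncHom n) = φ)
    (hw : HomSet.map w (R.truncHom m) = φ) : F.map u (η.elt n) = F.map w (η.elt m) := by
  have e : truncTo R (le_max_left n m) ≫ u = truncTo R (le_max_right n m) ≫ w :=
    trunc_hom_ext (by
      rw [← homSet_map_comp, ← homSet_map_comp, truncTo_truncHom, truncTo_truncHom, hu, hw])
  rw [← elt_truncTo η (le_max_left n m), ← elt_truncTo η (le_max_right n m), map_map, map_map, e]

lemma family_ext {ξ ξ' : Family R.carrier R.res F} (h : ξ.toFormalElt = ξ'.toFormalElt) : ξ = ξ' := by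
  obtain ⟨a, ha⟩ := ξ
  obtain ⟨b, hb⟩ := ξ'
  obtain rfl : a = b := funext fun A => funext fun φ => by
    obtain ⟨n, u, rfl⟩ := exists_factor_trunc φ
    rw [ha, hb]
    exact congrArg (F.map u) (congrArg (fun η => η.elt n) h)
  rfl

/-- The family of a formal element. -/
noncomputable def familyOfFormalElt (η : FormalElt F R) : Family R.carrier R.res F where
  app _ φ := F.map (exists_factor_trunc φ).choose_spec.choose (η.elt (exists_factor_trunc φ).choose)
  natural {A B} f φ := by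
    rw [map_map]
    refine map_elt_eq η (exists_factor_trunc (HomSet.map f φ)).choose_spec.choose_spec ?_
    rw [← homSet_map_comp, (exists_factor_trunc φ).choose_spec.choose_spec]

lemma familyOfFormalElt_trunc (η : FormalElt F R) (n : ℕ) :
    (familyOfFormalElt η).app (R.trunc n) (R.truncHom n) = η.elt n :=
  (map_elt_eq η (exists_factor_trunc (R.truncHom n)).choose_spec.choose_spec
    (w := 𝟙 _) (homSet_ext fun _ => rfl)).trans (map_id' F _)

lemma toFormalElt_familyOfFormalElt (η : FormalElt F R) : (familyOfFormalElt η).toFormalElt = η :=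
  FormalElt.ext' (familyOfFormalElt_trunc η)

lemma toFormalElt_bijective :
    Function.Bijective (fun ξ : Family R.carrier R.res F => ξ.toFormalElt) :=
  ⟨fun _ _ => family_ext, fun η => ⟨familyOfFormalElt η, toFormalElt_familyOfFormalElt η⟩⟩

/-- Build a compatible sequence by successive choices. -/
lemma exists_seq {X : ℕ → Sort*} (P : ∀ n, X n → X (n + 1) → Prop) (x₀ : X 0)
    (h : ∀ n x, ∃ y, P n x y) : ∃ x : ∀ n, X n, x 0 = x₀ ∧ ∀ n, P n (x n) (x (n + 1)) :=
  ⟨fun n => Nat.rec x₀ (fun n x => (h n x).choose) n, rfl, fun n => (h n _).choose_spec⟩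

end Formal

section HomToCRing

variable {S : CRing Λ k}

/-- A compatible system of points in the truncations gives a map of coefficient rings. -/
lemma exists_algHom_of_trunc {R : Type u} [CommRing R] [Algebra Λ R] {resR : R →ₐ[Λ] k}
    (a : ∀ n, HomSet R resR (S.trunc n)) (ha : ∀ n, HomSet.map (S.truncMap n) (a (n + 1)) = a n) :
    ∃ (g : R →ₐ[Λ] S.carrier), S.res.comp g = resR ∧ ∀ n, (S.truncHom n).1.comp g = (a n).1 := by
  haveI := S.isAdicComplete
  have hle : ∀ j, CRing.mpow S j ≤ maximalIdeal S.carrier ^ j := fun j =>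
    Ideal.pow_le_pow_right (Nat.le_succ j)
  let f : ∀ j, R →ₐ[Λ] S.carrier ⧸ maximalIdeal S.carrier ^ j := fun j =>
    (Ideal.Quotient.factorₐ Λ (hle j)).comp (a j).1
  have hto : ∀ {m n : ℕ} (h : m ≤ n) (x : R), (truncTo S h).toAlgHom ((a n).1 x) = (a m).1 x := by
    intro m n h x
    induction n, h using Nat.le_induction with
    | base => rw [truncTo_self]; rfl
    | succ n h ih =>
      rw [truncTo_succ S h]
      refine Eq.trans ?_ ih
      change (truncTo S h).toAlgHom ((HomSet.map (S.truncMap n) (a (n + 1))).1 x) = _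
      rw [ha]
  have hf : ∀ {m n : ℕ} (h : m ≤ n),
      (Ideal.Quotient.factorₐ Λ (Ideal.pow_le_pow_right h)).comp (f n) = f m := by
    intro m n h
    refine AlgHom.ext fun x => ?_
    change _ = Ideal.Quotient.factorₐ Λ (hle m) ((a m).1 x)
    rw [← hto h x]
    obtain ⟨s, hs⟩ := truncHom_surjective S n ((a n).1 x)
    change Ideal.Quotient.factorₐ Λ (Ideal.pow_le_pow_right h) (Ideal.Quotient.factorₐ Λ (hle n) ((a n).1 x)) = _
    rw [← hs]
    rfl
  refine ⟨IsAdicComplete.liftAlgHom _ f hf, ?_, fun n => AlgHom.ext fun x => ?_⟩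
  · refine AlgHom.ext fun x => ?_
    have h1 := IsAdicComplete.mk_liftAlgHom _ f hf 1 x
    obtain ⟨s, hs⟩ := truncHom_surjective S 1 ((a 1).1 x)
    have h2 : Ideal.Quotient.mk (maximalIdeal S.carrier ^ 1) (IsAdicComplete.liftAlgHom _ f hf x) =
        Ideal.Quotient.mk _ s := by
      refine h1.trans ?_
      change Ideal.Quotient.factorₐ Λ (hle 1) ((a 1).1 x) = _
      rw [← hs]
      rfl
    rw [Ideal.Quotient.eq, pow_one, CRing.mem_maximalIdeal_iff, map_sub, sub_eq_zero] at h2
    change S.res (IsAdicComplete.liftAlgHom _ f hf x) = resR x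
    rw [h2, ← (a 1).2]
    change S.res s = (S.trunc 1).res ((a 1).1 x)
    rw [← hs]
    rfl
  · change Ideal.Quotient.mk (CRing.mpow S n) (IsAdicComplete.liftAlgHom _ f hf x) = (a n).1 x
    refine (IsAdicComplete.mk_liftAlgHom _ f hf (n + 1) x).trans ?_
    rw [← hto (Nat.le_succ n) x]
    obtain ⟨s, hs⟩ := truncHom_surjective S (n + 1) ((a (n + 1)).1 x)
    change Ideal.Quotient.factorₐ Λ (hle (n + 1)) ((a (n + 1)).1 x) = _
    rw [← hs]
    rfl

lemma algHom_ext_trunc {R : Type u} [CommRing R] [Algebra Λ R] {g₁ g₂ : R →ₐ[Λ] S.carrier}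
    (h : ∀ n, (S.truncHom n).1.comp g₁ = (S.truncHom n).1.comp g₂) : g₁ = g₂ := by
  haveI := S.isAdicComplete
  refine IsAdicComplete.algHom_ext (maximalIdeal S.carrier) fun n => AlgHom.ext fun x => ?_
  have := Ideal.Quotient.eq.1 (DFunLike.congr_fun (h n) x)
  exact Ideal.Quotient.eq.2 (Ideal.pow_le_pow_right (Nat.le_succ n) this)

variable {F : Art Λ k ⥤ Type v}

lemma along_trunc_app {R : CRing Λ k} (ξ : Family R.carrier R.res F) (g : R.carrier →ₐ[Λ] S.carrier)
    (hg : S.res.comp g = R.res) (n : ℕ) :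
    (ξ.along g hg).toFormalElt.elt n = ξ.app (S.trunc n) ⟨(S.truncHom n).1.comp g, by
      rw [← AlgHom.comp_assoc, (S.truncHom n).2, hg]⟩ := rfl

/-- Versal families induce all formal elements. -/
lemma exists_along_toFormalElt_eq (h0 : H0 F) (R : CRing Λ k) (ξ : Family R.carrier R.res F)
    (hξ : IsVersal ξ) (η : FormalElt F S) :
    ∃ (g : R.carrier →ₐ[Λ] S.carrier) (hg : S.res.comp g = R.res), (ξ.along g hg).toFormalElt = η := by
  obtain ⟨a₀, ha₀⟩ := isVersal_surjective ξ hξ h0 (S.trunc 0) (η.elt 0)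
  obtain ⟨a, -, ha⟩ := exists_seq (X := fun n => {a : HomSet R.carrier R.res (S.trunc n) //
      ξ.app _ a = η.elt n}) (fun n x y => HomSet.map (S.truncMap n) y.1 = x.1) ⟨a₀, ha₀⟩
    (fun n x => by
      obtain ⟨ψ, h₁, h₂⟩ := hξ (S.truncMap n) (truncMap_surjective S n) x.1 (η.elt (n + 1))
        (by rw [η.compat, x.2])
      exact ⟨⟨ψ, h₂⟩, h₁⟩)
  obtain ⟨g, hg, hga⟩ := exists_algHom_of_trunc (fun n => (a n).1) ha
  refine ⟨g, hg, FormalElt.ext' fun n => ?_⟩
  rw [along_trunc_app, ← (a n).2]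
  exact congrArg (ξ.app _) (Subtype.ext (hga n))

/-- Smooth morphisms are surjective on formal elements. -/
lemma formalElt_map_surjective {G : Art Λ k ⥤ Type v} (η : F ⟶ G) (hη : IsSmooth η)
    (h0 : Function.Surjective (η.app (Art.base Λ k))) (R : CRing Λ k) :
    Function.Surjective (fun u : FormalElt F R => u.map η) := by
  intro w
  obtain ⟨a₀, ha₀⟩ := surjective_app_of_isSmooth η hη h0 (R.trunc 0) (w.elt 0)
  obtain ⟨a, -, ha⟩ := exists_seq (X := fun n => {a : F.obj (R.trunc n) // η.app _ a = w.elt n})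
    (fun n x y => F.map (R.truncMap n) y.1 = x.1) ⟨a₀, ha₀⟩
    (fun n x => by
      obtain ⟨z, h₁, h₂⟩ := (isSmooth_iff η).1 hη (R.truncMap n) (truncMap_surjective R n) x.1
        (w.elt (n + 1)) (by rw [x.2, w.compat])
      exact ⟨⟨z, h₂⟩, h₁⟩)
  exact ⟨⟨fun n => (a n).1, ha⟩, FormalElt.ext' fun n => (a n).2⟩

end HomToCRing

end GrothLib.ArtFun
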