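import Groth.Agent.Lib.ArtFun.SmallExt
import Mathlib.RingTheory.Flat.Tensor
import Mathlib.RingTheory.LocalRing.Module
import Mathlib.LinearAlgebra.TensorProduct.RightExactness
import Mathlib.RingTheory.HopkinsLevitzki

/-!
# Functors of Artin rings: freeness through small extensions
-/

universe u v

namespace GrothLib.ArtFun

open _root_.ArtFun CategoryTheory IsLocalRing
open scoped TensorProduct

/-- A maximal proper subideal of a nonzero ideal contains `m` times the ideal. -/
lemma exists_covered_ideal {R : Type u} [CommRing R] [IsNoetherianRing R] [IsLocalRing R]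
    {a : Ideal R} (ha : a ≠ ⊥) :
    ∃ b : Ideal R, b < a ∧ maximalIdeal R * a ≤ b ∧ ∃ t ∈ a, t ∉ b ∧ a = b ⊔ Ideal.span {t} := by
  obtain ⟨b, hb, hmax⟩ := wellFounded_gt.has_min {b : Ideal R | b < a} ⟨⊥, bot_lt_iff_ne_bot.2 ha⟩
  have hmax' : ∀ c, b ≤ c → c < a → c = b := fun c hbc hc => by
    by_contra hne
    exact hmax c hc (lt_of_le_of_ne hbc fun h => hne h.symm)
  have hm : maximalIdeal R * a ≤ b := by
    have h1 : b ⊔ maximalIdeal R * a ≤ a := sup_le hb.le Ideal.mul_le_right
    rcases h1.lt_or_eq with h | h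
    · exact le_sup_right.trans (hmax' _ le_sup_left h).le
    · exact absurd (Submodule.le_of_le_smul_of_le_jacobson_bot (IsNoetherian.noetherian a)
        (maximalIdeal_le_jacobson ⊥) (by rw [Ideal.smul_eq_mul]; exact h.ge)) hb.not_ge
  obtain ⟨t, hta, htb⟩ := SetLike.exists_of_lt (show b < a from hb)
  refine ⟨b, hb, hm, t, hta, htb, ?_⟩
  have h1 : b ⊔ Ideal.span {t} ≤ a := sup_le hb.le ((Ideal.span_singleton_le_iff_mem _).2 hta)
  rcases h1.lt_or_eq with h | h
  · exact absurd ((hmax' _ le_sup_left h).le (le_sup_right (a := b) (Ideal.mem_span_singleton_self t))) htb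
  · exact h.symm

/-- Injectivity of `M ⊗ I → M ⊗ A'` on all small extensions forces freeness. -/
lemma free_of_lTensor_smallExt
    (R : Type u) [CommRing R] [IsArtinianRing R] [IsLocalRing R]
    (k : Type u) [Field k] [Algebra R k] (hk : Function.Surjective (algebraMap R k))
    (M : Type u) [AddCommGroup M] [Module R M] [Module.Finite R M]
    (h : ∀ (A' A : Art R k) (p : A' ⟶ A), Art.IsSmallExt p →
      Function.Injective
        (LinearMap.lTensor M (((RingHom.ker p.toAlgHom).restrictScalars R).subtype))) :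
    Module.Free R M := by
  suffices key : ∀ a : Ideal R, Function.Injective (LinearMap.lTensor M a.subtype) by
    haveI : Module.Flat R M := Module.Flat.iff_lTensor_injective'.2 key
    exact Module.free_of_flat_of_isLocalRing
  intro a
  refine wellFounded_lt.induction (C := fun c : Ideal R => Function.Injective (LinearMap.lTensor M c.subtype)) a ?_
  intro a ih
  by_cases ha : a = ⊥
  · subst ha
    intro x y _
    exact Subsingleton.elim x y
  by_cases htop : a = ⊤
  · subst htop
    let s : R →ₗ[R] (⊤ : Ideal R) := LinearMap.codRestrict ⊤ LinearMap.id fun _ => trivial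
    refine Function.LeftInverse.injective (g := LinearMap.lTensor M s) fun x => ?_
    rw [← LinearMap.comp_apply, ← LinearMap.lTensor_comp,
      show s.comp (Submodule.subtype ⊤) = LinearMap.id from LinearMap.ext fun _ => Subtype.ext rfl,
      LinearMap.lTensor_id, LinearMap.id_apply]
  obtain ⟨b, hb, hm, t, hta, htb, hbt⟩ := exists_covered_ideal ha
  let P : Art R k := Art.of R (Algebra.ofId R k) hk
  have haP : a ≤ maximalIdeal P := IsLocalRing.le_maximalIdeal htop
  have hbP : b ≤ maximalIdeal P := hb.le.trans haP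
  have hbq : b ≤ RingHom.ker (Art.quotMk P a haP).toAlgHom := by rw [ker_quotMk]; exact hb.le
  let q := Art.quotFactor hbP (Art.quotMk P a haP) hbq
  have hqm : ∀ r : R, q (Ideal.Quotient.mk b r) = 0 ↔ r ∈ a := fun r =>
    quotMk_eq_zero_iff (B := P) haP
  have hq : Art.IsSmallExt q := by
    refine isSmallExt_of_gen (quotFactor_surjective hbP hbq (Art.quotMk_surjective P a haP))
      (t := Ideal.Quotient.mk b t) ?_ ?_ ?_
    · refine le_antisymm (fun z hz => ?_) ((Ideal.span_singleton_le_iff_mem _).2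
        (mem_ker_iff.2 ((hqm t).2 hta)))
      obtain ⟨r, rfl⟩ := Ideal.Quotient.mk_surjective z
      have hr := (hqm r).1 (mem_ker_iff.1 hz)
      rw [hbt] at hr
      obtain ⟨y, hy, w, hw, rfl⟩ := Submodule.mem_sup.1 hr
      obtain ⟨c, rfl⟩ := Ideal.mem_span_singleton'.1 hw
      refine Ideal.mem_span_singleton'.2 ⟨Ideal.Quotient.mk b c,
        ((map_mul (Ideal.Quotient.mk b) c t).symm.trans (Ideal.Quotient.eq.2 ?_))⟩
      simpa using neg_mem hy
    · exact fun h0 => htb (Ideal.Quotient.eq_zero_iff_mem.1 h0)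
    · intro z hz
      obtain ⟨r, rfl⟩ := Ideal.Quotient.mk_surjective z
      have hr : r ∈ maximalIdeal R := (Art.mem_maximalIdeal_iff P r).2
        (((Art.quot P b hbP).mem_maximalIdeal_iff _).1 hz)
      change Ideal.Quotient.mk b r * Ideal.Quotient.mk b t = 0
      rw [← map_mul]
      exact Ideal.Quotient.eq_zero_iff_mem.2 (hm (Ideal.mul_mem_mul hr hta))
  let I := (RingHom.ker q.toAlgHom).restrictScalars R
  let π : a →ₗ[R] I := LinearMap.codRestrict I ((Ideal.Quotient.mkₐ R b).toLinearMap.comp a.subtype)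
    fun r => mem_ker_iff.2 ((hqm r).2 r.2)
  have hπ : Function.Surjective π := fun z => by
    obtain ⟨r, hr⟩ := Ideal.Quotient.mk_surjective z.1
    exact ⟨⟨r, (hqm r).1 ((congrArg q hr).trans (mem_ker_iff.1 z.2))⟩, Subtype.ext hr⟩
  have hex : Function.Exact (Submodule.inclusion hb.le) π := fun r => by
    refine ⟨fun h0 => ⟨⟨r.1, Ideal.Quotient.eq_zero_iff_mem.1 (congrArg Subtype.val h0)⟩, rfl⟩, ?_⟩
    rintro ⟨y, rfl⟩
    exact Subtype.ext (Ideal.Quotient.eq_zero_iff_mem.2 y.2)
  rw [injective_iff_map_eq_zero]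
  intro x hx
  have h1 : LinearMap.lTensor M π x = 0 := by
    refine h _ _ q hq ?_
    rw [map_zero]
    rw [← LinearMap.comp_apply, ← LinearMap.lTensor_comp]
    exact (LinearMap.lTensor_comp_apply M (Ideal.Quotient.mkₐ R b).toLinearMap a.subtype x).trans
      ((congrArg _ hx).trans (map_zero _))
  obtain ⟨y, rfl⟩ := (lTensor_exact M hex hπ x).1 h1
  rw [← LinearMap.comp_apply, ← LinearMap.lTensor_comp, Submodule.subtype_comp_inclusion] at hx
  rw [(injective_iff_map_eq_zero _).1 (ih b hb) y hx, map_zero]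

end GrothLib.ArtFun
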