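import Mathlib.RingTheory.Etale.Kaehler
import Mathlib.RingTheory.Etale.StandardEtale
import Mathlib.RingTheory.Smooth.Flat
import Mathlib.RingTheory.Smooth.Basic
import Mathlib.FieldTheory.PrimitiveElement
import Mathlib.Algebra.Polynomial.Lifts

/-!
# `H¹(L)` along a separable extension of the image field
-/

universe u

namespace GrothLib.ArtFun

open Algebra Polynomial
open scoped TensorProduct

variable {Λ K k : Type u} [CommRing Λ]

lemma exists_hom_self [CommRing K] [Algebra Λ K] (E : Extension.{u} Λ K) :
    Nonempty ((Generators.self Λ K).toExtension.Hom E) := by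
  refine ⟨{ toRingHom := (MvPolynomial.aeval E.σ : MvPolynomial K Λ →ₐ[Λ] E.Ring).toRingHom
            toRingHom_algebraMap := fun x => (MvPolynomial.aeval E.σ).commutes x
            algebraMap_toRingHom := fun x => ?_ }⟩
  have h : (IsScalarTower.toAlgHom Λ E.Ring K).comp (MvPolynomial.aeval E.σ) =
      (MvPolynomial.aeval id : MvPolynomial K Λ →ₐ[Λ] K) :=
    MvPolynomial.algHom_ext fun i => by simp
  exact DFunLike.congr_fun h x

variable [Field k] [Field K] [Algebra Λ K] [Algebra Λ k] [Algebra K k] [IsScalarTower Λ K k]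

/-- The standard étale lift of a finite separable extension of a residue field. -/
lemma exists_etale_lift (hK : Function.Surjective (algebraMap Λ K)) [FiniteDimensional K k]
    [Algebra.IsSeparable K k] :
    ∃ (S : Type u) (_ : CommRing S) (_ : Algebra Λ S) (_ : Algebra.Etale Λ S) (χ : S →ₐ[Λ] k),
      Function.Surjective χ ∧ RingHom.ker χ ≤ (RingHom.ker (algebraMap Λ K)).map (algebraMap Λ S) := by
  obtain ⟨α, hα⟩ := Field.exists_primitive_element K k
  have hint : IsIntegral K α := IsIntegral.of_finite K α
  haveI : Nontrivial K := inferInstance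
  obtain ⟨G, hG, -, hGm⟩ := Polynomial.lifts_and_degree_eq_and_monic
    ((Polynomial.mem_lifts _).2 (Polynomial.map_surjective _ hK (minpoly K α))) (minpoly.monic hint)
  let E : StandardEtalePair Λ := ⟨G, hGm, derivative G, 1, 0, 1, by simp⟩
  have hGα : aeval α G = 0 := by
    rw [← aeval_map_algebraMap K, hG, minpoly.aeval]
  have hG'α : IsUnit (aeval α (derivative G)) := by
    rw [← aeval_map_algebraMap K, ← derivative_map, hG, isUnit_iff_ne_zero]
    exact (Algebra.IsSeparable.isSeparable K α).aeval_derivative_ne_zero (minpoly.aeval K α)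
  let χ : E.Ring →ₐ[Λ] k := E.lift α ⟨hGα, hG'α⟩
  have hev : Function.Surjective (aeval α : K[X] →ₐ[K] k) := fun y => by
    have hy : y ∈ Algebra.adjoin K ({α} : Set k) := by
      rw [← IntermediateField.adjoin_simple_toSubalgebra_of_isAlgebraic hint.isAlgebraic, hα]
      trivial
    rwa [Algebra.adjoin_singleton_eq_range_aeval] at hy
  have hχs : Function.Surjective χ := fun y => by
    obtain ⟨p, rfl⟩ := hev y
    obtain ⟨P, rfl⟩ := Polynomial.map_surjective _ hK p
    refine ⟨aeval E.X P, ?_⟩
    rw [← aeval_algHom_apply, StandardEtalePair.lift_X, aeval_map_algebraMap]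
  let I : Ideal E.Ring := (RingHom.ker (algebraMap Λ K)).map (algebraMap Λ E.Ring)
  refine ⟨E.Ring, inferInstance, inferInstance, inferInstance, χ, hχs, fun s hs => ?_⟩
  let j : K →+* E.Ring ⧸ I := RingHom.liftOfSurjective (algebraMap Λ K) hK
    ⟨(Ideal.Quotient.mk I).comp (algebraMap Λ E.Ring), fun l hl => by
      rw [RingHom.mem_ker, RingHom.comp_apply, Ideal.Quotient.eq_zero_iff_mem]
      exact Ideal.mem_map_of_mem _ hl⟩
  have hj : ∀ l, j (algebraMap Λ K l) = Ideal.Quotient.mk I (algebraMap Λ E.Ring l) := fun l =>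
    RingHom.liftOfRightInverse_comp_apply _ _ _ _ l
  letI : Algebra K (E.Ring ⧸ I) := j.toAlgebra
  haveI : IsScalarTower Λ K (E.Ring ⧸ I) := IsScalarTower.of_algebraMap_eq fun l =>
    (hj l).symm
  have hx : aeval (Ideal.Quotient.mkₐ Λ I E.X) (minpoly K α) = 0 := by
    rw [← hG, aeval_map_algebraMap, aeval_algHom_apply]
    exact (congrArg _ (E.hasMap_X.1)).trans (map_zero _)
  have hker : ∀ p : K[X], aeval α p = 0 → aeval (Ideal.Quotient.mkₐ Λ I E.X) p = 0 := fun p hp => by
    obtain ⟨q, rfl⟩ := minpoly.dvd K α hp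
    rw [map_mul, hx, zero_mul]
  let h₀ : (K[X] ⧸ RingHom.ker (aeval α : K[X] →ₐ[K] k)) →ₐ[K] E.Ring ⧸ I :=
    Ideal.Quotient.liftₐ _ (aeval (Ideal.Quotient.mkₐ Λ I E.X))
      fun p hp => hker p (RingHom.mem_ker.1 hp)
  let e := Ideal.quotientKerAlgEquivOfSurjective hev
  let h : k →ₐ[K] E.Ring ⧸ I := h₀.comp e.symm.toAlgHom
  have hh : ∀ p : K[X], h (aeval α p) = aeval (Ideal.Quotient.mkₐ Λ I E.X) p := fun p =>
    (congrArg h₀ (e.symm_apply_apply (Ideal.Quotient.mk _ p))).trans rfl
  have hcomp : (h.restrictScalars Λ).comp χ = Ideal.Quotient.mkₐ Λ I := E.hom_ext (by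
    have hX := hh Polynomial.X
    rw [Polynomial.aeval_X, Polynomial.aeval_X] at hX
    rw [AlgHom.comp_apply, AlgHom.restrictScalars_apply, StandardEtalePair.lift_X, hX])
  refine Ideal.Quotient.eq_zero_iff_mem.1 ?_
  refine (DFunLike.congr_fun hcomp s).symm.trans ?_
  change h (χ s) = 0
  rw [RingHom.mem_ker.1 hs, map_zero]

/-- Base change of `H¹(L)` along a finite separable extension of the residue field. -/
lemma h1Cotangent_liftBaseChange_bijective (hK : Function.Surjective (algebraMap Λ K))
    [FiniteDimensional K k] [Algebra.IsSeparable K k] :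
    Function.Bijective ((H1Cotangent.map Λ Λ K k).liftBaseChange k) := by
  obtain ⟨S, iS, iA, iE, χ, hχs, hχk⟩ := exists_etale_lift (k := k) hK
  let P : Extension.{u} Λ K := Extension.ofSurjective (Algebra.ofId Λ K) hK
  let Q : Extension.{u} Λ k := Extension.ofSurjective χ hχs
  let f : P.Hom Q :=
    { toRingHom := algebraMap Λ S
      toRingHom_algebraMap := fun x => rfl
      algebraMap_toRingHom := fun x => (χ.commutes x).trans (IsScalarTower.algebraMap_apply Λ K k x) }
  letI algPQ : Algebra P.Ring Q.Ring := (inferInstance : Algebra Λ S)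
  haveI : FormallySmooth Λ P.Ring := inferInstanceAs (FormallySmooth Λ Λ)
  haveI : FormallySmooth Λ Q.Ring := inferInstanceAs (FormallySmooth Λ S)
  have H₁ : f.toRingHom.FormallyEtale :=
    RingHom.formallyEtale_algebraMap.2 (inferInstance : Algebra.FormallyEtale Λ S)
  have H₂ : Function.Bijective ((f.mapKer rfl).liftBaseChange Q.Ring) := by
    constructor
    · let ι : (P.ker : Submodule P.Ring P.Ring) →ₗ[P.Ring] P.Ring := Submodule.subtype P.ker
      haveI : Module.Flat P.Ring Q.Ring := inferInstanceAs (Module.Flat Λ S)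
      have hflat := Module.Flat.lTensor_preserves_injective_linearMap (M := Q.Ring) ι Subtype.val_injective
      have he : ((Submodule.subtype Q.ker).restrictScalars P.Ring).comp
          (((f.mapKer rfl).liftBaseChange Q.Ring).restrictScalars P.Ring) =
          (TensorProduct.rid P.Ring Q.Ring).toLinearMap.comp (LinearMap.lTensor Q.Ring ι) := by
        refine TensorProduct.ext' fun q x => ?_
        change q * algebraMap P.Ring Q.Ring (x : P.Ring) = (x : P.Ring) • q
        rw [Algebra.smul_def, mul_comm]
      intro a b hab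
      refine hflat ((TensorProduct.rid P.Ring Q.Ring).injective ?_)
      have ha := DFunLike.congr_fun he a
      have hb := DFunLike.congr_fun he b
      exact ha.symm.trans ((congrArg Subtype.val hab).trans hb)
    · rintro ⟨y, hy⟩
      have hy' : y ∈ (RingHom.ker (algebraMap Λ K)).map (algebraMap Λ S) := hχk hy
      suffices ∀ z (hz : z ∈ (RingHom.ker (algebraMap Λ K)).map (algebraMap Λ S)),
          ∃ w, (((f.mapKer rfl).liftBaseChange Q.Ring) w : Q.Ring) = z from
        (this y hy').elim fun w hw => ⟨w, Subtype.ext hw⟩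
      intro z hz
      refine Submodule.span_induction ?_ ⟨0, by rw [map_zero]; rfl⟩ ?_ ?_ hz
      · rintro _ ⟨l, hl, rfl⟩
        exact ⟨(1 : Q.Ring) ⊗ₜ[P.Ring] (⟨l, hl⟩ : P.ker), (one_mul _)⟩
      · rintro a b _ _ ⟨w, rfl⟩ ⟨w', rfl⟩
        exact ⟨w + w', by rw [map_add]; rfl⟩
      · rintro c a _ ⟨w, rfl⟩
        exact ⟨(show Q.Ring from c) • w, by rw [map_smul]; rfl⟩
  let E := Extension.tensorH1CotangentOfFormallyEtale f rfl H₁ H₂
  let eP := P.equivH1CotangentOfFormallySmooth
  let eQ := Q.equivH1CotangentOfFormallySmooth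
  obtain ⟨a⟩ := exists_hom_self P
  obtain ⟨b⟩ := exists_hom_self Q
  haveI : FormallySmooth Λ (Generators.self Λ K).toExtension.Ring :=
    (inferInstance : FormallySmooth Λ (MvPolynomial _ Λ))
  haveI : FormallySmooth Λ (Generators.self Λ k).toExtension.Ring :=
    (inferInstance : FormallySmooth Λ (MvPolynomial _ Λ))
  have haP : ∀ y, eP.symm y = Extension.H1Cotangent.map a y := fun y => by
    change (Extension.H1Cotangent.equivOfFormallySmooth _ _).symm y = _
    rw [Extension.H1Cotangent.equivOfFormallySmooth_symm]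
    exact Extension.H1Cotangent.equivOfFormallySmooth_apply a y
  have hbQ : ∀ y, eQ.symm y = Extension.H1Cotangent.map b y := fun y => by
    change (Extension.H1Cotangent.equivOfFormallySmooth _ _).symm y = _
    rw [Extension.H1Cotangent.equivOfFormallySmooth_symm]
    exact Extension.H1Cotangent.equivOfFormallySmooth_apply b y
  have hcomm : ∀ w : k ⊗[K] H1Cotangent Λ K,
      eQ.symm ((H1Cotangent.map Λ Λ K k).liftBaseChange k w) =
        E ((TensorProduct.congr (LinearEquiv.refl K k) eP.symm) w) := by
    intro w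
    induction w using TensorProduct.induction_on with
    | zero => simp
    | add x y hx hy => rw [map_add, map_add, map_add, map_add, hx, hy]
    | tmul c y =>
      rw [LinearMap.liftBaseChange_tmul, map_smul, TensorProduct.congr_tmul, hbQ, haP]
      change _ = (Extension.H1Cotangent.map f).liftBaseChange k (c ⊗ₜ _)
      rw [LinearMap.liftBaseChange_tmul]
      congr 1
      change Extension.H1Cotangent.map b (Extension.H1Cotangent.map _ y) = _
      rw [← Extension.H1Cotangent.map_comp_apply, ← Extension.H1Cotangent.map_comp_apply,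
        Extension.H1Cotangent.map_eq]
  have hbij : Function.Bijective (fun w => eQ.symm ((H1Cotangent.map Λ Λ K k).liftBaseChange k w)) := by
    rw [funext hcomm]
    exact E.bijective.comp (TensorProduct.congr (LinearEquiv.refl K k) eP.symm).bijective
  exact (Function.Bijective.of_comp_iff' eQ.symm.bijective _).1 hbij

end GrothLib.ArtFun
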