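import Groth.Agent.Lib.ArtFun.SmallExt

/-!
# Functors of Artin rings: the least ideal of a semismall extension to which an element lifts
-/

universe u v

namespace GrothLib.ArtFun

open _root_.ArtFun CategoryTheory IsLocalRing

variable {Λ : Type u} {k : Type u} [CommRing Λ] [Field k] [Algebra Λ k]

variable {B A : Art Λ k}

/-- Complements inside an ideal killed by the maximal ideal. -/
lemma exists_complement {K J J' : Ideal B} (hK : maximalIdeal B * K = ⊥) (hJ : J ≤ K) (hJ' : J' ≤ K) :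
    ∃ J'' : Ideal B, J' ≤ J'' ∧ J'' ≤ K ∧ J ⊓ J'' ≤ J' ∧ J ⊔ J'' = K := by
  haveI : IsNoetherianRing B := inferInstance
  obtain ⟨J'', ⟨h₁, h₂, h₃⟩, hmax⟩ :=
    set_has_maximal_iff_noetherian.2 (inferInstance : IsNoetherian B B)
      {M : Ideal B | J' ≤ M ∧ M ≤ K ∧ J ⊓ M ≤ J'} ⟨J', le_rfl, hJ', inf_le_right⟩
  refine ⟨J'', h₁, h₂, h₃, le_antisymm (sup_le hJ h₂) fun z hz => ?_⟩
  by_contra hzn
  have hmem : (J'' ⊔ Ideal.span {z} : Ideal B) ∈ {M : Ideal B | J' ≤ M ∧ M ≤ K ∧ J ⊓ M ≤ J'} := by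
    refine ⟨h₁.trans le_sup_left, sup_le h₂ (by rwa [Ideal.span_le, Set.singleton_subset_iff]), ?_⟩
    rintro w ⟨hwJ, hw⟩
    obtain ⟨j, hj, y, hy, rfl⟩ := Submodule.mem_sup.1 hw
    obtain ⟨a, rfl⟩ := Ideal.mem_span_singleton'.1 hy
    by_cases ha : a ∈ maximalIdeal B
    · rw [mul_eq_zero_of_mem_maximalIdeal hK ha hz, add_zero]
      refine h₃ ⟨?_, hj⟩
      simpa [mul_eq_zero_of_mem_maximalIdeal hK ha hz] using hwJ
    · exfalso
      obtain ⟨b, hb⟩ := isUnit_iff_exists_inv'.1 (IsLocalRing.notMem_maximalIdeal.1 ha)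
      refine hzn ?_
      rw [show z = b * (j + a * z) + (-b) * j by linear_combination -(z : B) * hb]
      exact Ideal.add_mem _ (Ideal.mem_sup_left (Ideal.mul_mem_left _ _ hwJ))
        (Ideal.mem_sup_right (Ideal.mul_mem_left _ _ hj))
  refine hmax _ hmem (lt_of_le_of_ne le_sup_left fun e => hzn (Ideal.mem_sup_right ?_))
  rw [e]
  exact Ideal.mem_sup_right (Ideal.mem_span_singleton_self z)

variable {F : Art Λ k ⥤ Type v}

/-- `x` lifts to `B/J`. -/
def LiftsTo (p : B ⟶ A) (x : F.obj A) (J : Ideal B) : Prop :=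
  ∃ (hJ : J ≤ RingHom.ker p.toAlgHom) (hJ' : J ≤ maximalIdeal B) (y : F.obj (Art.quot B J hJ')),
    F.map (Art.quotFactor hJ' p hJ) y = x

lemma quot_fp {p : B ⟶ A} (hps : Function.Surjective p) {I J J'' : Ideal B} (hI : I ≤ maximalIdeal B)
    (hJm : J ≤ maximalIdeal B) (hJm'' : J'' ≤ maximalIdeal B) (hJ : J ≤ RingHom.ker p.toAlgHom)
    (hJ'' : J'' ≤ RingHom.ker p.toAlgHom) (hIJ : I ≤ J) (hIJ'' : I ≤ J'') (hinf : J ⊓ J'' ≤ I)
    (hsup : J ⊔ J'' = RingHom.ker p.toAlgHom) :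
    Art.IsFibreProd
      (Art.quotFactor hI (Art.quotMk B J hJm) (hIJ.trans (ker_quotMk hJm).ge))
      (Art.quotFactor hI (Art.quotMk B J'' hJm'') (hIJ''.trans (ker_quotMk hJm'').ge))
      (Art.quotFactor hJm p hJ) (Art.quotFactor hJm'' p hJ'') where
  w := hom_ext_apply fun x => by
    obtain ⟨b, rfl⟩ := Art.quotMk_surjective B I hI x
    rfl
  inj x y h₁ h₂ := by
    obtain ⟨a, rfl⟩ := Art.quotMk_surjective B I hI x
    obtain ⟨b, rfl⟩ := Art.quotMk_surjective B I hI y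
    exact Ideal.Quotient.eq.2 (hinf ⟨Ideal.Quotient.eq.1 h₁, Ideal.Quotient.eq.1 h₂⟩)
  surj x y h := by
    obtain ⟨a, rfl⟩ := Art.quotMk_surjective B J hJm x
    obtain ⟨b, rfl⟩ := Art.quotMk_surjective B J'' hJm'' y
    have hab : a - b ∈ J ⊔ J'' := by
      rw [hsup, mem_ker_iff, map_sub, sub_eq_zero]
      exact h
    obtain ⟨j, hj, j', hj', e⟩ := Submodule.mem_sup.1 hab
    refine ⟨Art.quotMk B I hI (a - j), ?_, ?_⟩
    · exact Ideal.Quotient.eq.2 (by rw [sub_sub_cancel_left]; exact neg_mem hj)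
    · refine Ideal.Quotient.eq.2 ?_
      rw [sub_right_comm, ← e, add_sub_cancel_left]
      exact hj'

/-- The least ideal of a semismall extension to which a given element lifts. -/
lemma exists_least_lift (h1 : S1 F) {p : B ⟶ A} (hp : Art.IsSemismallExt p) (x : F.obj A) :
    ∃ J₀ : Ideal B, LiftsTo p x J₀ ∧ ∀ J : Ideal B, LiftsTo p x J → J₀ ≤ J := by
  have hK : RingHom.ker p.toAlgHom ≤ maximalIdeal B := ker_le_maximalIdeal p
  have hne : ∃ J, LiftsTo p x J := by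
    have hb : Function.Bijective (Art.quotFactor hK p le_rfl) := by
      refine ⟨fun a b e => ?_, quotFactor_surjective hK le_rfl hp.1⟩
      obtain ⟨a, rfl⟩ := Art.quotMk_surjective B _ hK a
      obtain ⟨b, rfl⟩ := Art.quotMk_surjective B _ hK b
      refine Ideal.Quotient.eq.2 (mem_ker_iff.2 ?_)
      rw [map_sub, sub_eq_zero]
      exact e
    haveI := isIso_of_bijective _ hb
    exact ⟨_, le_rfl, hK, F.map (inv (Art.quotFactor hK p le_rfl)) x, map_inv_hom F _ x⟩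
  have hinf : ∀ J J', LiftsTo p x J → LiftsTo p x J' → LiftsTo p x (J ⊓ J') := by
    rintro J J' ⟨hJ, hJm, y, hy⟩ ⟨hJ', hJ'm, y', hy'⟩
    obtain ⟨J'', h₁, h₂, h₃, h₄⟩ := exists_complement hp.2 hJ hJ'
    have hJ''m : J'' ≤ maximalIdeal B := h₂.trans hK
    have hI : J ⊓ J' ≤ maximalIdeal B := inf_le_left.trans hJm
    have hsq := quot_fp hp.1 hI hJm hJ''m hJ h₂ inf_le_left (inf_le_right.trans h₁)
      (le_inf inf_le_left h₃) h₄
    obtain ⟨z, hz₁, -⟩ := exists_of_cmp_surjective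
      (h1 _ _ _ _ hsq (quotFactor_surjective hJ''m h₂ hp.1)) y
      (F.map (Art.quotFactor hJ'm (Art.quotMk B J'' hJ''m) (h₁.trans (ker_quotMk hJ''m).ge)) y')
      (by
        rw [map_map, hy, ← hy']
        exact congrArg (fun f => F.map f y') (hom_ext_apply fun a => by
          obtain ⟨b, rfl⟩ := Art.quotMk_surjective B J' hJ'm a
          rfl))
    refine ⟨inf_le_left.trans hJ, hI, z, ?_⟩
    rw [← hy, ← hz₁, map_map]
    exact congrArg (fun f => F.map f z) (hom_ext_apply fun a => by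
      obtain ⟨b, rfl⟩ := Art.quotMk_surjective B _ hI a
      rfl)
  obtain ⟨J₀, hJ₀, hmin⟩ :=
    (IsWellFounded.wf (r := ((· < ·) : Ideal B → Ideal B → Prop))).has_min {J | LiftsTo p x J} hne
  refine ⟨J₀, hJ₀, fun J hJ => ?_⟩
  by_contra hle
  exact hmin _ (hinf J₀ J hJ₀ hJ) (inf_lt_left.2 hle)

end GrothLib.ArtFun
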