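import Groth.Agent.Lib.ArtFun.Basic
import Mathlib.Dynamics.Newton
import Mathlib.RingTheory.Unramified.Field
import Mathlib.RingTheory.IntegralClosure.IsIntegralClosure.Basic
import Mathlib.FieldTheory.Separable

/-!
# Functors of Artin rings: lifting separable residue elements
-/

universe u v

namespace GrothLib.ArtFun

open _root_.ArtFun CategoryTheory IsLocalRing Polynomial

variable {Λ : Type u} {k : Type u} [CommRing Λ] [Field k] [Algebra Λ k]

variable (Λ k) in
/-- Every element of `k` is a simple root of a polynomial over `Λ`. -/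
def SimpleRoots : Prop :=
  ∀ α : k, ∃ g : Λ[X], aeval α g = 0 ∧ aeval α (derivative g) ≠ 0

lemma simpleRoots_of_isSeparable [Algebra.IsSeparable (↥(algebraMap Λ k).range) k] :
    SimpleRoots Λ k := by
  intro α
  have hs : IsSeparable (↥(algebraMap Λ k).range) α := Algebra.IsSeparable.isSeparable _ α
  obtain ⟨g, hg⟩ := Polynomial.map_surjective (algebraMap Λ k).rangeRestrict
    (RingHom.rangeRestrict_surjective _) (minpoly (↥(algebraMap Λ k).range) α)
  have hval : ∀ q : Λ[X], aeval α (q.map (algebraMap Λ k).rangeRestrict) = aeval α q := fun q => by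
    rw [aeval_def, aeval_def, eval₂_map]
    rfl
  refine ⟨g, by rw [← hval, hg, minpoly.aeval], ?_⟩
  rw [← hval, ← derivative_map, hg]
  exact Polynomial.Separable.aeval_derivative_ne_zero hs (minpoly.aeval _ α)

lemma isSeparable_of_subsingleton_derivation [Module.Finite Λ k]
    (h : Subsingleton (Derivation Λ k k)) : Algebra.IsSeparable (↥(algebraMap Λ k).range) k := by
  let L := (algebraMap Λ k).range
  have hLk : Module.Finite (↥L) k := by
    letI : Algebra Λ L := (algebraMap Λ k).rangeRestrict.toAlgebra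
    haveI : IsScalarTower Λ L k := IsScalarTower.of_algebraMap_eq fun _ => rfl
    exact Module.Finite.of_restrictScalars_finite Λ L k
  haveI : Algebra.IsIntegral L k := Algebra.IsIntegral.of_finite L k
  have hL : IsField L :=
    isField_of_isIntegral_of_isField (R := L) (S := k) Subtype.val_injective (Field.toIsField k)
  letI : Field L := hL.toField
  haveI hfin' : Module.Finite L k := hLk
  haveI : Algebra.EssFiniteType L k := inferInstance
  haveI : Algebra.FormallyUnramified L k := by
    constructor
    have hder : ∀ D : Derivation L k k, D = 0 := fun D => by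
      have : (Derivation.mk' (R := Λ)
          { toFun := D
            map_add' := map_add D
            map_smul' := fun l x => by
              rw [Algebra.smul_def, RingHom.id_apply, Algebra.smul_def]
              exact (D.map_smul (⟨algebraMap Λ k l, l, rfl⟩ : L) x) }
          (fun a b => D.leibniz a b)) = 0 := h.elim _ _
      exact Derivation.ext fun x => DFunLike.congr_fun this x
    have hdual : Subsingleton (Ω[k⁄L] →ₗ[k] k) :=
      ⟨fun f g => (KaehlerDifferential.linearMapEquivDerivation L k).injective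
        ((hder _).trans (hder _).symm)⟩
    by_contra hns
    rw [not_subsingleton_iff_nontrivial] at hns
    obtain ⟨x, hx⟩ := exists_ne (0 : Ω[k⁄L])
    refine hx ((Module.forall_dual_apply_eq_zero_iff k x).1 fun φ => ?_)
    rw [hdual.elim φ 0, LinearMap.zero_apply]
  exact Algebra.FormallyUnramified.isSeparable L k

variable {A B : Art Λ k}

lemma res_aeval (a : A) (g : Λ[X]) : A.res (aeval a g) = aeval (A.res a) g :=
  (aeval_algHom_apply A.res a g).symm

lemma map_aeval (f : A ⟶ B) (a : A) (g : Λ[X]) : f (aeval a g) = aeval (f a) g :=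
  (aeval_algHom_apply f.toAlgHom a g).symm

lemma isNilpotent_iff_res_eq_zero {a : A} : IsNilpotent a ↔ A.res a = 0 := by
  refine ⟨fun h => (h.map A.res).eq_zero, fun h => ?_⟩
  obtain ⟨n, hn⟩ := exists_pow_maximalIdeal_eq_bot A
  exact ⟨n, by simpa [hn] using Ideal.pow_mem_pow (res_eq_zero_iff.1 h) n⟩

/-- Simple roots in the residue field lift uniquely. -/
lemma existsUnique_root {g : Λ[X]} {α : k} (h : aeval α g = 0) (h' : aeval α (derivative g) ≠ 0) :
    ∃! a : A, A.res a = α ∧ aeval a g = 0 := by
  obtain ⟨a₀, ha₀⟩ := A.res_surjective α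
  obtain ⟨r, ⟨hr₁, hr₂⟩, hr₃⟩ := Polynomial.existsUnique_nilpotent_sub_and_aeval_eq_zero
    (x := a₀) (P := g) (by rw [isNilpotent_iff_res_eq_zero, res_aeval, ha₀, h])
    (by rw [isUnit_iff_res_ne_zero, res_aeval, ha₀]; exact h')
  refine ⟨r, ⟨?_, hr₂⟩, fun s hs => hr₃ s ⟨?_, hs.2⟩⟩
  · rw [isNilpotent_iff_res_eq_zero, map_sub, sub_eq_zero] at hr₁
    rw [← hr₁, ha₀]
  · rw [isNilpotent_iff_res_eq_zero, map_sub, hs.1, ha₀, sub_self]

/-- With separable residue field extension every fibre product exists. -/
lemma exists_isFibreProd_of_simpleRoots (hsep : SimpleRoots Λ k) {A A' A'' : Art Λ k}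
    (f' : A' ⟶ A) (f'' : A'' ⟶ A) :
    ∃ (B : Art Λ k) (p' : B ⟶ A') (p'' : B ⟶ A''), Art.IsFibreProd p' p'' f' f'' := by
  refine exists_isFibreProd f' f'' fun c => ?_
  obtain ⟨g, hg, hg'⟩ := hsep c
  obtain ⟨a', ha'⟩ := (existsUnique_root (A := A') hg hg').exists
  obtain ⟨a'', ha''⟩ := (existsUnique_root (A := A'') hg hg').exists
  refine ⟨a', a'', (existsUnique_root (A := A) hg hg').unique ⟨?_, ?_⟩ ⟨?_, ?_⟩, ha'.1⟩
  · rw [Art.res_app, ha'.1]
  · rw [← map_aeval, ha'.2, map_zero]
  · rw [Art.res_app, ha''.1]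
  · rw [← map_aeval, ha''.2, map_zero]

end GrothLib.ArtFun
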