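import Groth.Agent.Lib.ArtFun.Smooth
import Mathlib.LinearAlgebra.Pi

/-!
# Functors of Artin rings: square-zero extensions of `k` and the tangent space
-/

universe u v

namespace GrothLib.ArtFun

open _root_.ArtFun CategoryTheory IsLocalRing

variable {Λ : Type u} {k : Type u} [CommRing Λ] [Field k] [Algebra Λ k]

section Tsze

variable (Λ k) (M : Type u) [AddCommGroup M] [Module k M] [Module kᵐᵒᵖ M] [IsCentralScalar k M]
  [Module.Finite k M] [Module Λ M] [IsScalarTower Λ k M] [IsScalarTower Λ kᵐᵒᵖ M]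

/-- `k ⊕ M` as an object. -/
def tsze : Art Λ k :=
  { carrier := TrivSqZeroExt k M
    isLocalRing := Art.isLocalRing_tsze k M
    isArtinianRing := Art.isArtinianRing_tsze k M
    res := TrivSqZeroExt.fstHom Λ k M
    res_surjective := fun a => ⟨TrivSqZeroExt.inl a, rfl⟩ }

variable {Λ k} {M}
variable {N : Type u} [AddCommGroup N] [Module k N] [Module kᵐᵒᵖ N] [IsCentralScalar k N]
  [Module.Finite k N] [Module Λ N] [IsScalarTower Λ k N] [IsScalarTower Λ kᵐᵒᵖ N]
variable {P : Type u} [AddCommGroup P] [Module k P] [Module kᵐᵒᵖ P] [IsCentralScalar k P]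
  [Module.Finite k P] [Module Λ P] [IsScalarTower Λ k P] [IsScalarTower Λ kᵐᵒᵖ P]

/-- The morphism induced by a linear map. -/
def tszeHom (f : M →ₗ[k] N) : tsze Λ k M ⟶ tsze Λ k N :=
  ⟨Art.tszeMap f, AlgHom.ext fun _ => rfl⟩

lemma tszeHom_comp (f : M →ₗ[k] N) (g : N →ₗ[k] P) :
    (tszeHom f : tsze Λ k M ⟶ _) ≫ tszeHom g = tszeHom (g ∘ₗ f) := hom_ext_apply fun _ => rfl

lemma tszeHom_id : (tszeHom (LinearMap.id : M →ₗ[k] M) : tsze Λ k M ⟶ _) = 𝟙 _ :=
  hom_ext_apply fun _ => rfl

lemma tszeHom_fst (f : M →ₗ[k] N) (x : tsze Λ k M) :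
    TrivSqZeroExt.fst ((tszeHom f : tsze Λ k M ⟶ _) x) = TrivSqZeroExt.fst x := rfl

variable (Λ M) in
/-- The inclusion `k → k ⊕ M`. -/
def baseToTsze : Art.base Λ k ⟶ tsze Λ k M :=
  ⟨({ toFun := fun a => (TrivSqZeroExt.inl a : TrivSqZeroExt k M)
      map_one' := TrivSqZeroExt.inl_one M
      map_mul' := fun a b => TrivSqZeroExt.inl_mul M a b
      map_zero' := TrivSqZeroExt.inl_zero M
      map_add' := fun a b => TrivSqZeroExt.inl_add M a b
      commutes' := fun r => (TrivSqZeroExt.algebraMap_eq_inl' Λ k M r).symm } :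
      k →ₐ[Λ] TrivSqZeroExt k M), AlgHom.ext fun _ => rfl⟩

lemma baseToTsze_comp (f : M →ₗ[k] N) : baseToTsze Λ M ≫ tszeHom f = baseToTsze Λ N :=
  hom_ext_apply fun _ => TrivSqZeroExt.ext rfl (map_zero f)

lemma tszeHom_zero :
    (tszeHom (0 : M →ₗ[k] N) : tsze Λ k M ⟶ _) = Art.toBase _ ≫ baseToTsze Λ N :=
  hom_ext_apply fun _ => rfl

lemma isIso_toBase_tsze [Subsingleton M] : IsIso (Art.toBase (tsze Λ k M)) :=
  isIso_of_bijective _ ⟨fun _ _ h => TrivSqZeroExt.ext h (Subsingleton.elim _ _), toBase_surjective _⟩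

lemma isFibreProd_tsze (f : M →ₗ[k] N) (g : M →ₗ[k] P) (hfg : Function.Bijective (f.prod g)) :
    Art.IsFibreProd (tszeHom f : tsze Λ k M ⟶ _) (tszeHom g) (Art.toBase _) (Art.toBase _) where
  w := (Art.eq_toBase _).trans (Art.eq_toBase _).symm
  inj b₁ b₂ h₁ h₂ := TrivSqZeroExt.ext (congrArg TrivSqZeroExt.fst h₁ : _)
    (hfg.1 (Prod.ext (congrArg TrivSqZeroExt.snd h₁ : _) (congrArg TrivSqZeroExt.snd h₂ : _)))
  surj a' a'' h := by
    obtain ⟨m, hm⟩ := hfg.2 (TrivSqZeroExt.snd a', TrivSqZeroExt.snd a'')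
    exact ⟨(TrivSqZeroExt.fst a', m), TrivSqZeroExt.ext rfl (congrArg Prod.fst hm : _),
      TrivSqZeroExt.ext h (congrArg Prod.snd hm : _)⟩

end Tsze

section Linearity

variable {F : Art Λ k ⥤ Type v}

lemma L_comp {M N P : Type u} [AddCommGroup M] [Module k M] [Module kᵐᵒᵖ M] [IsCentralScalar k M]
    [Module.Finite k M] [Module Λ M] [IsScalarTower Λ k M] [IsScalarTower Λ kᵐᵒᵖ M]
    [AddCommGroup N] [Module k N] [Module kᵐᵒᵖ N] [IsCentralScalar k N]
    [Module.Finite k N] [Module Λ N] [IsScalarTower Λ k N] [IsScalarTower Λ kᵐᵒᵖ N]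
    [AddCommGroup P] [Module k P] [Module kᵐᵒᵖ P] [IsCentralScalar k P]
    [Module.Finite k P] [Module Λ P] [IsScalarTower Λ k P] [IsScalarTower Λ kᵐᵒᵖ P]
    (f : M →ₗ[k] N) (g : N →ₗ[k] P) (x : F.obj (tsze Λ k M)) :
    F.map (tszeHom g) (F.map (tszeHom f) x) = F.map (tszeHom (g ∘ₗ f)) x := by
  rw [map_map, tszeHom_comp]

variable (h0 : H0 F) (h2 : Heps F)

include h0 in
lemma L_zero_eq {M N : Type u} [AddCommGroup M] [Module k M] [Module kᵐᵒᵖ M] [IsCentralScalar k M]
    [Module.Finite k M] [Module Λ M] [IsScalarTower Λ k M] [IsScalarTower Λ kᵐᵒᵖ M]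
    [AddCommGroup N] [Module k N] [Module kᵐᵒᵖ N] [IsCentralScalar k N]
    [Module.Finite k N] [Module Λ N] [IsScalarTower Λ k N] [IsScalarTower Λ kᵐᵒᵖ N]
    (x : F.obj (tsze Λ k M)) (y : F.obj (Art.base Λ k)) :
    F.map (tszeHom (0 : M →ₗ[k] N)) x = F.map (baseToTsze Λ N) y := by
  rw [tszeHom_zero, ← map_map, h0_eq h0 (F.map (Art.toBase _) x) y]

include h0 h2 in
/-- `F(k ⊕ (M × k)) = F(k ⊕ M) × F(k[ε])`, in coordinate-free form. -/
lemma L_prod_bijective {M N : Type u} [AddCommGroup M] [Module k M] [Module kᵐᵒᵖ M] [IsCentralScalar k M]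
    [Module.Finite k M] [Module Λ M] [IsScalarTower Λ k M] [IsScalarTower Λ kᵐᵒᵖ M]
    [AddCommGroup N] [Module k N] [Module kᵐᵒᵖ N] [IsCentralScalar k N]
    [Module.Finite k N] [Module Λ N] [IsScalarTower Λ k N] [IsScalarTower Λ kᵐᵒᵖ N]
    (f : M →ₗ[k] N) (g : M →ₗ[k] k) (hfg : Function.Bijective (f.prod g)) :
    Function.Bijective (fun z : F.obj (tsze Λ k M) =>
      (F.map (tszeHom f) z, F.map (tszeHom g) z)) := by
  have hb := h2 (tszeHom f) (tszeHom g) (isFibreProd_tsze f g hfg)
  refine ⟨fun z₁ z₂ e => eq_of_cmp_injective hb.1 (congrArg Prod.fst e) (congrArg Prod.snd e),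
    fun p => ?_⟩
  obtain ⟨z, h₁, h₂⟩ := exists_of_cmp_surjective hb.2 p.1 p.2 (h0_eq h0 _ _)
  exact ⟨z, Prod.ext h₁ h₂⟩

include h0 h2 in
lemma pair_bijective :
    Function.Bijective (fun z : F.obj (tsze Λ k (k × k)) =>
      (F.map (tszeHom (LinearMap.fst k k k)) z, F.map (tszeHom (LinearMap.snd k k k)) z)) :=
  L_prod_bijective h0 h2 _ _ Function.bijective_id

include h0 h2 in
lemma triple_bijective :
    Function.Bijective (fun z : F.obj (tsze Λ k ((k × k) × k)) =>
      (F.map (tszeHom (LinearMap.fst k (k × k) k)) z, F.map (tszeHom (LinearMap.snd k (k × k) k)) z)) :=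
  L_prod_bijective h0 h2 _ _ Function.bijective_id

/-- The element of `F(k ⊕ k × k)` with given projections. -/
noncomputable def pair (x y : F.obj (tsze Λ k k)) : F.obj (tsze Λ k (k × k)) :=
  ((pair_bijective h0 h2).2 (x, y)).choose

lemma pair_fst (x y : F.obj (tsze Λ k k)) :
    F.map (tszeHom (LinearMap.fst k k k)) (pair h0 h2 x y) = x :=
  congrArg Prod.fst ((pair_bijective h0 h2).2 (x, y)).choose_spec

lemma pair_snd (x y : F.obj (tsze Λ k k)) :
    F.map (tszeHom (LinearMap.snd k k k)) (pair h0 h2 x y) = y :=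
  congrArg Prod.snd ((pair_bijective h0 h2).2 (x, y)).choose_spec

/-- Addition on the tangent space. -/
noncomputable def tAdd (x y : F.obj (tsze Λ k k)) : F.obj (tsze Λ k k) :=
  F.map (tszeHom (LinearMap.fst k k k + LinearMap.snd k k k)) (pair h0 h2 x y)

/-- Zero of the tangent space. -/
noncomputable def tZero : F.obj (tsze Λ k k) := F.map (baseToTsze Λ k) h0.1.some

include h0 h2 in
/-- The key formula: sums of images under linear functionals are images under the sum. -/
lemma tAdd_L {M : Type u} [AddCommGroup M] [Module k M] [Module kᵐᵒᵖ M] [IsCentralScalar k M]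
    [Module.Finite k M] [Module Λ M] [IsScalarTower Λ k M] [IsScalarTower Λ kᵐᵒᵖ M]
    (f g : M →ₗ[k] k) (z : F.obj (tsze Λ k M)) :
    tAdd h0 h2 (F.map (tszeHom f) z) (F.map (tszeHom g) z) = F.map (tszeHom (f + g)) z := by
  have e : pair h0 h2 (F.map (tszeHom f) z) (F.map (tszeHom g) z) = F.map (tszeHom (f.prod g)) z :=
    (pair_bijective h0 h2).1 (Prod.ext (by dsimp only; rw [pair_fst, L_comp, LinearMap.fst_prod])
      (by dsimp only; rw [pair_snd, L_comp, LinearMap.snd_prod]))
  rw [tAdd, e, L_comp, LinearMap.add_comp, LinearMap.fst_prod, LinearMap.snd_prod]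

include h0 h2 in
lemma tAdd_comm (x y : F.obj (tsze Λ k k)) : tAdd h0 h2 x y = tAdd h0 h2 y x := by
  conv_rhs => rw [← pair_snd h0 h2 x y]
  conv_rhs => arg 4; rw [← pair_fst h0 h2 x y]
  rw [tAdd_L, add_comm]
  rfl

include h0 h2 in
lemma tAdd_assoc (x y w : F.obj (tsze Λ k k)) :
    tAdd h0 h2 (tAdd h0 h2 x y) w = tAdd h0 h2 x (tAdd h0 h2 y w) := by
  obtain ⟨z, hz⟩ := (triple_bijective h0 h2).2 (pair h0 h2 x y, w)
  have hxy : F.map (tszeHom (LinearMap.fst k (k × k) k)) z = pair h0 h2 x y := congrArg Prod.fst hz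
  have hw : F.map (tszeHom (LinearMap.snd k (k × k) k)) z = w := congrArg Prod.snd hz
  have hx : F.map (tszeHom (LinearMap.fst k k k ∘ₗ LinearMap.fst k (k × k) k)) z = x := by
    rw [← L_comp, hxy, pair_fst]
  have hy : F.map (tszeHom (LinearMap.snd k k k ∘ₗ LinearMap.fst k (k × k) k)) z = y := by
    rw [← L_comp, hxy, pair_snd]
  subst hx hy hw
  rw [tAdd_L, tAdd_L, tAdd_L, tAdd_L, add_assoc]

include h0 h2 in
lemma tZero_eq_L {M : Type u} [AddCommGroup M] [Module k M] [Module kᵐᵒᵖ M] [IsCentralScalar k M]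
    [Module.Finite k M] [Module Λ M] [IsScalarTower Λ k M] [IsScalarTower Λ kᵐᵒᵖ M]
    (x : F.obj (tsze Λ k M)) : tZero h0 = F.map (tszeHom (0 : M →ₗ[k] k)) x :=
  (L_zero_eq h0 _ _).symm

lemma L_id (x : F.obj (tsze Λ k k)) : F.map (tszeHom (LinearMap.id : k →ₗ[k] k)) x = x := by
  rw [tszeHom_id, map_id']

include h0 h2 in
/-- The vector-space structure on the tangent space. -/
lemma nonempty_tangentStr : Nonempty (TangentStr F) := by
  let T := F.obj (tsze Λ k k)
  let sc : k → T → T := fun c x => F.map (tszeHom (c • (LinearMap.id : k →ₗ[k] k))) x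
  have zero_add' : ∀ x : T, tAdd h0 h2 (tZero h0) x = x := fun x => by
    conv_lhs => rw [tZero_eq_L h0 h2 x]; arg 4; rw [← L_id x]
    rw [tAdd_L, zero_add, L_id]
  have neg_add' : ∀ x : T, tAdd h0 h2 (sc (-1) x) x = tZero h0 := fun x => by
    conv_lhs => arg 4; rw [← L_id x]
    rw [tAdd_L, tZero_eq_L h0 h2 x,
      show (-1 : k) • (LinearMap.id : k →ₗ[k] k) + LinearMap.id = 0 by ext; simp]
  letI : Add T := ⟨tAdd h0 h2⟩
  letI : Zero T := ⟨tZero h0⟩
  letI : Neg T := ⟨sc (-1)⟩
  letI G : AddCommGroup T :=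
    { add := (· + ·)
      zero := (0 : T)
      neg := (- ·)
      nsmul := nsmulRec
      zsmul := zsmulRec
      add_assoc := tAdd_assoc h0 h2
      zero_add := zero_add'
      add_zero := fun x => (tAdd_comm h0 h2 _ _).trans (zero_add' x)
      add_comm := tAdd_comm h0 h2
      neg_add_cancel := neg_add' }
  letI Mk : Module k T :=
    { smul := sc
      one_smul := fun x => by
        change sc 1 x = x
        simp only [sc, one_smul, L_id]
      mul_smul := fun c d x => by
        change sc (c * d) x = sc c (sc d x)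
        simp only [sc]
        rw [L_comp, LinearMap.smul_comp, LinearMap.id_comp, smul_smul]
      smul_zero := fun c => by
        change sc c (tZero h0) = tZero h0
        simp only [sc, tZero]
        rw [map_map, baseToTsze_comp]
      zero_smul := fun x => by
        change sc 0 x = tZero h0
        simp only [sc]
        rw [zero_smul]
        exact (tZero_eq_L h0 h2 x).symm
      smul_add := fun c x y => by
        change sc c (tAdd h0 h2 x y) = tAdd h0 h2 (sc c x) (sc c y)
        simp only [sc]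
        conv_rhs => rw [← pair_fst h0 h2 x y]; arg 4; rw [← pair_snd h0 h2 x y]
        rw [tAdd, L_comp, L_comp, L_comp, tAdd_L, LinearMap.comp_add]
      add_smul := fun c d x => by
        change sc (c + d) x = tAdd h0 h2 (sc c x) (sc d x)
        simp only [sc]
        rw [tAdd_L, add_smul] }
  exact ⟨{ addCommGroup := G
           module := Mk
           smul_eq := fun c x => rfl
           add_eq := fun z => tAdd_L h0 h2 (LinearMap.fst k k k) (LinearMap.snd k k k) z }⟩

section Str

variable [TangentStr F]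

/-- The tangent sum for an arbitrary given structure. -/
lemma add_L' {M : Type u} [AddCommGroup M] [Module k M] [Module kᵐᵒᵖ M] [IsCentralScalar k M]
    [Module.Finite k M] [Module Λ M] [IsScalarTower Λ k M] [IsScalarTower Λ kᵐᵒᵖ M]
    (f g : M →ₗ[k] k) (z : F.obj (tsze Λ k M)) :
    (TangentSpace.mk (F.map (tszeHom f) z) + TangentSpace.mk (F.map (tszeHom g) z) : TangentSpace F) =
      TangentSpace.mk (F.map (tszeHom (f + g)) z) := by
  have e := TangentStr.add_eq (F := F) (F.map (tszeHom (f.prod g)) z)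
  change TangentSpace.mk (F.map (tszeHom (LinearMap.fst k k k)) (F.map (tszeHom (f.prod g)) z)) +
      TangentSpace.mk (F.map (tszeHom (LinearMap.snd k k k)) (F.map (tszeHom (f.prod g)) z)) =
    TangentSpace.mk (F.map (tszeHom (LinearMap.fst k k k + LinearMap.snd k k k)) (F.map (tszeHom (f.prod g)) z)) at e
  rw [L_comp, L_comp, L_comp, LinearMap.add_comp, LinearMap.fst_prod, LinearMap.snd_prod] at e
  exact e

lemma smul_L' {M : Type u} [AddCommGroup M] [Module k M] [Module kᵐᵒᵖ M] [IsCentralScalar k M]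
    [Module.Finite k M] [Module Λ M] [IsScalarTower Λ k M] [IsScalarTower Λ kᵐᵒᵖ M]
    (c : k) (f : M →ₗ[k] k) (z : F.obj (tsze Λ k M)) :
    (c • TangentSpace.mk (F.map (tszeHom f) z) : TangentSpace F) =
      TangentSpace.mk (F.map (tszeHom (c • f)) z) := by
  refine (TangentStr.smul_eq (F := F) c _).trans ?_
  change F.map (tszeHom (c • LinearMap.id)) (F.map (tszeHom f) z) = _
  rw [L_comp, LinearMap.smul_comp, LinearMap.id_comp]
  rfl

/-- The linear map `M^∨ → t_F` attached to an element of `F(k ⊕ M)`. -/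
noncomputable def dualToTangent {M : Type u} [AddCommGroup M] [Module k M] [Module kᵐᵒᵖ M]
    [IsCentralScalar k M] [Module.Finite k M] [Module Λ M] [IsScalarTower Λ k M]
    [IsScalarTower Λ kᵐᵒᵖ M] (z : F.obj (tsze Λ k M)) :
    Module.Dual k M →ₗ[k] TangentSpace F where
  toFun f := TangentSpace.mk (F.map (tszeHom f) z)
  map_add' f g := (add_L' f g z).symm
  map_smul' c f := (smul_L' c f z).symm

end Str

include h0 h2 in
/-- The differential of a morphism is linear. -/
lemma exists_linearMap_eq_map {G : Art Λ k ⥤ Type v} [TangentStr F] [TangentStr G] (φ : F ⟶ G) :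
    ∃ f : TangentSpace F →ₗ[k] TangentSpace G, ⇑f = TangentSpace.map φ := by
  refine ⟨{ toFun := TangentSpace.map φ, map_add' := fun x y => ?_, map_smul' := fun c x => ?_ }, rfl⟩
  · obtain ⟨z, hz⟩ := (pair_bijective h0 h2).2 (TangentSpace.val x, TangentSpace.val y)
    have hx : x = TangentSpace.mk (F.map (tszeHom (LinearMap.fst k k k)) z) :=
      (congrArg Prod.fst hz).symm
    have hy : y = TangentSpace.mk (F.map (tszeHom (LinearMap.snd k k k)) z) :=
      (congrArg Prod.snd hz).symm
    rw [hx, hy, add_L']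
    change φ.app (tsze Λ k k) (F.map (tszeHom (LinearMap.fst k k k + LinearMap.snd k k k)) z) =
      (TangentSpace.mk (φ.app (tsze Λ k k) (F.map (tszeHom (LinearMap.fst k k k)) z)) : TangentSpace G) +
      TangentSpace.mk (φ.app (tsze Λ k k) (F.map (tszeHom (LinearMap.snd k k k)) z))
    rw [naturality', naturality', naturality', add_L']
    rfl
  · have e : c • x = TangentSpace.mk (F.map (Art.scale c) (TangentSpace.val x)) :=
      TangentStr.smul_eq c _
    rw [e]
    change φ.app (Art.dual Λ k) (F.map (Art.scale c) (TangentSpace.val x)) = c • TangentSpace.map φ x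
    rw [naturality']
    exact (TangentStr.smul_eq (F := G) c _).symm

include h0 h2 in
/-- An element of `F(k ⊕ k^n)` is the same as `n` tangent vectors. -/
lemma coords_bijective : ∀ n : ℕ, Function.Bijective (fun z : F.obj (tsze Λ k (Fin n → k)) =>
    fun i : Fin n => F.map (tszeHom (LinearMap.proj i : (Fin n → k) →ₗ[k] k)) z)
  | 0 => by
    haveI := isIso_toBase_tsze (Λ := Λ) (k := k) (M := Fin 0 → k)
    exact ⟨fun x y _ => (map_bijective_of_isIso F (Art.toBase _)).1 (h0_eq h0 _ _),
      fun g => ⟨F.map (inv (Art.toBase _)) h0.1.some, funext fun i => i.elim0⟩⟩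
  | n + 1 => by
    have ih := coords_bijective n
    let f : (Fin (n + 1) → k) →ₗ[k] (Fin n → k) := LinearMap.funLeft k k Fin.castSucc
    let g : (Fin (n + 1) → k) →ₗ[k] k := LinearMap.proj (Fin.last n)
    have hb : Function.Bijective (f.prod g) := by
      refine ⟨fun x y e => funext fun i => ?_, fun p => ⟨Fin.snoc p.1 p.2, ?_⟩⟩
      · induction i using Fin.lastCases with
        | last => exact congrArg Prod.snd e
        | cast i => exact congrFun (congrArg Prod.fst e) i
      · refine Prod.ext (funext fun i => ?_) ?_ <;> simp [f, g, LinearMap.funLeft_apply]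
    have h := L_prod_bijective h0 h2 f g hb
    refine ⟨fun x y e => h.1 (Prod.ext (ih.1 (funext fun i => ?_)) ?_), fun p => ?_⟩
    · simp only [L_comp]
      exact congrFun e i.castSucc
    · exact congrFun e (Fin.last n)
    · obtain ⟨z', hz'⟩ := ih.2 (fun i => p i.castSucc)
      obtain ⟨z, hz⟩ := h.2 (z', p (Fin.last n))
      refine ⟨z, funext fun i => ?_⟩
      induction i using Fin.lastCases with
      | last => exact congrArg Prod.snd hz
      | cast i =>
        refine Eq.trans ?_ (congrFun hz' i)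
        have e1 : F.map (tszeHom f) z = z' := congrArg Prod.fst hz
        subst e1
        simp only [L_comp]
        rfl

end Linearity

end GrothLib.ArtFun
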