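import Groth.Agent.Lib.ArtFun.Formal
import Groth.Agent.Lib.ArtFun.SepLift
import Groth.Agent.Lib.ArtFun.Tangent
import Groth.Agent.Lib.AdicLim.Noeth
import Mathlib.RingTheory.AdicCompletion.LocalRing
import Mathlib.RingTheory.AdicCompletion.Completeness
import Mathlib.RingTheory.Polynomial.Basic
import Mathlib.RingTheory.FiniteType

/-!
# Functors of Artin rings: smooth coefficient rings with many tangent directions
-/

universe u v

namespace GrothLib.ArtFun

open _root_.ArtFun CategoryTheory IsLocalRing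

variable {Λ : Type u} {k : Type u} [CommRing Λ] [Field k] [Algebra Λ k]

section Completion

variable (P : Type u) [CommRing P] [Algebra Λ P] [IsNoetherianRing P] (f : P →ₐ[Λ] k)
  (hf : Function.Surjective f)

/-- The completion of `P` at the kernel of an augmentation, with the induced augmentation. -/
lemma exists_completion :
    ∀ (_ : Function.Surjective f), ∃ (R : CRing Λ k) (of : P →ₐ[Λ] R.carrier), R.res.comp of = f ∧
      (∀ {A : Art Λ k} (ψ : P →ₐ[Λ] A), A.res.comp ψ = f →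
        ∃! φ : HomSet R.carrier R.res A, φ.1.comp of = ψ) := by
  intro hf
  let I : Ideal P := RingHom.ker f
  haveI hI : I.IsMaximal := RingHom.ker_isMaximal_of_surjective (f : P →+* k) hf
  have hfg : I.FG := IsNoetherian.noetherian I
  let C := AdicCompletion I P
  let m : Ideal C := I.map (algebraMap P C)
  haveI hm : m.IsMaximal := AdicCompletion.isMaximal_map_of_le I I le_rfl hfg
  haveI hc : IsAdicComplete m C := AdicCompletion.isAdicComplete_self I hfg
  haveI : IsLocalRing C := isLocalRing_of_isAdicComplete_maximal m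
  have hmax : maximalIdeal C = m := (IsLocalRing.eq_maximalIdeal hm).symm
  haveI : IsNoetherianRing (C ⧸ m) := by
    have hker : RingHom.ker (AdicCompletion.evalOneₐ I).toRingHom = m :=
      AdicCompletion.ker_evalOneₐ_eq_map I hfg
    exact isNoetherianRing_of_ringEquiv (P ⧸ I) ((RingHom.quotientKerEquivOfSurjective
      (f := (AdicCompletion.evalOneₐ I).toRingHom) (AdicCompletion.evalOneₐ_surjective I)).symm.trans
      (Ideal.quotEquivOfEq hker))
  haveI : IsNoetherianRing C :=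
    GrothLib.AdicLim.isNoetherianRing_of_complete (I := m) (hfg.map _)
  let res : C →ₐ[Λ] k := (Ideal.Quotient.liftₐ I f (fun a ha => ha)).comp
    ((AdicCompletion.evalOneₐ I).restrictScalars Λ)
  have hres : Function.Surjective res := fun c => by
    obtain ⟨p, rfl⟩ := hf c
    exact ⟨AdicCompletion.of I P p, rfl⟩
  let R : CRing Λ k :=
    { carrier := C, res := res, res_surjective := hres, isAdicComplete := hmax ▸ hc }
  let of : P →ₐ[Λ] R.carrier := IsScalarTower.toAlgHom Λ P C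
  refine ⟨R, of, AlgHom.ext fun p => rfl, fun {A} ψ hψ => ?_⟩
  obtain ⟨N, hN⟩ := exists_pow_maximalIdeal_eq_bot A
  have hψI : ∀ p ∈ I ^ N, ψ p = 0 := fun p hp => by
    have h1 : (I ^ N).map ψ ≤ maximalIdeal A ^ N := by
      rw [Ideal.map_pow]
      refine Ideal.pow_right_mono (Ideal.map_le_iff_le_comap.2 fun a ha => ?_) N
      rw [Ideal.mem_comap, ← res_eq_zero_iff]
      exact (DFunLike.congr_fun hψ a).trans ha
    simpa [hN] using h1 (Ideal.mem_map_of_mem _ hp)
  let φ₀ : C →ₐ[Λ] A := (Ideal.Quotient.liftₐ (I ^ N) ψ hψI).comp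
    ((AdicCompletion.evalₐ I N).restrictScalars Λ)
  have hφof : φ₀.comp of = ψ := AlgHom.ext fun p => by
    change Ideal.Quotient.liftₐ (I ^ N) ψ hψI (AdicCompletion.evalₐ I N (algebraMap P C p)) = ψ p
    rw [AlgHom.commutes]
    rfl
  have happrox : ∀ (j : ℕ) (x : C), ∃ p : P, x - of p ∈ m ^ j := by
    intro j x
    obtain ⟨p, hp⟩ := Ideal.Quotient.mk_surjective (AdicCompletion.evalₐ I j x)
    refine ⟨p, ?_⟩
    have hz : AdicCompletion.evalₐ I j (x - of p) = 0 := by
      change AdicCompletion.evalₐ I j (x - algebraMap P C p) = 0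
      rw [map_sub, AlgHom.commutes, ← hp]
      exact sub_self _
    have hz' : AdicCompletion.eval I P j (x - of p) = 0 := by
      have h : (I ^ j • ⊤ : Ideal P) = I ^ j := by simp
      rw [← AdicCompletion.factor_evalₐ_eq_eval I (x - of p) (le_of_eq h.symm), hz, map_zero]
    have hmem : x - of p ∈ I ^ j • (⊤ : Submodule P C) := by
      rw [AdicCompletion.pow_smul_top_eq_ker_eval hfg]
      exact hz'
    rw [Ideal.smul_top_eq_map, Submodule.restrictScalars_mem, Ideal.map_pow] at hmem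
    exact hmem
  have hext : ∀ φ φ' : HomSet R.carrier R.res A, φ.1.comp of = φ'.1.comp of → φ = φ' := by
    intro φ φ' h
    refine homSet_ext fun x => ?_
    obtain ⟨p, hp⟩ := happrox N x
    have hkill : ∀ (χ : HomSet R.carrier R.res A), χ.1 (x - of p) = 0 := fun χ => by
      have h1 : (m ^ N).map χ.1 ≤ maximalIdeal A ^ N := by
        rw [Ideal.map_pow]
        refine Ideal.pow_right_mono (Ideal.map_le_iff_le_comap.2 fun a ha => ?_) N
        rw [Ideal.mem_comap, ← res_eq_zero_iff, res_of_homSet]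
        rw [← hmax] at ha
        exact (CRing.mem_maximalIdeal_iff R a).1 ha
      simpa [hN] using h1 (Ideal.mem_map_of_mem _ hp)
    have h1 := hkill φ
    have h2 := hkill φ'
    rw [map_sub, sub_eq_zero] at h1 h2
    rw [h1, h2]
    exact DFunLike.congr_fun h p
  refine ⟨⟨φ₀, AlgHom.ext fun x => ?_⟩, hφof, fun φ hφ => hext _ _ (hφ.trans hφof.symm)⟩
  obtain ⟨p, hp⟩ := happrox (N + 1) x
  have hx : x = of p + (x - of p) := (add_sub_cancel _ _).symm
  have hr : res (x - of p) = 0 := (CRing.mem_maximalIdeal_iff R _).1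
    (hmax ▸ Ideal.pow_le_self (Nat.succ_ne_zero N) hp)
  have h0 : φ₀ (x - of p) = 0 := by
    replace hp : x - of p ∈ m ^ N := Ideal.pow_le_pow_right (Nat.le_succ N) hp
    rw [← Ideal.map_pow, ← Submodule.restrictScalars_mem P, ← Ideal.smul_top_eq_map,
      AdicCompletion.pow_smul_top_eq_ker_eval hfg, LinearMap.mem_ker] at hp
    change Ideal.Quotient.liftₐ (I ^ N) ψ hψI (AdicCompletion.evalₐ I N (x - of p)) = 0
    rw [← AdicCompletion.factor_eval_eq_evalₐ I (x - of p) (le_of_eq (by simp)), hp, map_zero,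
      map_zero]
  rw [AlgHom.comp_apply]
  change A.res (φ₀ x) = res x
  have h1 : A.res (φ₀ (of p)) = res (of p) :=
    ((congrArg A.res (DFunLike.congr_fun hφof p)).trans (DFunLike.congr_fun hψ p))
  have h2 : A.res (φ₀ x) = A.res (φ₀ (of p)) := by
    rw [show φ₀ x = φ₀ (of p) + φ₀ (x - of p) from by rw [← map_add, ← hx]]
    rw [map_add, h0, map_zero, add_zero]
  have h3 : res x = res (of p) := by
    rw [show res x = res (of p) + res (x - of p) from by rw [← map_add, ← hx], hr, add_zero]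
  rw [h2, h1, h3]

end Completion

/-- Any completion as above is smooth if the original algebra lifts along surjections. -/
lemma isSmoothFunctor_of_completion {P : Type u} [CommRing P] [Algebra Λ P] {f : P →ₐ[Λ] k}
    {R : CRing Λ k} {of : P →ₐ[Λ] R.carrier} (hof : R.res.comp of = f)
    (huniv : ∀ {A : Art Λ k} (ψ : P →ₐ[Λ] A), A.res.comp ψ = f →
      ∃! φ : HomSet R.carrier R.res A, φ.1.comp of = ψ)
    (hP : ∀ ⦃B A : Art Λ k⦄ (μ : B ⟶ A), Function.Surjective μ → ∀ ψ : P →ₐ[Λ] A,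
      A.res.comp ψ = f → ∃ χ : P →ₐ[Λ] B, μ.toAlgHom.comp χ = ψ) :
    IsSmoothFunctor (hR R.carrier R.res) := by
  intro B A μ hμ φ
  have hψ : A.res.comp (φ.1.comp of) = f := by rw [← AlgHom.comp_assoc, φ.2, hof]
  obtain ⟨χ, hχ⟩ := hP μ hμ _ hψ
  obtain ⟨φ', hφ', -⟩ := huniv χ (by rw [← μ.res_comp, AlgHom.comp_assoc, hχ, hψ])
  refine ⟨φ', (huniv _ hψ).unique ?_ rfl⟩
  change (μ.toAlgHom.comp φ'.1).comp of = _
  rw [AlgHom.comp_assoc, hφ', hχ]

/-- The range of a map hitting `k` and generators of a square-zero extension is everything. -/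
lemma surjective_of_range_tsze {R : Type u} [CommRing R] [Algebra Λ R] {d : ℕ}
    (φ : R →ₐ[Λ] tsze Λ k (Fin d → k))
    (hinl : ∀ c : k, ∃ r, φ r = (TrivSqZeroExt.inl c : TrivSqZeroExt k (Fin d → k)))
    (hinr : ∀ i, ∃ r, φ r = (TrivSqZeroExt.inr (Pi.single i 1) : TrivSqZeroExt k (Fin d → k))) :
    Function.Surjective φ := by
  intro e
  choose cr hcr using hinl
  choose ir hir using hinr
  let e' : TrivSqZeroExt k (Fin d → k) := e
  refine ⟨cr e'.fst + ∑ i, cr (e'.snd i) * ir i, ?_⟩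
  rw [map_add, map_sum, hcr]
  have h1 : ∀ i, φ (cr (e'.snd i) * ir i) =
      (TrivSqZeroExt.inr (Pi.single i (e'.snd i)) : TrivSqZeroExt k (Fin d → k)) := fun i => by
    rw [map_mul, hcr, hir]
    change (TrivSqZeroExt.inl (e'.snd i) : TrivSqZeroExt k (Fin d → k)) *
      TrivSqZeroExt.inr (Pi.single i 1) = _
    refine (TrivSqZeroExt.inl_mul_inr (R := k) (M := Fin d → k) _ _).trans ?_
    rw [← Pi.single_smul', smul_eq_mul, mul_one]
  simp only [h1]
  have h2 : (TrivSqZeroExt.inl e'.fst + ∑ i, TrivSqZeroExt.inr (Pi.single i (e'.snd i)) :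
      TrivSqZeroExt k (Fin d → k)) = e' := by
    rw [← TrivSqZeroExt.inr_sum, Finset.univ_sum_single, TrivSqZeroExt.inl_fst_add_inr_snd_eq]
  exact h2

variable [IsNoetherianRing Λ] [Module.Finite Λ k]

/-- A smooth coefficient ring surjecting onto `k ⊕ k^d`. -/
lemma exists_smooth_cover (d : ℕ) :
    ∃ (S : CRing Λ k) (φ₀ : HomSet S.carrier S.res (tsze Λ k (Fin d → k))),
      IsSmoothFunctor (hR S.carrier S.res) ∧ Function.Surjective φ₀.1 := by
  obtain ⟨n, s, hs⟩ := Module.Finite.exists_fin (R := Λ) (M := k)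
  let P := MvPolynomial (Fin n ⊕ Fin d) Λ
  let f : P →ₐ[Λ] k := MvPolynomial.aeval (Sum.elim s 0)
  have hf : Function.Surjective f := fun c => by
    have hc : c ∈ Submodule.span Λ (Set.range s) := hs ▸ trivial
    refine Submodule.span_induction (p := fun c _ => ∃ p, f p = c) ?_ ⟨0, map_zero f⟩ ?_ ?_ hc
    · rintro _ ⟨i, rfl⟩
      exact ⟨MvPolynomial.X (Sum.inl i), MvPolynomial.aeval_X _ _⟩
    · rintro x y _ _ ⟨p, rfl⟩ ⟨q, rfl⟩
      exact ⟨p + q, map_add f p q⟩
    · rintro l x _ ⟨p, rfl⟩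
      exact ⟨l • p, map_smul f l p⟩
  obtain ⟨S, of, hof, huniv⟩ := exists_completion P f hf
  have hsm : IsSmoothFunctor (hR S.carrier S.res) :=
    isSmoothFunctor_of_completion hof huniv fun B A μ hμ ψ _ => by
      choose b hb using fun i => hμ (ψ (MvPolynomial.X i))
      exact ⟨MvPolynomial.aeval b, MvPolynomial.algHom_ext fun i => by
        rw [AlgHom.comp_apply, MvPolynomial.aeval_X, hb]⟩
  let ψ : P →ₐ[Λ] tsze Λ k (Fin d → k) := MvPolynomial.aeval (Sum.elim
    (fun i => (TrivSqZeroExt.inl (s i) : TrivSqZeroExt k (Fin d → k)))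
    (fun i => (TrivSqZeroExt.inr (Pi.single i 1) : TrivSqZeroExt k (Fin d → k))))
  have hψ : (tsze Λ k (Fin d → k)).res.comp ψ = f := MvPolynomial.algHom_ext fun i => by
    rw [AlgHom.comp_apply, MvPolynomial.aeval_X, MvPolynomial.aeval_X]
    cases i <;> rfl
  obtain ⟨φ, hφ, -⟩ := huniv ψ hψ
  refine ⟨S, φ, hsm, surjective_of_range_tsze φ.1 (fun c => ?_) fun i => ?_⟩
  · have hc : c ∈ Submodule.span Λ (Set.range s) := hs ▸ trivial
    obtain ⟨p, hp⟩ : ∃ p, ψ p = (TrivSqZeroExt.inl c : TrivSqZeroExt k (Fin d → k)) := by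
      refine Submodule.span_induction
        (p := fun c _ => ∃ p, ψ p = (TrivSqZeroExt.inl c : TrivSqZeroExt k (Fin d → k))) ?_ ?_ ?_ ?_ hc
      · rintro _ ⟨i, rfl⟩
        exact ⟨MvPolynomial.X (Sum.inl i), by rw [MvPolynomial.aeval_X]; rfl⟩
      · exact ⟨0, by rw [map_zero]; exact (TrivSqZeroExt.inl_zero _).symm⟩
      · rintro x y _ _ ⟨p, hp⟩ ⟨q, hq⟩
        exact ⟨p + q, by rw [map_add, hp, hq]; exact (TrivSqZeroExt.inl_add _ _ _).symm⟩
      · rintro l x _ ⟨p, hp⟩
        refine ⟨l • p, ?_⟩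
        rw [map_smul, hp]
        exact TrivSqZeroExt.ext rfl (smul_zero _)
    exact ⟨of p, (DFunLike.congr_fun hφ p).trans hp⟩
  · exact ⟨of (MvPolynomial.X (Sum.inr i)), (DFunLike.congr_fun hφ _).trans (by
      rw [MvPolynomial.aeval_X]; rfl)⟩

/-- With simple roots, a smooth coefficient ring all whose tangent vectors come from `k ⊕ k^d`. -/
lemma exists_smooth_cover_sep (hsep : SimpleRoots Λ k) (d : ℕ) :
    ∃ (S : CRing Λ k) (φ₀ : HomSet S.carrier S.res (tsze Λ k (Fin d → k))),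
      IsSmoothFunctor (hR S.carrier S.res) ∧ Function.Surjective φ₀.1 ∧
        ∀ δ : HomSet S.carrier S.res (Art.dual Λ k),
          ∃ l : (Fin d → k) →ₗ[k] k, HomSet.map (tszeHom l) φ₀ = δ := by
  obtain ⟨n, s, hs⟩ := Module.Finite.exists_fin (R := Λ) (M := k)
  choose g hg hg' using fun i => hsep (s i)
  let P₀ := MvPolynomial (Fin n ⊕ Fin d) Λ
  let J : Ideal P₀ :=
    Ideal.span (Set.range fun i => Polynomial.aeval (MvPolynomial.X (Sum.inl i) : P₀) (g i))
  let P := P₀ ⧸ J
  let f₀ : P₀ →ₐ[Λ] k := MvPolynomial.aeval (Sum.elim s 0)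
  have hkill : ∀ {A : Type u} [CommRing A] [Algebra Λ A] (ψ : P₀ →ₐ[Λ] A),
      (∀ i, Polynomial.aeval (ψ (MvPolynomial.X (Sum.inl i))) (g i) = 0) → ∀ x ∈ J, ψ x = 0 := by
    intro A _ _ ψ h x hx
    refine (Ideal.span_le (I := RingHom.ker ψ)).2 ?_ hx
    rintro _ ⟨i, rfl⟩
    rw [SetLike.mem_coe, RingHom.mem_ker, ← Polynomial.aeval_algHom_apply]
    exact h i
  let f : P →ₐ[Λ] k := Ideal.Quotient.liftₐ J f₀ (hkill f₀ fun i => by
    rw [MvPolynomial.aeval_X]; exact hg i)
  have hfX : ∀ i, f (Ideal.Quotient.mk J (MvPolynomial.X i)) = Sum.elim s 0 i :=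
    fun i => MvPolynomial.aeval_X _ i
  have hf : Function.Surjective f := fun c => by
    have hc : c ∈ Submodule.span Λ (Set.range s) := hs ▸ trivial
    refine Submodule.span_induction (p := fun c _ => ∃ p, f p = c) ?_ ⟨0, map_zero f⟩ ?_ ?_ hc
    · rintro _ ⟨i, rfl⟩
      exact ⟨_, hfX (Sum.inl i)⟩
    · rintro x y _ _ ⟨p, rfl⟩ ⟨q, rfl⟩
      exact ⟨p + q, map_add f p q⟩
    · rintro l x _ ⟨p, rfl⟩
      exact ⟨l • p, map_smul f l p⟩
  obtain ⟨S, of, hof, huniv⟩ := exists_completion P f hf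
  -- values on generators
  have hres : ∀ {A : Art Λ k} (χ : P →ₐ[Λ] A), A.res.comp χ = f → ∀ i,
      A.res (χ (Ideal.Quotient.mk J (MvPolynomial.X i))) = Sum.elim s 0 i := fun χ hχ i =>
    (DFunLike.congr_fun hχ _).trans (hfX i)
  have hroot : ∀ {A : Art Λ k} (χ : P →ₐ[Λ] A) i,
      Polynomial.aeval (χ (Ideal.Quotient.mk J (MvPolynomial.X (Sum.inl i)))) (g i) = 0 := by
    intro A χ i
    have hmem : Polynomial.aeval (MvPolynomial.X (Sum.inl i) : P₀) (g i) ∈ J :=
      Ideal.subset_span ⟨i, rfl⟩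
    rw [Polynomial.aeval_algHom_apply, ← Ideal.Quotient.mkₐ_eq_mk Λ, Polynomial.aeval_algHom_apply,
      Ideal.Quotient.mkₐ_eq_mk, Ideal.Quotient.eq_zero_iff_mem.2 hmem,
      map_zero]
  have hsm : IsSmoothFunctor (hR S.carrier S.res) :=
    isSmoothFunctor_of_completion hof huniv fun B A μ hμ ψ hψ => by
      choose b hb using fun i => hμ (ψ (Ideal.Quotient.mk J (MvPolynomial.X (Sum.inr i))))
      choose r hr using fun i => (existsUnique_root (A := B) (hg i) (hg' i)).exists
      refine ⟨Ideal.Quotient.liftₐ J (MvPolynomial.aeval (Sum.elim r b))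
        (hkill _ fun i => by rw [MvPolynomial.aeval_X]; exact (hr i).2), ?_⟩
      refine Ideal.Quotient.algHom_ext Λ (MvPolynomial.algHom_ext fun i => ?_)
      change μ (MvPolynomial.aeval (Sum.elim r b) (MvPolynomial.X i)) = _
      rw [MvPolynomial.aeval_X]
      cases i with
      | inr i => exact hb i
      | inl i =>
        refine (existsUnique_root (A := A) (hg i) (hg' i)).unique ⟨?_, ?_⟩ ⟨hres ψ hψ _, hroot ψ i⟩
        · rw [Art.res_app]; exact (hr i).1
        · rw [← map_aeval]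
          exact (congrArg μ.toAlgHom (hr i).2).trans (map_zero _)
  choose r hr using fun i => (existsUnique_root (A := tsze Λ k (Fin d → k)) (hg i) (hg' i)).exists
  let v : Fin d → tsze Λ k (Fin d → k) :=
    fun i => (TrivSqZeroExt.inr (Pi.single i 1) : TrivSqZeroExt k (Fin d → k))
  let ψ : P →ₐ[Λ] tsze Λ k (Fin d → k) := Ideal.Quotient.liftₐ J
    (MvPolynomial.aeval (Sum.elim r v)) (hkill _ fun i => by rw [MvPolynomial.aeval_X]; exact (hr i).2)
  have hψX : ∀ i, ψ (Ideal.Quotient.mk J (MvPolynomial.X i)) = Sum.elim r v i :=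
    fun i => MvPolynomial.aeval_X _ i
  have hψ : (tsze Λ k (Fin d → k)).res.comp ψ = f :=
    Ideal.Quotient.algHom_ext Λ (MvPolynomial.algHom_ext fun i => by
      change (tsze Λ k (Fin d → k)).res (ψ (Ideal.Quotient.mk J (MvPolynomial.X i))) =
        f (Ideal.Quotient.mk J (MvPolynomial.X i))
      rw [hψX, hfX]
      cases i with
      | inl i => exact (hr i).1
      | inr i => rfl)
  obtain ⟨φ, hφ, -⟩ := huniv ψ hψ
  have hrinl : ∀ i, r i = (TrivSqZeroExt.inl (s i) : TrivSqZeroExt k (Fin d → k)) := fun i => by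
    refine (existsUnique_root (A := tsze Λ k (Fin d → k)) (hg i) (hg' i)).unique (hr i) ⟨rfl, ?_⟩
    have h := Polynomial.aeval_algHom_apply (baseToTsze Λ (Fin d → k)).toAlgHom (s i) (g i)
    refine h.trans ?_
    rw [show Polynomial.aeval (s i) (g i) = (0 : Art.base Λ k) from hg i]
    exact map_zero (baseToTsze Λ (Fin d → k)).toAlgHom
  refine ⟨S, φ, hsm, surjective_of_range_tsze φ.1 (fun c => ?_) fun i => ?_, fun δ => ?_⟩
  · have hc : c ∈ Submodule.span Λ (Set.range s) := hs ▸ trivial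
    obtain ⟨p, hp⟩ : ∃ p, ψ p = (TrivSqZeroExt.inl c : TrivSqZeroExt k (Fin d → k)) := by
      refine Submodule.span_induction
        (p := fun c _ => ∃ p, ψ p = (TrivSqZeroExt.inl c : TrivSqZeroExt k (Fin d → k))) ?_ ?_ ?_ ?_ hc
      · rintro _ ⟨i, rfl⟩
        exact ⟨_, (hψX (Sum.inl i)).trans (hrinl i)⟩
      · exact ⟨0, by rw [map_zero]; exact (TrivSqZeroExt.inl_zero _).symm⟩
      · rintro x y _ _ ⟨p, hp⟩ ⟨q, hq⟩
        exact ⟨p + q, by rw [map_add, hp, hq]; exact (TrivSqZeroExt.inl_add _ _ _).symm⟩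
      · rintro l x _ ⟨p, hp⟩
        refine ⟨l • p, ?_⟩
        rw [map_smul, hp]
        exact TrivSqZeroExt.ext rfl (smul_zero _)
    exact ⟨of p, (DFunLike.congr_fun hφ p).trans hp⟩
  · exact ⟨_, (DFunLike.congr_fun hφ _).trans (hψX (Sum.inr i))⟩
  · let c : Fin d → k :=
      fun i => TrivSqZeroExt.snd (δ.1 (of (Ideal.Quotient.mk J (MvPolynomial.X (Sum.inr i)))) : DualNumber k)
    let l : (Fin d → k) →ₗ[k] k := ∑ i, c i • LinearMap.proj i
    have hl : ∀ j, l (Pi.single j 1) = c j := fun j => by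
      simp [l, LinearMap.sum_apply, Pi.single_apply]
    have hδψ : (Art.dual Λ k).res.comp (δ.1.comp of) = f := by rw [← AlgHom.comp_assoc, δ.2, hof]
    refine ⟨l, (huniv _ hδψ).unique ?_ rfl⟩
    change ((tszeHom l).toAlgHom.comp φ.1).comp of = _
    rw [AlgHom.comp_assoc, hφ]
    refine Ideal.Quotient.algHom_ext Λ (MvPolynomial.algHom_ext fun i => ?_)
    change (tszeHom l) (ψ (Ideal.Quotient.mk J (MvPolynomial.X i))) =
      δ.1 (of (Ideal.Quotient.mk J (MvPolynomial.X i)))
    rw [hψX]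
    cases i with
    | inl i =>
      refine (existsUnique_root (A := Art.dual Λ k) (hg i) (hg' i)).unique ⟨?_, ?_⟩
        ⟨hres _ hδψ _, hroot (δ.1.comp of) i⟩
      · exact (Art.res_app (tszeHom l) (r i)).trans (hr i).1
      · refine (Polynomial.aeval_algHom_apply (tszeHom l).toAlgHom (r i) (g i)).trans ?_
        rw [(hr i).2]
        exact map_zero (tszeHom l).toAlgHom
    | inr i =>
      refine TrivSqZeroExt.ext ?_ (hl i)
      exact ((hres _ hδψ (Sum.inr i))).symm

end GrothLib.ArtFun
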