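import Groth.Agent.Lib.ArtFun.Versal

/-!
# Functors of Artin rings: the tangent space acting on lifts along a small extension
-/

universe u v

namespace GrothLib.ArtFun

open _root_.ArtFun CategoryTheory IsLocalRing

variable {Λ : Type u} {k : Type u} [CommRing Λ] [Field k] [Algebra Λ k]

section Diff

variable {A B P : Art Λ k} {p : B ⟶ A} {t : B}

/-- `g` is "`(p₂ - p₁)/t`". -/
def IsDiff (t : B) (p₁ p₂ : P ⟶ B) (g : P ⟶ Art.dual Λ k) : Prop :=
  ∀ z : P, ∃ a : B, B.res a = TrivSqZeroExt.snd (g z) ∧ a * t = p₂ z - p₁ z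

lemma dual_fst_eq (g : P ⟶ Art.dual Λ k) (z : P) : TrivSqZeroExt.fst (g z) = P.res z :=
  Art.res_app g z

variable (hp : Art.IsSmallExt p) (hker : RingHom.ker p.toAlgHom = Ideal.span {t})

include hp hker in
lemma gen_spec : t ≠ 0 ∧ (∀ a ∈ maximalIdeal B, a * t = 0) ∧ p t = 0 := by
  have hmem : t ∈ RingHom.ker p.toAlgHom := hker ▸ Ideal.mem_span_singleton_self t
  refine ⟨fun h => hp.2.1 ?_, fun a ha => mul_eq_zero_of_mem_maximalIdeal hp.2.2.2 ha hmem,
    mem_ker_iff.1 hmem⟩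
  rw [hker, h, Ideal.span_singleton_eq_bot]

include hp hker in
lemma res_eq_of_mul_eq {a b : B} (h : a * t = b * t) : B.res a = B.res b := by
  obtain ⟨ht0, htm, -⟩ := gen_spec hp hker
  have := (mul_eq_zero_iff ht0 htm (a := a - b)).1 (by rw [sub_mul, h, sub_self])
  rwa [map_sub, sub_eq_zero] at this

include hp hker in
lemma sub_eq_mul_gen {x y : B} (h : p x = p y) : ∃ a : B, a * t = y - x := by
  refine Ideal.mem_span_singleton'.1 ?_
  rw [← hker, mem_ker_iff, map_sub, h, sub_self]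

variable {p₁ p₂ : P ⟶ B} (hP : Art.IsFibreProd p₁ p₂ p p)

include hP in
lemma res_p₁ (z : P) : B.res (p₁ z) = P.res z := Art.res_app p₁ z

include hp hker hP in
/-- The map `(p₂ - p₁)/t : P ⟶ k[ε]` exists. -/
lemma exists_isDiff : ∃ g : P ⟶ Art.dual Λ k, IsDiff t p₁ p₂ g := by
  obtain ⟨ht0, htm, -⟩ := gen_spec hp hker
  have H : ∀ z : P, ∃ a : B, a * t = p₂ z - p₁ z := fun z => sub_eq_mul_gen hp hker (hP.w_apply z)
  choose a ha using H
  let f : P → DualNumber k := fun z => (P.res z, B.res (a z))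
  have hadd : ∀ x y, B.res (a (x + y)) = B.res (a x) + B.res (a y) := fun x y => by
    rw [← map_add]
    refine res_eq_of_mul_eq hp hker ?_
    rw [add_mul, ha, ha, ha, map_add, map_add]
    ring
  have hmul : ∀ x y, B.res (a (x * y)) = P.res x * B.res (a y) + P.res y * B.res (a x) := fun x y => by
    rw [← res_p₁ hP x, ← res_p₁ hP y, ← map_mul, ← map_mul, ← map_add]
    refine res_eq_of_mul_eq hp hker ?_
    rw [ha, map_mul, map_mul, add_mul, mul_assoc, mul_assoc, ha, ha]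
    have e : (p₂ x - p₁ x) * (p₂ y - p₁ y) = 0 := by
      rw [← ha x, ← ha y, mul_mul_mul_comm, mul_comm t t, ← mul_assoc]
      rw [mul_assoc (a x) (a y) t]
      refine (mul_eq_mul_of_res_eq (K := RingHom.ker p.toAlgHom) hp.2.2.2 (b := a x * (a y * t)) rfl
        (hker ▸ Ideal.mem_span_singleton_self t)).trans ?_
      rw [mul_assoc, mul_assoc]
      have : t * t = 0 := htm t (ker_le_maximalIdeal p (hker ▸ Ideal.mem_span_singleton_self t))
      rw [this, mul_zero, mul_zero]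
    linear_combination e
  have hc : ∀ l : Λ, B.res (a (algebraMap Λ P l)) = 0 := fun l => by
    rw [← map_zero B.res]
    refine res_eq_of_mul_eq hp hker ?_
    rw [ha, AlgHom.commutes, AlgHom.commutes, sub_self, zero_mul]
  refine ⟨Art.homMk
    { toFun := f
      map_one' := TrivSqZeroExt.ext (map_one P.res) (by
        change B.res (a 1) = 0
        have := hc 1
        rwa [map_one] at this)
      map_mul' := fun x y => TrivSqZeroExt.ext (map_mul P.res x y) (by
        change B.res (a (x * y)) = P.res x • B.res (a y) + MulOpposite.op (P.res y) • B.res (a x)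
        rw [hmul, smul_eq_mul, op_smul_eq_smul, smul_eq_mul])
      map_zero' := TrivSqZeroExt.ext (map_zero P.res) (by
        change B.res (a 0) = 0
        have := hc 0
        rwa [map_zero] at this)
      map_add' := fun x y => TrivSqZeroExt.ext (map_add P.res x y) (hadd x y)
      commutes' := fun l => TrivSqZeroExt.ext (P.res.commutes l) (by
        change B.res (a (algebraMap Λ P l)) = (algebraMap Λ (DualNumber k) l).snd
        rw [hc, TrivSqZeroExt.algebraMap_eq_inl', TrivSqZeroExt.snd_inl]) }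
    (AlgHom.ext fun _ => rfl), fun z => ⟨a z, rfl, ha z⟩⟩

variable {g : P ⟶ Art.dual Λ k} (hg : IsDiff t p₁ p₂ g)

include hp hker hP hg in
/-- `P ≅ B ×_k k[ε]`. -/
lemma isFibreProd_of_isDiff :
    Art.IsFibreProd p₁ g (Art.toBase B) (Art.toBase (Art.dual Λ k)) where
  w := (Art.eq_toBase _).trans (Art.eq_toBase _).symm
  inj x y h₁ h₂ := by
    refine hP.inj x y h₁ ?_
    obtain ⟨a, ha, ha'⟩ := hg x
    obtain ⟨b, hb, hb'⟩ := hg y
    have e : a * t = b * t := mul_eq_mul_of_res_eq hp.2.2.2 (by rw [ha, hb, h₂])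
      (hker ▸ Ideal.mem_span_singleton_self t)
    rw [ha', hb', h₁] at e
    exact sub_left_inj.1 e
  surj b θ h := by
    obtain ⟨a, ha⟩ := B.res_surjective (TrivSqZeroExt.snd θ)
    obtain ⟨z, hz₁, hz₂⟩ := hP.surj b (b + a * t)
      (by rw [map_add, map_mul, (gen_spec hp hker).2.2, mul_zero, add_zero])
    refine ⟨z, hz₁, TrivSqZeroExt.ext ?_ ?_⟩
    · rw [dual_fst_eq g, ← res_p₁ hP, hz₁]
      exact h
    · obtain ⟨c, hc, hc'⟩ := hg z
      rw [← hc, ← ha]
      refine res_eq_of_mul_eq hp hker ?_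
      rw [hc', hz₁, hz₂, add_sub_cancel_left]

include hp hker hg in
lemma diag_comp {d : B ⟶ P} (h₁ : d ≫ p₁ = 𝟙 B) (h₂ : d ≫ p₂ = 𝟙 B) :
    d ≫ g = Art.toBase B ≫ Art.baseToDual := by
  refine hom_ext_apply fun b => TrivSqZeroExt.ext ?_ ?_
  · change TrivSqZeroExt.fst (g (d b)) = B.res b
    rw [dual_fst_eq g, Art.res_app]
  · change TrivSqZeroExt.snd (g (d b)) = 0
    obtain ⟨a, ha, ha'⟩ := hg (d b)
    rw [← ha, ← map_zero B.res]
    refine res_eq_of_mul_eq hp hker ?_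
    rw [ha', zero_mul, show p₂ (d b) = b from apply_congr_hom h₂ b,
      show p₁ (d b) = b from apply_congr_hom h₁ b, sub_self]

end Diff

section Action

variable {F : Art Λ k ⥤ Type v} {A B P : Art Λ k} {p : B ⟶ A} {t : B} {p₁ p₂ : P ⟶ B}
  {g : P ⟶ Art.dual Λ k}

include F in
/-- `θ + y = y'`. -/
def TRel (p₁ p₂ : P ⟶ B) (g : P ⟶ Art.dual Λ k) (θ : F.obj (Art.dual Λ k)) (y y' : F.obj B) : Prop :=
  ∃ z : F.obj P, F.map p₁ z = y ∧ F.map g z = θ ∧ F.map p₂ z = y'

variable (hp : Art.IsSmallExt p) (hker : RingHom.ker p.toAlgHom = Ideal.span {t})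
  (hP : Art.IsFibreProd p₁ p₂ p p) (hg : IsDiff t p₁ p₂ g)

include hp hker hP hg in
lemma trel_exists (h0 : H0 F) (h2 : Heps F) (θ : F.obj (Art.dual Λ k)) (y : F.obj B) :
    ∃ y', TRel p₁ p₂ g θ y y' := by
  obtain ⟨z, h₁, h₂⟩ := exists_of_cmp_surjective (h2 _ _ (isFibreProd_of_isDiff hp hker hP hg)).2
    y θ (h0_eq h0 _ _)
  exact ⟨F.map p₂ z, z, h₁, h₂, rfl⟩

include hp hker hP hg in
lemma trel_unique (h2 : Heps F) {θ : F.obj (Art.dual Λ k)} {y y' y'' : F.obj B}
    (h : TRel p₁ p₂ g θ y y') (h' : TRel p₁ p₂ g θ y y'') : y' = y'' := by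
  obtain ⟨z, a, b, c⟩ := h
  obtain ⟨z', a', b', c'⟩ := h'
  rw [← c, ← c', eq_of_cmp_injective (h2 _ _ (isFibreProd_of_isDiff hp hker hP hg)).1
    (a.trans a'.symm) (b.trans b'.symm)]

include hp hP in
lemma trel_transitive (h1 : Hbar F) {y y' : F.obj B} (h : F.map p y = F.map p y') :
    ∃ θ, TRel p₁ p₂ g θ y y' := by
  obtain ⟨z, h₁, h₂⟩ := exists_of_cmp_surjective (h1 _ _ _ _ hP hp) y y' h
  exact ⟨_, z, h₁, rfl, h₂⟩

include hp hP in
lemma trel_free (h4 : HSq F) {θ θ' : F.obj (Art.dual Λ k)} {y y' : F.obj B}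
    (h : TRel p₁ p₂ g θ y y') (h' : TRel p₁ p₂ g θ' y y') : θ = θ' := by
  obtain ⟨z, a, b, c⟩ := h
  obtain ⟨z', a', b', c'⟩ := h'
  rw [← b, ← b', eq_of_cmp_injective (h4 _ _ _ hP hp).1 (a.trans a'.symm) (c.trans c'.symm)]

include hP in
lemma exists_diag : ∃ d : B ⟶ P, d ≫ p₁ = 𝟙 B ∧ d ≫ p₂ = 𝟙 B :=
  fp_exists_lift hP (𝟙 B) (𝟙 B) rfl

include hp hker hP hg in
lemma trel_zero (h0 : H0 F) (y : F.obj B) (x : F.obj (Art.base Λ k)) :
    TRel p₁ p₂ g (F.map Art.baseToDual x) y y := by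
  obtain ⟨d, hd₁, hd₂⟩ := exists_diag hP
  refine ⟨F.map d y, by rw [map_map, hd₁, map_id'], ?_, by rw [map_map, hd₂, map_id']⟩
  rw [map_map, diag_comp hp hker hg hd₁ hd₂, ← map_map, h0_eq h0 (F.map (Art.toBase B) y) x]

end Action

section Lifting

variable {F : Art Λ k ⥤ Type v} {R : Type u} [CommRing R] [Algebra Λ R] {resR : R →ₐ[Λ] k}

/-- Versality from surjectivity on the tangent space and existence of lifts. -/
lemma isVersal_of_tangent_surjective (h1 : Hbar F) (h2 : Heps F) (ξ : Family R resR F)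
    (ht : Function.Surjective (ξ.app (Art.dual Λ k)))
    (hl : ∀ ⦃B A : Art Λ k⦄ (μ : B ⟶ A), Art.IsSmallExt μ →
      ∀ (φ : HomSet R resR A) (y : F.obj B), F.map μ y = ξ.app A φ →
        ∃ ψ : HomSet R resR B, HomSet.map μ ψ = φ) : IsVersal ξ := by
  refine isVersal_of_small ξ fun B A μ hμ φ y hy => ?_
  obtain ⟨t, hker, -⟩ := smallExt_exists_gen hμ
  obtain ⟨ψ₀, hψ₀⟩ := hl μ hμ φ y hy
  obtain ⟨P, p₁, p₂, hP⟩ := exists_isFibreProd_of_surjective μ μ hμ.1
  obtain ⟨g, hg⟩ := exists_isDiff hμ hker hP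
  obtain ⟨θ, z, hz₁, hz₂, hz₃⟩ := trel_transitive (g := g) hμ hP h1
    (y := ξ.app B ψ₀) (y' := y) (by rw [← ξ.natural, hψ₀, hy])
  obtain ⟨δ, hδ⟩ := ht θ
  obtain ⟨w, hw₁, hw₂⟩ := homSet_fp_exists (isFibreProd_of_isDiff hμ hker hP hg) ψ₀ δ
    ((homSet_base_eq _).trans (homSet_base_eq _).symm)
  have hw : ξ.app P w = z := eq_of_cmp_injective (h2 _ _ (isFibreProd_of_isDiff hμ hker hP hg)).1
    (by rw [← ξ.natural, hw₁, hz₁]) (by rw [← ξ.natural, hw₂, hδ, hz₂])
  refine ⟨HomSet.map p₂ w, ?_, by rw [ξ.natural, hw, hz₃]⟩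
  rw [homSet_map_comp, ← hP.w, ← homSet_map_comp, hw₁, hψ₀]

variable {G : Art Λ k ⥤ Type v}

/-- Smoothness from surjectivity on the tangent space and existence of lifts. -/
lemma isSmooth_of_tangent_surjective (hF0 : H0 F) (hF2 : Heps F) (hG1 : Hbar G) (hG2 : Heps G)
    (f : F ⟶ G) (ht : Function.Surjective (f.app (Art.dual Λ k)))
    (hl : ∀ ⦃B A : Art Λ k⦄ (μ : B ⟶ A), Art.IsSmallExt μ → ∀ x : F.obj A,
      (∃ y : G.obj B, G.map μ y = f.app A x) → ∃ x' : F.obj B, F.map μ x' = x) : IsSmooth f := by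
  refine isSmooth_of_small f fun B A μ hμ x y hy => ?_
  obtain ⟨t, hker, -⟩ := smallExt_exists_gen hμ
  obtain ⟨x', hx'⟩ := hl μ hμ x ⟨y, hy.symm⟩
  obtain ⟨P, p₁, p₂, hP⟩ := exists_isFibreProd_of_surjective μ μ hμ.1
  obtain ⟨g, hg⟩ := exists_isDiff hμ hker hP
  obtain ⟨θ, z, hz₁, hz₂, hz₃⟩ := trel_transitive (g := g) hμ hP hG1
    (y := f.app B x') (y' := y) (by rw [← naturality', hx', hy])
  obtain ⟨δ, hδ⟩ := ht θ
  obtain ⟨w, hw₁, hw₂⟩ := exists_of_cmp_surjective (hF2 _ _ (isFibreProd_of_isDiff hμ hker hP hg)).2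
    x' δ (h0_eq hF0 _ _)
  have hw : f.app P w = z := eq_of_cmp_injective (hG2 _ _ (isFibreProd_of_isDiff hμ hker hP hg)).1
    (by rw [← naturality', hw₁, hz₁]) (by rw [← naturality', hw₂, hδ, hz₂])
  refine ⟨F.map p₂ w, ?_, by rw [naturality', hw, hz₃]⟩
  rw [map_map, ← hP.w, ← map_map, hw₁, hx']

/-- Injectivity from injectivity on the tangent space, for a target with free tangent action. -/
lemma injective_app_of_tangent_injective (hF0 : H0 F) (hF1 : Hbar F) (hF2 : Heps F) (hG0 : H0 G)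
    (hG4 : HSq G) (f : F ⟶ G) (ht : Function.Injective (f.app (Art.dual Λ k))) (A : Art Λ k) :
    Function.Injective (f.app A) := by
  suffices H : ∀ ⦃A B : Art Λ k⦄ (μ : B ⟶ A), Function.Surjective μ →
      Function.Injective (f.app A) → Function.Injective (f.app B) from
    H (Art.toBase A) (toBase_surjective A) fun x y _ => h0_eq hF0 x y
  refine surj_induction (fun A B _ => Function.Injective (f.app A) → Function.Injective (f.app B))
    ?_ ?_ (fun _ _ _ _ _ _ _ hp hq h => hp (hq h))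
  · intro A B e he h x y hxy
    exact (map_bijective_of_isIso F e).1 (h (by rw [naturality', naturality', hxy]))
  · intro A B μ hμ h x y hxy
    obtain ⟨t, hker, -⟩ := smallExt_exists_gen hμ
    obtain ⟨P, p₁, p₂, hP⟩ := exists_isFibreProd_of_surjective μ μ hμ.1
    obtain ⟨g, hg⟩ := exists_isDiff hμ hker hP
    obtain ⟨θ, hθ⟩ := trel_transitive (g := g) hμ hP hF1 (y := x) (y' := y)
      (h (by rw [naturality', naturality', hxy]))
    have hθG : TRel p₁ p₂ g (f.app _ θ) (f.app B x) (f.app B y) := by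
      obtain ⟨z, a, b, c⟩ := hθ
      exact ⟨f.app P z, by rw [← naturality', a], by rw [← naturality', b], by rw [← naturality', c]⟩
    obtain ⟨pt⟩ := hF0.1
    rw [← hxy] at hθG
    have e := trel_free hμ hP hG4 hθG (trel_zero hμ hker hP hg hG0 (f.app B x) (f.app _ pt))
    rw [← naturality'] at e
    rw [ht e] at hθ
    exact trel_unique hμ hker hP hg hF2 (trel_zero hμ hker hP hg hF0 x pt) hθ

end Lifting

end GrothLib.ArtFun
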