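import Groth.Agent.Lib.ArtFun.CRingQuot
import Groth.Agent.Lib.ArtFun.LeastIdeal
import Groth.Agent.Lib.ArtFun.SmoothCover
import Groth.Agent.Lib.ArtFun.Torsor

/-!
# Functors of Artin rings: versal families and hulls (Schlessinger's construction)
-/

universe u v

namespace GrothLib.ArtFun

open _root_.ArtFun CategoryTheory IsLocalRing

variable {Λ : Type u} {k : Type u} [CommRing Λ] [Field k] [Algebra Λ k]

section Factor

/-- An algebra map killing the kernel of a surjective one factors through it. -/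
lemma exists_factor_algHom {S R A : Type u} [CommRing S] [Algebra Λ S] [CommRing R] [Algebra Λ R]
    [CommRing A] [Algebra Λ A] (π : S →ₐ[Λ] R) (hπ : Function.Surjective π) (f : S →ₐ[Λ] A)
    (h : ∀ x, π x = 0 → f x = 0) : ∃ g : R →ₐ[Λ] A, g.comp π = f := by
  refine ⟨(Ideal.Quotient.liftₐ (RingHom.ker π) f fun a ha => h a ha).comp
    (Ideal.quotientKerAlgEquivOfSurjective hπ).symm.toAlgHom, AlgHom.ext fun x => ?_⟩
  change Ideal.Quotient.liftₐ (RingHom.ker π) f (fun a ha => h a ha)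
    ((Ideal.quotientKerAlgEquivOfSurjective hπ).symm (π x)) = f x
  have e : (Ideal.quotientKerAlgEquivOfSurjective hπ).symm (π x) = Ideal.Quotient.mk _ x :=
    (AlgEquiv.symm_apply_eq _).2 rfl
  rw [e]
  rfl

variable {S : CRing Λ k}

/-- Points of `h_S` killing the kernel of a surjective point factor through it. -/
lemma exists_factor_homSet {E A : Art Λ k} {φ : HomSet S.carrier S.res E}
    (hφ : Function.Surjective φ.1) (ψ : HomSet S.carrier S.res A)
    (h : RingHom.ker φ.1 ≤ RingHom.ker ψ.1) : ∃ g : E ⟶ A, HomSet.map g φ = ψ := by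
  obtain ⟨g, hg⟩ := exists_factor_algHom φ.1 hφ ψ.1 fun x hx => h hx
  refine ⟨Art.homMk g (AlgHom.ext fun e => ?_), Subtype.ext hg⟩
  obtain ⟨x, rfl⟩ := hφ e
  rw [AlgHom.comp_apply, ← AlgHom.comp_apply g φ.1, hg, res_of_homSet, res_of_homSet]

lemma hom_ext_of_surjective {E A : Art Λ k} {φ : HomSet S.carrier S.res E}
    (hφ : Function.Surjective φ.1) {g g' : E ⟶ A} (h : HomSet.map g φ = HomSet.map g' φ) : g = g' :=
  hom_ext_apply fun e => by
    obtain ⟨x, rfl⟩ := hφ e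
    exact DFunLike.congr_fun (congrArg Subtype.val h) x

lemma mem_maximalIdeal_of_apply_eq_zero {A : Art Λ k} (φ : HomSet S.carrier S.res A) {x : S.carrier}
    (hx : φ.1 x = 0) : x ∈ maximalIdeal S.carrier := by
  rw [CRing.mem_maximalIdeal_iff, ← res_of_homSet φ, hx, map_zero]

lemma apply_mem_maximalIdeal {A : Art Λ k} (φ : HomSet S.carrier S.res A) {x : S.carrier}
    (hx : x ∈ maximalIdeal S.carrier) : φ.1 x ∈ maximalIdeal A := by
  rw [← res_eq_zero_iff, res_of_homSet]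
  exact (CRing.mem_maximalIdeal_iff S x).1 hx

end Factor

section Construction

variable (F : Art Λ k ⥤ Type v) (S : CRing Λ k)

/-- A stage of the construction: a quotient of `S` with an element of `F` on it. -/
structure Level where
  /-- The object. -/
  obj : Art Λ k
  /-- The projection from `S`. -/
  pt : HomSet S.carrier S.res obj
  surj : Function.Surjective pt.1
  /-- The element. -/
  elt : F.obj obj

variable {F S}

/-- The relation between two consecutive stages. -/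
def Level.Next (L L' : Level F S) : Prop :=
  (∃ π : L'.obj ⟶ L.obj, HomSet.map π L'.pt = L.pt ∧ F.map π L'.elt = L.elt) ∧
    ∀ ⦃D : Art Λ k⦄ (μ : D ⟶ L.obj), Art.IsSmallExt μ → ∀ (ψ : HomSet S.carrier S.res D),
      Function.Surjective ψ.1 → HomSet.map μ ψ = L.pt → ∀ y : F.obj D, F.map μ y = L.elt →
        RingHom.ker L'.pt.1 ≤ RingHom.ker ψ.1

/-- The largest quotient of `S` which is semismall over a given point. -/
lemma exists_semismall_cover {E : Art Λ k} (φ : HomSet S.carrier S.res E)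
    (hφ : Function.Surjective φ.1) :
    ∃ (B : Art Λ k) (ψ : HomSet S.carrier S.res B) (p : B ⟶ E), Function.Surjective ψ.1 ∧
      HomSet.map p ψ = φ ∧ Art.IsSemismallExt p ∧
      RingHom.ker ψ.1 ≤ maximalIdeal S.carrier * RingHom.ker φ.1 := by
  obtain ⟨n, u, hu⟩ := exists_factor_trunc φ
  let J : Ideal S.carrier := maximalIdeal S.carrier * RingHom.ker φ.1
  have hmK : CRing.mpow S (n + 1) ≤ J := by
    rw [CRing.mpow, pow_succ']
    refine Ideal.mul_mono_right fun x hx => RingHom.mem_ker.2 ?_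
    rw [← hu]
    exact (congrArg u.toAlgHom ((truncHom_eq_zero_iff S n x).2 hx)).trans (map_zero _)
  obtain ⟨T, τ, hτs, hτ0, ⟨w, hw⟩⟩ : ∃ (T : Art Λ k) (τ : HomSet S.carrier S.res T),
      Function.Surjective τ.1 ∧ (∀ x, τ.1 x = 0 → x ∈ CRing.mpow S (n + 1)) ∧
        ∃ w : T ⟶ E, HomSet.map w τ = φ :=
    ⟨S.trunc (n + 1), S.truncHom (n + 1), truncHom_surjective S _,
      fun x => (truncHom_eq_zero_iff S _ x).1, truncTo S (Nat.le_succ n) ≫ u,
      by rw [← homSet_map_comp, truncTo_truncHom, hu]⟩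
  have hwa : ∀ x, w (τ.1 x) = φ.1 x := fun x => DFunLike.congr_fun (congrArg Subtype.val hw) x
  have hMw : J.map τ.1 ≤ RingHom.ker w.toAlgHom := by
    refine Ideal.map_le_iff_le_comap.2 fun x hx => ?_
    have hx' : x ∈ RingHom.ker φ.1 := (Ideal.mul_le_right : J ≤ RingHom.ker φ.1) hx
    rw [Ideal.mem_comap, RingHom.mem_ker]
    exact (hwa x).trans (RingHom.mem_ker.1 hx')
  have hM : J.map τ.1 ≤ maximalIdeal T := hMw.trans (ker_le_maximalIdeal w)
  have hψ0 : ∀ x, (HomSet.map (Art.quotMk T _ hM) τ).1 x = 0 ↔ x ∈ J := by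
    refine fun x => ⟨fun h => ?_, fun h => (quotMk_eq_zero_iff hM).2 (Ideal.mem_map_of_mem _ h)⟩
    have hx' : τ.1 x ∈ J.map τ.1 := (quotMk_eq_zero_iff hM).1 h
    rw [Ideal.mem_map_iff_of_surjective _ hτs] at hx'
    obtain ⟨y, hy, e⟩ := hx'
    rw [← sub_add_cancel x y]
    refine add_mem (hmK (hτ0 _ ?_)) hy
    rw [map_sub, e, sub_self]
  refine ⟨Art.quot T _ hM, HomSet.map (Art.quotMk T _ hM) τ, Art.quotFactor hM w hMw,
    (Art.quotMk_surjective T _ hM).comp hτs,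
    by rw [homSet_map_comp, Art.quotMk_quotFactor, hw], ?_, fun x hx => (hψ0 x).1 hx⟩
  refine ⟨quotFactor_surjective hM hMw fun e => ?_, ?_⟩
  · obtain ⟨x, rfl⟩ := hφ e
    exact ⟨_, hwa x⟩
  · rw [← le_bot_iff, Ideal.mul_le]
    intro a ha b hb
    obtain ⟨x, rfl⟩ := (Art.quotMk_surjective T _ hM).comp hτs a
    obtain ⟨z, rfl⟩ := (Art.quotMk_surjective T _ hM).comp hτs b
    rw [Ideal.mem_bot]
    have hx : x ∈ maximalIdeal S.carrier := by
      rw [CRing.mem_maximalIdeal_iff, ← res_of_homSet (HomSet.map (Art.quotMk T _ hM) τ)]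
      exact res_eq_zero_iff.2 ha
    have hz : z ∈ RingHom.ker φ.1 := RingHom.mem_ker.2 ((hwa z).symm.trans (mem_ker_iff.1 hb))
    exact (map_mul (HomSet.map (Art.quotMk T _ hM) τ).1 x z).symm.trans
      ((hψ0 _).2 (Ideal.mul_mem_mul hx hz))

lemma exists_next (h1 : S1 F) (L : Level F S) : ∃ L', L.Next L' := by
  obtain ⟨B, ψ, p, hψs, hp, hps, hψker⟩ := exists_semismall_cover L.pt L.surj
  have hpa : ∀ x, p (ψ.1 x) = L.pt.1 x := fun x => DFunLike.congr_fun (congrArg Subtype.val hp) x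
  obtain ⟨J, ⟨hJ, hJm, y, hy⟩, hmin⟩ := exists_least_lift h1 hps L.elt
  refine ⟨⟨Art.quot B J hJm, HomSet.map (Art.quotMk B J hJm) ψ,
    (Art.quotMk_surjective B J hJm).comp hψs, y⟩,
    ⟨Art.quotFactor hJm p hJ, by rw [homSet_map_comp, Art.quotMk_quotFactor, hp], hy⟩, ?_⟩
  intro D μ hμ χ hχs hχ y' hy'
  have hχa : ∀ x, μ (χ.1 x) = L.pt.1 x := fun x => DFunLike.congr_fun (congrArg Subtype.val hχ) x
  obtain ⟨g, hg⟩ := exists_factor_homSet hψs χ (le_trans hψker (Ideal.mul_le.2 fun a ha b hb => by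
    refine RingHom.mem_ker.2 ?_
    rw [map_mul]
    exact mul_eq_zero_of_mem_maximalIdeal hμ.2.2.2 (apply_mem_maximalIdeal χ ha)
      (mem_ker_iff.2 ((hχa b).trans (RingHom.mem_ker.1 hb)))))
  have hgp : g ≫ μ = p := hom_ext_of_surjective hψs (by rw [← homSet_map_comp, hg, hχ, hp])
  have hga : ∀ x, g (ψ.1 x) = χ.1 x := fun x => DFunLike.congr_fun (congrArg Subtype.val hg) x
  have hgs : Function.Surjective g := fun d => by
    obtain ⟨x, rfl⟩ := hχs d
    exact ⟨_, hga x⟩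
  have hG := ker_le_maximalIdeal g
  have hGp : RingHom.ker g.toAlgHom ≤ RingHom.ker p.toAlgHom := fun b hb => mem_ker_iff.2 (by
    rw [← hgp]
    exact (congrArg μ.toAlgHom (mem_ker_iff.1 hb)).trans (map_zero _))
  have hb : Function.Bijective (Art.quotFactor hG g le_rfl) := by
    refine ⟨fun a b e => ?_, quotFactor_surjective hG le_rfl hgs⟩
    obtain ⟨a, rfl⟩ := Art.quotMk_surjective B _ hG a
    obtain ⟨b, rfl⟩ := Art.quotMk_surjective B _ hG b
    refine Ideal.Quotient.eq.2 (mem_ker_iff.2 ?_)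
    rw [map_sub, sub_eq_zero]
    exact e
  haveI := isIso_of_bijective _ hb
  have hlift : LiftsTo p L.elt (RingHom.ker g.toAlgHom) := by
    refine ⟨hGp, hG, F.map (inv (Art.quotFactor hG g le_rfl)) y', ?_⟩
    rw [← hy', map_map]
    refine congrArg (fun f => F.map f y') (show _ = μ from (IsIso.inv_comp_eq _).2 ?_)
    exact hom_ext_apply fun a => by
      obtain ⟨b, rfl⟩ := Art.quotMk_surjective B _ hG a
      exact apply_congr_hom hgp.symm b
  intro x hx
  refine RingHom.mem_ker.2 ?_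
  rw [← hga]
  exact mem_ker_iff.1 (hmin _ hlift ((quotMk_eq_zero_iff hJm).1 hx))

variable (L : ℕ → Level F S) (hL : ∀ q, (L q).Next (L (q + 1)))

include hL in
lemma exists_transition {q q' : ℕ} (h : q ≤ q') : ∃ τ : (L q').obj ⟶ (L q).obj,
    HomSet.map τ (L q').pt = (L q).pt ∧ F.map τ (L q').elt = (L q).elt := by
  induction q', h using Nat.le_induction with
  | base => exact ⟨𝟙 _, homSet_ext fun _ => rfl, map_id' F _⟩
  | succ m h ih =>
    obtain ⟨τ, h₁, h₂⟩ := ih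
    obtain ⟨⟨π, h₃, h₄⟩, -⟩ := hL m
    exact ⟨π ≫ τ, by rw [← homSet_map_comp, h₃, h₁], by rw [← map_map, h₄, h₂]⟩

include hL in
lemma map_level_eq {A : Art Λ k} {q q' : ℕ} (a : (L q).obj ⟶ A) (b : (L q').obj ⟶ A)
    (h : HomSet.map a (L q).pt = HomSet.map b (L q').pt) :
    F.map a (L q).elt = F.map b (L q').elt := by
  obtain ⟨τ, h₁, h₂⟩ := exists_transition L hL (le_max_left q q')
  obtain ⟨τ', h₁', h₂'⟩ := exists_transition L hL (le_max_right q q')
  have e : τ ≫ a = τ' ≫ b := hom_ext_of_surjective (L (max q q')).surj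
    (by rw [← homSet_map_comp, ← homSet_map_comp, h₁, h₁', h])
  rw [← h₂, ← h₂', map_map, map_map, e]

include hL in
lemma exists_level_factor {A : Art Λ k} (φ : HomSet S.carrier S.res A)
    (h : ∀ x, (∀ q, (L q).pt.1 x = 0) → φ.1 x = 0) :
    ∃ (q : ℕ) (a : (L q).obj ⟶ A), HomSet.map a (L q).pt = φ := by
  obtain ⟨N, hN⟩ := exists_mpow_eq_zero φ
  have hanti : Antitone fun q => RingHom.ker (L q).pt.1 := fun q q' hq x hx => by
    obtain ⟨τ, h₁, -⟩ := exists_transition L hL hq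
    refine RingHom.mem_ker.2 ?_
    rw [← h₁]
    exact (congrArg τ.toAlgHom (RingHom.mem_ker.1 hx)).trans (map_zero _)
  obtain ⟨q, hq⟩ := exists_le_iInf_sup S _ hanti (fun q => by
    obtain ⟨M, hM⟩ := exists_mpow_eq_zero (L q).pt
    exact ⟨M, fun x hx => RingHom.mem_ker.2 (hM x hx)⟩) N
  refine ⟨q, exists_factor_homSet (L q).surj φ fun x hx => ?_⟩
  obtain ⟨a, ha, b, hb, rfl⟩ := Submodule.mem_sup.1 (hq hx)
  refine RingHom.mem_ker.2 ?_
  rw [map_add, hN b hb, add_zero]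
  exact h a fun q => RingHom.mem_ker.1 ((Submodule.mem_iInf _).1 ha q)

include hL in
/-- Points over a stage lift along small extensions without leaving the tower. -/
lemma apply_eq_zero_of_lift {q : ℕ} {D : Art Λ k} (μ : D ⟶ (L q).obj) (hμ : Art.IsSmallExt μ)
    (ψ : HomSet S.carrier S.res D) (hψ : HomSet.map μ ψ = (L q).pt) (y : F.obj D)
    (hy : F.map μ y = (L q).elt) (x : S.carrier) (hx : ∀ q, (L q).pt.1 x = 0) : ψ.1 x = 0 := by
  by_cases hs : Function.Surjective ψ.1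
  · exact RingHom.mem_ker.1 ((hL q).2 μ hμ ψ hs hψ y hy (RingHom.mem_ker.2 (hx (q + 1))))
  · by_contra hne
    refine hs fun d => ?_
    have hψa : ∀ z, μ (ψ.1 z) = (L q).pt.1 z := fun z =>
      DFunLike.congr_fun (congrArg Subtype.val hψ) z
    obtain ⟨t, hker, ht0, htm, -⟩ := smallExt_exists_gen hμ
    obtain ⟨c, hc⟩ : ∃ c, c * t = ψ.1 x := by
      refine Ideal.mem_span_singleton'.1 ?_
      rw [← hker, mem_ker_iff, hψa, hx q]
    have hc0 : D.res c ≠ 0 := fun h => hne (by rw [← hc]; exact htm c (res_eq_zero_iff.1 h))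
    obtain ⟨z, hz⟩ := (L q).surj (μ d)
    obtain ⟨a, ha⟩ : ∃ a, a * t = d - ψ.1 z := by
      refine Ideal.mem_span_singleton'.1 ?_
      rw [← hker, mem_ker_iff, map_sub, hψa, hz, sub_self]
    obtain ⟨w, hw⟩ := S.res_surjective (D.res a / D.res c)
    refine ⟨z + w * x, ?_⟩
    have e : ψ.1 w * c * t = a * t := mul_eq_mul_of_res_eq hμ.2.2.2
      (by rw [map_mul, res_of_homSet, hw, div_mul_cancel₀ _ hc0])
      (hker ▸ Ideal.mem_span_singleton_self t)
    rw [map_add, map_mul, ← hc, ← mul_assoc, e, ha, add_sub_cancel]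

/-- Schlessinger's construction inside a smooth coefficient ring. -/
lemma exists_family_of_smooth (h1 : S1 F) (hS : IsSmoothFunctor (hR S.carrier S.res)) {E : Art Λ k}
    (φ₀ : HomSet S.carrier S.res E) (hφ₀ : Function.Surjective φ₀.1) (x₀ : F.obj E) :
    ∃ (R : CRing Λ k) (π : S.carrier →ₐ[Λ] R.carrier) (ξ : Family R.carrier R.res F)
      (ψ₀ : HomSet R.carrier R.res E), R.res.comp π = S.res ∧ Function.Surjective π ∧
      ψ₀.1.comp π = φ₀.1 ∧ ξ.app E ψ₀ = x₀ ∧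
      ∀ ⦃B A : Art Λ k⦄ (μ : B ⟶ A), Art.IsSmallExt μ → ∀ (φ : HomSet R.carrier R.res A)
        (y : F.obj B), F.map μ y = ξ.app A φ →
          ∃ ψ : HomSet R.carrier R.res B, HomSet.map μ ψ = φ := by
  obtain ⟨L, hL0, hL⟩ := exists_seq (X := fun _ => Level F S) (fun _ L L' => L.Next L')
    ⟨E, φ₀, hφ₀, x₀⟩ fun _ L => exists_next h1 L
  let J : Ideal S.carrier := ⨅ q, RingHom.ker (L q).pt.1
  have hJm : J ≤ maximalIdeal S.carrier := fun x hx =>
    mem_maximalIdeal_of_apply_eq_zero (L 0).pt (RingHom.mem_ker.1 ((Submodule.mem_iInf _).1 hx 0))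
  obtain ⟨R, π, hπ, hπs, hπk⟩ := exists_cring_quot S J hJm
  have hπ0 : ∀ x, π x = 0 ↔ ∀ q, (L q).pt.1 x = 0 := fun x => by
    rw [← RingHom.mem_ker, hπk, Submodule.mem_iInf]
    exact forall_congr' fun q => RingHom.mem_ker
  let res' : ∀ {A : Art Λ k}, HomSet R.carrier R.res A → HomSet S.carrier S.res A := fun φ =>
    ⟨φ.1.comp π, by rw [← AlgHom.comp_assoc, φ.2, hπ]⟩
  have hfac : ∀ {A : Art Λ k} (φ : HomSet R.carrier R.res A),
      ∃ (q : ℕ) (a : (L q).obj ⟶ A), HomSet.map a (L q).pt = res' φ := fun φ =>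
    exists_level_factor L hL (res' φ) fun x hx => by
      change φ.1 (π x) = 0
      rw [(hπ0 x).2 hx, map_zero]
  choose qf af haf using @hfac
  let ξ : Family R.carrier R.res F :=
    { app := fun A φ => F.map (af φ) (L (qf φ)).elt
      natural := fun {A B} f φ => by
        rw [map_map]
        refine map_level_eq L hL _ _ ?_
        rw [haf, ← homSet_map_comp, haf]
        rfl }
  have hdesc : ∀ {A : Art Λ k} (φ : HomSet S.carrier S.res A),
      (∀ x, (∀ q, (L q).pt.1 x = 0) → φ.1 x = 0) →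
        ∃ ψ : HomSet R.carrier R.res A, ψ.1.comp π = φ.1 := fun {A} φ hφ => by
    obtain ⟨g, hg⟩ := exists_factor_algHom π hπs φ.1 fun x hx => hφ x ((hπ0 x).1 hx)
    refine ⟨⟨g, AlgHom.ext fun r => ?_⟩, hg⟩
    obtain ⟨x, rfl⟩ := hπs r
    rw [AlgHom.comp_apply, ← AlgHom.comp_apply g π, hg, res_of_homSet,
      ← AlgHom.comp_apply R.res π, hπ]
  have hE : ∃ ψ₀ : HomSet R.carrier R.res E, ψ₀.1.comp π = φ₀.1 ∧ ξ.app E ψ₀ = x₀ := by
    obtain ⟨ψ₀, hψ₀⟩ := hdesc φ₀ fun x hx => by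
      have := hx 0
      rw [hL0] at this
      exact this
    have key : ∀ (M : Level F S), L 0 = M → ∀ χ : HomSet R.carrier R.res M.obj,
        χ.1.comp π = M.pt.1 → ξ.app M.obj χ = M.elt := by
      rintro M rfl χ hχ
      refine Eq.trans ?_ (map_id' F (L 0).elt)
      exact map_level_eq L hL _ _ ((haf χ).trans (Subtype.ext hχ))
    exact ⟨ψ₀, hψ₀, key _ hL0 ψ₀ hψ₀⟩
  obtain ⟨ψ₀, hψ₀, hψ₀'⟩ := hE
  refine ⟨R, π, ξ, ψ₀, hπ, hπs, hψ₀, hψ₀', fun B A μ hμ φ y hy => ?_⟩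
  obtain ⟨D, d', d'', hD⟩ := exists_isFibreProd_of_surjective (af φ) μ hμ.1
  obtain ⟨z, hz₁, -⟩ := exists_of_cmp_surjective (h1 _ _ _ _ hD hμ.1) (L (qf φ)).elt y hy.symm
  have hd' := isSmallExt_fst hD hμ
  obtain ⟨ψ, hψ⟩ := hS d' hd'.1 (L (qf φ)).pt
  have hψ' : HomSet.map d' ψ = (L (qf φ)).pt := hψ
  obtain ⟨χ, hχ⟩ := hdesc (HomSet.map d'' ψ) fun x hx => by
    change d''.toAlgHom (ψ.1 x) = 0
    rw [apply_eq_zero_of_lift L hL d' hd' ψ hψ' z hz₁ x hx, map_zero]
  refine ⟨χ, Subtype.ext (AlgHom.cancel_right hπs |>.1 ?_)⟩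
  change (μ.toAlgHom.comp χ.1).comp π = (res' φ).1
  rw [AlgHom.comp_assoc, hχ]
  have e := congrArg Subtype.val
    (show HomSet.map μ (HomSet.map d'' ψ) = res' φ by
      rw [homSet_map_comp, ← hD.w, ← homSet_map_comp, hψ', haf])
  exact e

end Construction

section Existence

variable {F : Art Λ k ⥤ Type v} [TangentStr F]

/-- An element of `F(k ⊕ k^d)` inducing all tangent vectors, bijectively. -/
lemma exists_tangent_generator (h0 : H0 F) (h2 : Heps F) (h3 : Hfin F) :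
    ∃ (d : ℕ) (x₀ : F.obj (tsze Λ k (Fin d → k))),
      Function.Bijective fun l : Module.Dual k (Fin d → k) => F.map (tszeHom l) x₀ := by
  haveI : Module.Finite k (TangentSpace F) := h3
  let b := Module.finBasis k (TangentSpace F)
  obtain ⟨x₀, hx₀⟩ := (coords_bijective h0 h2 _).2 fun i => TangentSpace.val (b i)
  refine ⟨_, x₀, ?_⟩
  let f := dualToTangent x₀
  have hs : Function.Surjective f := by
    rw [← LinearMap.range_eq_top, eq_top_iff, ← b.span_eq, Submodule.span_le]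
    rintro _ ⟨i, rfl⟩
    exact ⟨LinearMap.proj i, congrFun hx₀ i⟩
  have hd : Module.finrank k (Module.Dual k (Fin (Module.finrank k (TangentSpace F)) → k)) =
      Module.finrank k (TangentSpace F) := by
    rw [Subspace.dual_finrank_eq, Module.finrank_fin_fun]
  exact ⟨(LinearMap.injective_iff_surjective_of_finrank_eq_finrank hd).2 hs, hs⟩

variable [IsNoetherianRing Λ] [Module.Finite Λ k]

/-- Versal families exist. -/
lemma hasVersal_of_conditions (h0 : H0 F) (h1 : S1 F) (h2 : Heps F) (h3 : Hfin F) : HasVersal F := by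
  obtain ⟨d, x₀, hx₀⟩ := exists_tangent_generator h0 h2 h3
  obtain ⟨S, φ₀, hS, hφ₀⟩ := exists_smooth_cover (Λ := Λ) (k := k) d
  obtain ⟨R, π, ξ, ψ₀, -, -, -, hξ₀, hl⟩ := exists_family_of_smooth h1 hS φ₀ hφ₀ x₀
  refine ⟨⟨R, ξ, isVersal_of_tangent_surjective (hbar_of_s1 F h1) h2 ξ (fun θ => ?_) hl⟩⟩
  obtain ⟨l, hl'⟩ := hx₀.2 θ
  refine ⟨HomSet.map (tszeHom l) ψ₀, ?_⟩
  rw [ξ.natural, hξ₀]
  exact hl'

/-- Hulls exist when the residue field is separable. -/
lemma hasHull_of_conditions (hsep : SimpleRoots Λ k) (h0 : H0 F) (h1 : S1 F) (h2 : Heps F)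
    (h3 : Hfin F) : HasHull F := by
  obtain ⟨d, x₀, hx₀⟩ := exists_tangent_generator h0 h2 h3
  obtain ⟨S, φ₀, hS, hφ₀, hfac⟩ := exists_smooth_cover_sep (Λ := Λ) hsep d
  obtain ⟨R, π, ξ, ψ₀, hπ, hπs, hψ₀, hξ₀, hl⟩ := exists_family_of_smooth h1 hS φ₀ hφ₀ x₀
  have htan : ∀ l : Module.Dual k (Fin d → k),
      ξ.app (Art.dual Λ k) (HomSet.map (tszeHom l) ψ₀) = F.map (tszeHom l) x₀ := fun l => by
    rw [← hξ₀]
    exact ξ.natural _ _
  have hrep : ∀ δ : HomSet R.carrier R.res (Art.dual Λ k),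
      ∃ l : Module.Dual k (Fin d → k), HomSet.map (tszeHom l) ψ₀ = δ := fun δ => by
    obtain ⟨l, hl⟩ := hfac ⟨δ.1.comp π, by rw [← AlgHom.comp_assoc, δ.2, hπ]⟩
    refine ⟨l, Subtype.ext (AlgHom.cancel_right hπs |>.1 ?_)⟩
    change ((tszeHom l).toAlgHom.comp ψ₀.1).comp π = _
    rw [AlgHom.comp_assoc, hψ₀]
    exact congrArg Subtype.val hl
  refine ⟨⟨R, ξ, isVersal_of_tangent_surjective (hbar_of_s1 F h1) h2 ξ (fun θ => ?_) hl,
    fun δ δ' e => ?_, fun θ => ?_⟩⟩
  · obtain ⟨l, hl'⟩ := hx₀.2 θ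
    exact ⟨_, (htan l).trans hl'⟩
  · obtain ⟨l, rfl⟩ := hrep δ
    obtain ⟨l', rfl⟩ := hrep δ'
    rw [hx₀.1 ((htan l).symm.trans (e.trans (htan l')))]
  · obtain ⟨l, hl'⟩ := hx₀.2 θ
    exact ⟨_, (htan l).trans hl'⟩

end Existence

end GrothLib.ArtFun
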