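import Groth.Agent.Lib.ArtFun.Smooth
import Mathlib.CategoryTheory.Limits.FunctorCategory.Basic
import Mathlib.CategoryTheory.Limits.Types.Pullbacks
import Mathlib.CategoryTheory.Limits.Types.Products
import Mathlib.CategoryTheory.Limits.Preserves.Shapes.BinaryProducts
import Mathlib.CategoryTheory.Limits.Shapes.Pullback.IsPullback.Basic

/-!
# Functors of Artin rings: pullbacks and products of functors, evaluated pointwise
-/

universe u v

namespace GrothLib.ArtFun

open _root_.ArtFun CategoryTheory CategoryTheory.Limits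

variable {Λ : Type u} {k : Type u} [CommRing Λ] [Field k] [Algebra Λ k]
variable {F G H : Art Λ k ⥤ Type v}

lemma isPullback_app (f : F ⟶ G) (g : H ⟶ G) (A : Art Λ k) :
    IsPullback ((pullback.fst f g).app A) ((pullback.snd f g).app A) (f.app A) (g.app A) :=
  (IsPullback.of_hasPullback f g).map ((evaluation (Art Λ k) (Type v)).obj A)

lemma pullback_exists (f : F ⟶ G) (g : H ⟶ G) {A : Art Λ k} (x : F.obj A) (y : H.obj A)
    (h : f.app A x = g.app A y) :
    ∃ z : (pullback f g).obj A, (pullback.fst f g).app A z = x ∧ (pullback.snd f g).app A z = y :=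
  Types.exists_of_isPullback (isPullback_app f g A) x y h

lemma pullback_ext (f : F ⟶ G) (g : H ⟶ G) {A : Art Λ k} {x y : (pullback f g).obj A}
    (h₁ : (pullback.fst f g).app A x = (pullback.fst f g).app A y)
    (h₂ : (pullback.snd f g).app A x = (pullback.snd f g).app A y) : x = y :=
  Types.ext_of_isPullback (isPullback_app f g A) h₁ h₂

lemma pullback_condition_apply (f : F ⟶ G) (g : H ⟶ G) {A : Art Λ k} (z : (pullback f g).obj A) :
    f.app A ((pullback.fst f g).app A z) = g.app A ((pullback.snd f g).app A z) :=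
  congrArg (fun η : pullback f g ⟶ G => η.app A z) pullback.condition

/-- Base change of a smooth morphism is smooth. -/
lemma isSmooth_pullback_snd (f : F ⟶ G) (g : H ⟶ G) (hf : IsSmooth f) :
    IsSmooth (pullback.snd f g) := by
  rw [isSmooth_iff] at *
  intro B A μ hμ z y e
  obtain ⟨b, hb₁, hb₂⟩ := hf μ hμ ((pullback.fst f g).app A z) (g.app B y)
    (by rw [pullback_condition_apply, e, naturality'])
  obtain ⟨w, hw₁, hw₂⟩ := pullback_exists f g b y hb₂
  exact ⟨w, pullback_ext f g (by rw [naturality', hw₁, hb₁]) (by rw [naturality', hw₂, e]), hw₂⟩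

lemma prod_exists {A : Art Λ k} (x : F.obj A) (y : G.obj A) :
    ∃ z : (F ⨯ G).obj A, (prod.fst : F ⨯ G ⟶ F).app A z = x ∧ (prod.snd : F ⨯ G ⟶ G).app A z = y := by
  let E := (evaluation (Art Λ k) (Type v)).obj A
  have h := isLimitOfHasBinaryProductOfPreservesLimit E F G
  obtain ⟨l, h₁, h₂⟩ := BinaryFan.IsLimit.lift' h (↾fun _ : PUnit.{v + 1} => x) (↾fun _ : PUnit.{v + 1} => y)
  exact ⟨l PUnit.unit, congrArg (fun t => t PUnit.unit) h₁, congrArg (fun t => t PUnit.unit) h₂⟩

lemma prod_ext {A : Art Λ k} {x y : (F ⨯ G).obj A}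
    (h₁ : (prod.fst : F ⨯ G ⟶ F).app A x = (prod.fst : F ⨯ G ⟶ F).app A y)
    (h₂ : (prod.snd : F ⨯ G ⟶ G).app A x = (prod.snd : F ⨯ G ⟶ G).app A y) : x = y := by
  let E := (evaluation (Art Λ k) (Type v)).obj A
  have h := isLimitOfHasBinaryProductOfPreservesLimit E F G
  have e : (↾fun _ : PUnit.{v + 1} => x : PUnit.{v + 1} ⟶ E.obj (F ⨯ G)) = ↾fun _ => y :=
    BinaryFan.IsLimit.hom_ext h (ConcreteCategory.hom_ext _ _ fun _ => h₁)
      (ConcreteCategory.hom_ext _ _ fun _ => h₂)
  exact congrArg (fun t => t PUnit.unit) e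

end GrothLib.ArtFun
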