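import Groth.Agent.Lib.ArtFun.PowerSeries
import Groth.Prelude.Def_W4sfdMinVersal

/-!
# Functors of Artin rings: minimal versal families
-/

universe u v

namespace GrothLib.ArtFun

open _root_.ArtFun CategoryTheory IsLocalRing

variable {Λ : Type u} {k : Type u} [CommRing Λ] [Field k] [Algebra Λ k]

section Basics

variable {R S : CRing Λ k}

lemma eq_of_forall_trunc {x y : S.carrier} (h : ∀ n, (S.truncHom n).1 x = (S.truncHom n).1 y) :
    x = y := by
  haveI := S.isAdicComplete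
  refine eq_of_sub_eq_zero
    (IsHausdorff.haus (I := maximalIdeal S.carrier) inferInstance _ fun n => ?_)
  rw [SModEq.sub_mem, sub_zero, Ideal.smul_eq_mul, Ideal.mul_top]
  refine Ideal.pow_le_pow_right (Nat.le_succ n) ((truncHom_eq_zero_iff S n _).1 ?_)
  rw [map_sub, h, sub_self]

/-- A surjective endomorphism of a Noetherian ring is injective. -/
lemma injective_of_surjective_endo {A : Type u} [CommRing A] [IsNoetherianRing A] (e : A →+* A)
    (he : Function.Surjective e) : Function.Injective e := by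
  let K : ℕ →o Ideal A :=
    ⟨fun n => RingHom.ker (e ^ n), monotone_nat_of_le_succ fun n x hx => by
      rw [RingHom.mem_ker] at hx ⊢
      rw [pow_succ']
      exact (congrArg e hx).trans (map_zero e)⟩
  obtain ⟨N, hN⟩ := monotone_stabilizes_iff_noetherian.2 inferInstance K
  have hs : ∀ n, Function.Surjective (e ^ n : A →+* A) := fun n => by
    induction n with
    | zero => exact fun x => ⟨x, rfl⟩
    | succ n ih => rw [pow_succ']; exact he.comp ih
  rw [injective_iff_map_eq_zero]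
  intro x hx
  obtain ⟨y, rfl⟩ := hs N x
  have h1 : y ∈ K (N + 1) := by
    change y ∈ RingHom.ker (e ^ (N + 1))
    rw [RingHom.mem_ker, pow_succ']
    exact hx
  rw [← hN (N + 1) (Nat.le_succ N)] at h1
  exact RingHom.mem_ker.1 h1

variable {F : Art Λ k ⥤ Type v}

lemma push_toFormalElt (ξ : Family R.carrier R.res F) (f : R.carrier →ₐ[Λ] S.carrier)
    (hf : S.res.comp f = R.res) : ξ.toFormalElt.push f hf = (ξ.along f hf).toFormalElt :=
  FormalElt.ext' fun n => (ξ.natural (CRing.truncMapOfHom f hf n) (R.truncHom n)).symm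

lemma push_eq (u : FormalElt F R) (f : R.carrier →ₐ[Λ] S.carrier) (hf : S.res.comp f = R.res) :
    u.push f hf = ((familyOfFormalElt u).along f hf).toFormalElt := by
  rw [← push_toFormalElt, toFormalElt_familyOfFormalElt]

lemma app_eq_of_val_eq (ξ : Family R.carrier R.res F) {A : Art Λ k}
    {φ ψ : HomSet R.carrier R.res A} (h : φ.1 = ψ.1) : ξ.app A φ = ξ.app A ψ :=
  congrArg (ξ.app A) (Subtype.ext h)

/-- A morphism of versal families exists in both directions. -/
lemma exists_along_eq (h0 : H0 F) (ξ : Family R.carrier R.res F) (hξ : IsVersal ξ)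
    (ζ : Family S.carrier S.res F) :
    ∃ (g : R.carrier →ₐ[Λ] S.carrier) (hg : S.res.comp g = R.res), ξ.along g hg = ζ := by
  obtain ⟨g, hg, h⟩ := exists_along_toFormalElt_eq h0 R ξ hξ ζ.toFormalElt
  exact ⟨g, hg, family_ext h⟩

/-- A derivation to the residue field as a point with values in the dual numbers. -/
lemma exists_homSet_of_derivation [Algebra R.carrier k] [IsScalarTower Λ R.carrier k]
    (hres : ∀ r, algebraMap R.carrier k r = R.res r) (D : Derivation Λ R.carrier k) :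
    ∃ δ : HomSet R.carrier R.res (Art.dual Λ k),
      ∀ r, TrivSqZeroExt.snd (δ.1 r : DualNumber k) = D r := by
  have hzero : ∀ l : Λ, D (algebraMap Λ R.carrier l) = 0 := fun l => D.map_algebraMap l
  let f : R.carrier → DualNumber k := fun r => (R.res r, D r)
  refine ⟨⟨{ toFun := f
             map_one' := TrivSqZeroExt.ext (map_one R.res) (by
               change D 1 = 0
               exact D.map_one_eq_zero)
             map_mul' := fun x y => TrivSqZeroExt.ext (map_mul R.res x y) (by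
               change D (x * y) = R.res x • D y + MulOpposite.op (R.res y) • D x
               rw [D.leibniz, op_smul_eq_smul, Algebra.smul_def x, Algebra.smul_def y, hres, hres,
                 smul_eq_mul, smul_eq_mul])
             map_zero' := TrivSqZeroExt.ext (map_zero R.res) (map_zero D)
             map_add' := fun x y => TrivSqZeroExt.ext (map_add R.res x y) (map_add D x y)
             commutes' := fun l => TrivSqZeroExt.ext (R.res.commutes l) (by
               change D (algebraMap Λ R.carrier l) = (algebraMap Λ (DualNumber k) l).snd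
               rw [hzero, TrivSqZeroExt.algebraMap_eq_inl', TrivSqZeroExt.snd_inl]) },
    AlgHom.ext fun _ => rfl⟩, fun _ => rfl⟩

/-- An endomorphism of a hull is surjective. -/
lemma surjective_of_along_eq_self {ξ : Family R.carrier R.res F} (hξ : IsMiniversal ξ)
    (e : R.carrier →ₐ[Λ] R.carrier) (he : R.res.comp e = R.res) (h : ξ.along e he = ξ) :
    Function.Surjective e := by
  letI : Algebra R.carrier k := (R.res : R.carrier →+* k).toAlgebra
  haveI : IsScalarTower Λ R.carrier k :=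
    IsScalarTower.of_algebraMap_eq fun l => (R.res.commutes l).symm
  haveI := R.isAdicComplete
  have htower : IsScalarTower.toAlgHom Λ R.carrier k = R.res := AlgHom.ext fun _ => rfl
  refine surjective_of_derivation R R.res_surjective e (htower.symm ▸ he) fun D₁ D₂ hD => ?_
  obtain ⟨δ₁, h₁⟩ := exists_homSet_of_derivation (fun _ => rfl) D₁
  obtain ⟨δ₂, h₂⟩ := exists_homSet_of_derivation (fun _ => rfl) D₂
  have key : ∀ δ : HomSet R.carrier R.res (Art.dual Λ k), ∀ r, δ.1 (e r) = δ.1 r := fun δ => by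
    have e1 : ξ.app (Art.dual Λ k) ⟨δ.1.comp e, by rw [← AlgHom.comp_assoc, δ.2, he]⟩ =
        ξ.app (Art.dual Λ k) δ :=
      congrArg (fun ζ : Family R.carrier R.res F => ζ.app (Art.dual Λ k) δ) h
    exact fun r => DFunLike.congr_fun (congrArg Subtype.val (hξ.2.1 e1)) r
  exact Derivation.ext fun r => by
    rw [← h₁, ← key δ₁, h₁, hD, ← h₂, key δ₂, h₂]

/-- A hull is minimal. -/
lemma isMinimalVersal_of_isMiniversal (h0 : H0 F) {ξ : Family R.carrier R.res F}
    (hξ : IsMiniversal ξ) : ξ.IsMinimalVersal := by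
  refine ⟨hξ.1, fun R' u f hf hu => ?_⟩
  obtain ⟨g, hg, hgu⟩ := exists_along_eq h0 ξ hξ.1 (familyOfFormalElt u)
  have hfg : R.res.comp (f.comp g) = R.res := by rw [← AlgHom.comp_assoc, hf, hg]
  have h : ξ.along (f.comp g) hfg = ξ := family_ext (by
    rw [← hu, push_eq, ← hgu]
    rfl)
  exact fun y => by
    obtain ⟨x, hx⟩ := surjective_of_along_eq_self hξ _ hfg h y
    exact ⟨g x, hx⟩

/-- Endomorphisms of minimal versal families are bijective. -/
lemma bijective_of_isMinimalVersal {ξ : Family R.carrier R.res F} (hξ : ξ.IsMinimalVersal)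
    (e : R.carrier →ₐ[Λ] R.carrier) (he : R.res.comp e = R.res) (h : ξ.along e he = ξ) :
    Function.Bijective e := by
  have hs := hξ.2 R ξ.toFormalElt e he (by rw [push_toFormalElt, h])
  exact ⟨injective_of_surjective_endo (e : R.carrier →+* R.carrier) hs, hs⟩

/-- Minimal versal families are unique up to isomorphism. -/
lemma exists_algEquiv_of_isMinimalVersal (h0 : H0 F) {ξ : Family R.carrier R.res F}
    {ζ : Family S.carrier S.res F} (hξ : ξ.IsMinimalVersal) (hζ : ζ.IsMinimalVersal) :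
    ∃ (e : R.carrier ≃ₐ[Λ] S.carrier) (he : S.res.comp (e : R.carrier →ₐ[Λ] S.carrier) = R.res),
      ξ.along (e : R.carrier →ₐ[Λ] S.carrier) he = ζ := by
  obtain ⟨g, hg, hgζ⟩ := exists_along_eq h0 ξ hξ.1 ζ
  obtain ⟨g', hg', hgξ⟩ := exists_along_eq h0 ζ hζ.1 ξ
  have h1 := bijective_of_isMinimalVersal hξ (g'.comp g) (by rw [← AlgHom.comp_assoc, hg', hg])
    (by
      conv_rhs => rw [← hgξ]
      rw [← hgζ]
      rfl)
  have h2 := bijective_of_isMinimalVersal hζ (g.comp g') (by rw [← AlgHom.comp_assoc, hg, hg'])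
    (by
      conv_rhs => rw [← hgζ]
      rw [← hgξ]
      rfl)
  have hb : Function.Bijective g :=
    ⟨Function.Injective.of_comp (f := g') h1.1, Function.Surjective.of_comp (g := g') h2.2⟩
  exact ⟨AlgEquiv.ofBijective g hb, hg, hgζ⟩

/-- Transport of miniversality along an isomorphism. -/
lemma isMiniversal_along {ξ : Family R.carrier R.res F} (hξ : IsMiniversal ξ)
    (e : R.carrier ≃ₐ[Λ] S.carrier) (he : S.res.comp (e : R.carrier →ₐ[Λ] S.carrier) = R.res) :
    IsMiniversal (ξ.along (e : R.carrier →ₐ[Λ] S.carrier) he) := by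
  have he' : R.res.comp (e.symm : S.carrier →ₐ[Λ] R.carrier) = S.res := by
    rw [← he, AlgHom.comp_assoc]
    exact AlgHom.ext fun x => congrArg S.res (e.apply_symm_apply x)
  let to' : ∀ {A : Art Λ k}, HomSet R.carrier R.res A → HomSet S.carrier S.res A := fun φ =>
    ⟨φ.1.comp (e.symm : S.carrier →ₐ[Λ] R.carrier), by rw [← AlgHom.comp_assoc, φ.2, he']⟩
  have hto : ∀ {A : Art Λ k} (φ : HomSet R.carrier R.res A),
      (ξ.along (e : R.carrier →ₐ[Λ] S.carrier) he).app A (to' φ) = ξ.app A φ := fun φ => by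
    rw [along_app]
    exact app_eq_of_val_eq ξ (AlgHom.ext fun x => congrArg φ.1 (e.symm_apply_apply x))
  refine ⟨fun B A μ hμ φ y hy => ?_, fun φ ψ h => ?_, fun y => ?_⟩
  · rw [along_app] at hy
    obtain ⟨ψ, hψ₁, hψ₂⟩ := hξ.1 μ hμ _ y hy
    refine ⟨to' ψ, Subtype.ext (AlgHom.ext fun x => ?_), (hto ψ).trans hψ₂⟩
    exact (DFunLike.congr_fun (congrArg Subtype.val hψ₁) (e.symm x)).trans
      (congrArg φ.1 (e.apply_symm_apply x))
  · rw [along_app, along_app] at h
    refine Subtype.ext (AlgHom.ext fun x => ?_)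
    have h' := DFunLike.congr_fun (congrArg Subtype.val (hξ.2.1 h)) (e.symm x)
    simpa using h'
  · obtain ⟨φ, rfl⟩ := hξ.2.2 y
    exact ⟨to' φ, hto φ⟩

end Basics

section Fitting

variable [IsNoetherianRing Λ] [Module.Finite Λ k]

/-- `k` has finite length over `Λ`. -/
lemma isArtinian_residue : IsArtinian Λ k := by
  let L := (algebraMap Λ k).range
  letI : Algebra Λ L := (algebraMap Λ k).rangeRestrict.toAlgebra
  haveI : IsScalarTower Λ L k := IsScalarTower.of_algebraMap_eq fun _ => rfl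
  have hfin : Module.Finite L k := Module.Finite.of_restrictScalars_finite Λ L k
  haveI : Algebra.IsIntegral L k := inferInstance
  have hf : IsField L :=
    isField_of_isIntegral_of_isField (R := L) (S := k) Subtype.val_injective (Field.toIsField k)
  letI : Field L := hf.toField
  haveI := hfin
  haveI : IsArtinian L k := inferInstance
  exact isArtinian_of_surjective_algebraMap (R := L) (S := Λ)
    (algebraMap Λ k).rangeRestrict_surjective

/-- Objects have finite length over `Λ`. -/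
lemma isArtinian_art (A : Art Λ k) : IsArtinian Λ A := by
  suffices H : ∀ ⦃A B : Art Λ k⦄ (f : B ⟶ A), Function.Surjective f →
      IsArtinian Λ A → IsArtinian Λ B from
    H (Art.toBase A) (toBase_surjective A) (isArtinian_residue (Λ := Λ) (k := k))
  refine surj_induction (fun A B _ => IsArtinian Λ A → IsArtinian Λ B) ?_ ?_
    (fun _ _ _ _ _ _ _ hp hq h => hp (hq h))
  · intro A B e he h
    exact isArtinian_of_injective e.toAlgHom.toLinearMap (bijective_of_isIso e).1
  · intro A B p hp h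
    obtain ⟨t, hker, -, htm, hpt⟩ := smallExt_exists_gen hp
    choose s hs using B.res_surjective
    have hwd : ∀ a b : B, B.res a = B.res b → a * t = b * t := fun a b e =>
      mul_eq_mul_of_res_eq hp.2.2.2 e (mem_ker_iff.2 hpt)
    let ι : k →ₗ[Λ] B :=
      { toFun := fun c => s c * t
        map_add' := fun c d => by
          rw [← add_mul]
          exact hwd _ _ (by rw [map_add, hs, hs, hs])
        map_smul' := fun l c => by
          rw [RingHom.id_apply, ← smul_mul_assoc]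
          exact hwd _ _ (by rw [map_smul, hs, hs]) }
    haveI := isArtinian_residue (Λ := Λ) (k := k)
    haveI := h
    refine isArtinian_of_range_eq_ker ι p.toAlgHom.toLinearMap ?_
    ext x
    refine ⟨?_, fun hx => ?_⟩
    · rintro ⟨c, rfl⟩
      exact (map_mul p.toAlgHom (s c) t).trans
        (by rw [show p.toAlgHom t = 0 from hpt, mul_zero])
    · obtain ⟨a, rfl⟩ : ∃ a, a * t = x :=
        Ideal.mem_span_singleton'.1 (hker ▸ mem_ker_iff.2 hx)
      exact ⟨B.res a, hwd _ _ (hs _)⟩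

/-- Powers of an endomorphism are morphisms. -/
lemma exists_iterate {A : Art Λ k} (ε : A ⟶ A) (F : Art Λ k ⥤ Type v) :
    ∀ n, ∃ g : A ⟶ A, (∀ a, g a = (⇑ε.toAlgHom)^[n] a) ∧
      ∀ x : F.obj A, F.map ε x = x → F.map g x = x
  | 0 => ⟨𝟙 A, fun _ => rfl, fun x _ => map_id' F x⟩
  | n + 1 => by
    obtain ⟨g, hg, hF⟩ := exists_iterate ε F n
    refine ⟨g ≫ ε, fun a => ?_, fun x hx => by rw [← map_map, hF x hx, hx]⟩
    rw [Function.iterate_succ_apply', ← hg]
    rfl

/-- The projection to the stable image of an endomorphism. -/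
lemma exists_proj {A : Art Λ k} (ε : A ⟶ A) :
    ∃ π : A ⟶ A, (∀ a n, π a ∈ Set.range (⇑ε.toAlgHom)^[n]) ∧
      (∀ a b, (∀ n, b ∈ Set.range (⇑ε.toAlgHom)^[n]) →
        (∃ n, (⇑ε.toAlgHom)^[n] b = (⇑ε.toAlgHom)^[n] a) → π a = b) ∧
      (∀ a, ∃ n, (⇑ε.toAlgHom)^[n] (π a) = (⇑ε.toAlgHom)^[n] a) ∧
      ∀ (F : Art Λ k ⥤ Type v) (x : F.obj A), F.map ε x = x → F.map π x = x := by
  haveI := finite_art A
  haveI : IsNoetherian Λ A := isNoetherian_of_isNoetherianRing_of_finite Λ A
  haveI := isArtinian_art A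
  let f : Module.End Λ A := ε.toAlgHom.toLinearMap
  obtain ⟨N, hN⟩ := Filter.eventually_atTop.1
    (f.eventually_isCompl_ker_pow_range_pow.and f.eventually_iInf_range_pow_eq)
  have hpow : ∀ n a, (f ^ n) a = (⇑ε.toAlgHom)^[n] a := fun n a => Module.End.pow_apply f n a
  have huniq : ∀ b₁ b₂ : A, (∀ n, b₁ ∈ Set.range (⇑ε.toAlgHom)^[n]) →
      (∀ n, b₂ ∈ Set.range (⇑ε.toAlgHom)^[n]) →
      (∃ n, (⇑ε.toAlgHom)^[n] b₁ = (⇑ε.toAlgHom)^[n] b₂) → b₁ = b₂ := by
    rintro b₁ b₂ h₁ h₂ ⟨n, hn⟩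
    have hc := (hN (max n N) (le_max_right n N)).1.disjoint
    refine eq_of_sub_eq_zero (Submodule.disjoint_def.1 hc _ ?_ ?_)
    · obtain ⟨j, hj⟩ := Nat.exists_eq_add_of_le (le_max_left n N)
      rw [LinearMap.mem_ker, map_sub, hpow, hpow, hj, add_comm, Function.iterate_add_apply,
        Function.iterate_add_apply, hn, sub_self]
    · obtain ⟨c, hc⟩ := h₁ (max n N)
      obtain ⟨d, hd⟩ := h₂ (max n N)
      exact ⟨c - d, by rw [map_sub, hpow, hpow, hc, hd]⟩
  have hex : ∀ a : A, ∃ b, (∀ n, b ∈ Set.range (⇑ε.toAlgHom)^[n]) ∧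
      ∃ n, (⇑ε.toAlgHom)^[n] b = (⇑ε.toAlgHom)^[n] a := fun a => by
    have hdec : a ∈ LinearMap.ker (f ^ N) ⊔ LinearMap.range (f ^ N) :=
      (hN N le_rfl).1.codisjoint.eq_top ▸ Submodule.mem_top
    obtain ⟨c, hc, b, hb, rfl⟩ := Submodule.mem_sup.1 hdec
    refine ⟨b, fun n => ?_, N, ?_⟩
    · rw [← (hN N le_rfl).2, Submodule.mem_iInf] at hb
      obtain ⟨z, hz⟩ := hb n
      exact ⟨z, by rw [← hpow]; exact hz⟩
    · rw [← hpow, ← hpow, map_add, LinearMap.mem_ker.1 hc, zero_add]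
  choose p hp₁ hp₂ using hex
  have hchar : ∀ a b, (∀ n, b ∈ Set.range (⇑ε.toAlgHom)^[n]) →
      (∃ n, (⇑ε.toAlgHom)^[n] b = (⇑ε.toAlgHom)^[n] a) → p a = b := fun a b hb ⟨n, hn⟩ => by
    obtain ⟨m, hm⟩ := hp₂ a
    refine huniq _ _ (hp₁ a) hb ⟨m + n, ?_⟩
    conv_lhs => rw [add_comm, Function.iterate_add_apply, hm, ← Function.iterate_add_apply,
      add_comm, Function.iterate_add_apply]
    rw [← hn, ← Function.iterate_add_apply]
  have hit : ∀ n, ∃ φ : A →ₐ[Λ] A, ⇑φ = (⇑ε.toAlgHom)^[n] := fun n => by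
    induction n with
    | zero => exact ⟨AlgHom.id Λ A, rfl⟩
    | succ n ih =>
      obtain ⟨φ, hφ⟩ := ih
      exact ⟨ε.toAlgHom.comp φ, by rw [Function.iterate_succ', AlgHom.coe_comp, hφ]⟩
  choose P hP using hit
  have hp₂' : ∀ a b, ∃ n, (P n) (p a) = (P n) a ∧ (P n) (p b) = (P n) b := fun a b => by
    obtain ⟨n, hn⟩ := hp₂ a
    obtain ⟨m, hm⟩ := hp₂ b
    refine ⟨m + n, ?_, ?_⟩
    · rw [hP, Function.iterate_add_apply, hn, Function.iterate_add_apply]
    · rw [hP, add_comm, Function.iterate_add_apply, hm, Function.iterate_add_apply]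
  let π₀ : A →ₐ[Λ] A :=
    { toFun := p
      map_one' := hchar 1 1 (fun n => ⟨1, by rw [← hP, map_one]⟩) ⟨0, rfl⟩
      map_mul' := fun a b => hchar _ _ (fun n => by
          obtain ⟨x, hx⟩ := hp₁ a n
          obtain ⟨y, hy⟩ := hp₁ b n
          exact ⟨x * y, by rw [← hP] at hx hy ⊢; rw [map_mul, hx, hy]⟩) (by
          obtain ⟨n, h₁, h₂⟩ := hp₂' a b
          exact ⟨n, by rw [← hP, map_mul, map_mul, h₁, h₂]⟩)
      map_zero' := hchar 0 0 (fun n => ⟨0, by rw [← hP, map_zero]⟩) ⟨0, rfl⟩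
      map_add' := fun a b => hchar _ _ (fun n => by
          obtain ⟨x, hx⟩ := hp₁ a n
          obtain ⟨y, hy⟩ := hp₁ b n
          exact ⟨x + y, by rw [← hP] at hx hy ⊢; rw [map_add, hx, hy]⟩) (by
          obtain ⟨n, h₁, h₂⟩ := hp₂' a b
          exact ⟨n, by rw [← hP, map_add, map_add, h₁, h₂]⟩)
      commutes' := fun l => hchar _ _ (fun n => ⟨algebraMap Λ A l, by rw [← hP, AlgHom.commutes]⟩)
        ⟨0, rfl⟩ }
  have hres : A.res.comp π₀ = A.res := AlgHom.ext fun a => by
    obtain ⟨n, hn⟩ := hp₂ a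
    obtain ⟨g, hg, -⟩ := exists_iterate ε (𝟭 (Art Λ k) ⋙ hR A.carrier A.res) n
    change A.res (p a) = A.res a
    rw [← Art.res_app g (p a), hg, hn, ← hg, Art.res_app]
  refine ⟨Art.homMk π₀ hres, hp₁, hchar, hp₂, fun F x hx => ?_⟩
  obtain ⟨g, hg, hgF⟩ := exists_iterate ε F N
  have e : g ≫ Art.homMk π₀ hres = g := hom_ext_apply fun a => by
    refine hchar _ _ (fun n => ?_) ⟨0, rfl⟩
    have hmem : g a ∈ LinearMap.range (f ^ N) := ⟨a, by rw [hpow, hg]⟩
    rw [← (hN N le_rfl).2, Submodule.mem_iInf] at hmem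
    obtain ⟨z, hz⟩ := hmem n
    exact ⟨z, by rw [← hpow]; exact hz⟩
  calc F.map (Art.homMk π₀ hres) x = F.map (Art.homMk π₀ hres) (F.map g x) := by rw [hgF x hx]
    _ = F.map g x := by rw [map_map, e]
    _ = x := hgF x hx

end Fitting

section Split

variable [IsNoetherianRing Λ] [Module.Finite Λ k] {R : CRing Λ k} {F : Art Λ k ⥤ Type v}

/-- An idempotent lying under a given endomorphism of a family. -/
lemma exists_idempotent (ξ : Family R.carrier R.res F) (e : R.carrier →ₐ[Λ] R.carrier)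
    (he : R.res.comp e = R.res) (h : ξ.along e he = ξ) :
    ∃ (p : R.carrier →ₐ[Λ] R.carrier) (hp : R.res.comp p = R.res), ξ.along p hp = ξ ∧
      p.comp p = p ∧ ∀ x, ∃ y, (R.truncHom 1).1 (p x) = (R.truncHom 1).1 (e y) := by
  let ε : ∀ q, R.trunc q ⟶ R.trunc q := CRing.truncMapOfHom e he
  choose π hπ₁ hπ₂ hπ₃ hπ₄ using fun q => exists_proj.{u, v} (ε q)
  have hεt : ∀ q x, (ε q) ((R.truncHom q).1 x) = (R.truncHom q).1 (e x) := fun _ _ => rfl
  have hsemi : ∀ q n a, (R.truncMap q).toAlgHom ((⇑(ε (q + 1)).toAlgHom)^[n] a) =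
      (⇑(ε q).toAlgHom)^[n] ((R.truncMap q).toAlgHom a) := fun q n a => by
    refine Function.Semiconj.iterate_right (f := ⇑(R.truncMap q).toAlgHom) (fun a => ?_) n a
    obtain ⟨x, rfl⟩ := truncHom_surjective R (q + 1) a
    rfl
  obtain ⟨p, hp, hpn⟩ := exists_algHom_of_trunc (fun q => HomSet.map (π q) (R.truncHom q)) fun q => by
    refine homSet_ext fun x => ?_
    refine (hπ₂ q _ _ (fun n => ?_) ?_).symm
    · obtain ⟨z, hz⟩ := hπ₁ (q + 1) ((R.truncHom (q + 1)).1 x) n
      exact ⟨(R.truncMap q).toAlgHom z, by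
        rw [← hsemi]
        exact congrArg (R.truncMap q).toAlgHom hz⟩
    · obtain ⟨n, hn⟩ := hπ₃ (q + 1) ((R.truncHom (q + 1)).1 x)
      exact ⟨n, (hsemi q n _).symm.trans ((congrArg (R.truncMap q).toAlgHom hn).trans (hsemi q n _))⟩
  have hp' : ∀ q x, (R.truncHom q).1 (p x) = (π q) ((R.truncHom q).1 x) := fun q x =>
    DFunLike.congr_fun (hpn q) x
  refine ⟨p, hp, family_ext (FormalElt.ext' fun q => ?_), AlgHom.ext fun x => ?_, fun x => ?_⟩
  · rw [along_trunc_app]
    rw [app_eq_of_val_eq ξ (ψ := HomSet.map (π q) (R.truncHom q)) (hpn q), ξ.natural]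
    refine hπ₄ q F _ ?_
    rw [← ξ.natural]
    exact congrArg (fun ζ : Family R.carrier R.res F => ζ.app (R.trunc q) (R.truncHom q)) h
  · refine eq_of_forall_trunc fun q => ?_
    rw [AlgHom.comp_apply, hp', hp']
    exact hπ₂ q _ _ (fun n => hπ₁ q _ n) ⟨0, rfl⟩
  · obtain ⟨z, hz⟩ := hπ₁ 1 ((R.truncHom 1).1 x) 1
    obtain ⟨y, rfl⟩ := truncHom_surjective R 1 z
    exact ⟨y, by rw [hp', ← hz]; rfl⟩

/-- Every versal family retracts onto a minimal versal one. -/
lemma exists_retract_minimalVersal (h0 : H0 F) (ξ : Family R.carrier R.res F) (hξ : IsVersal ξ) :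
    ∃ (R' : CRing Λ k) (π : R.carrier →ₐ[Λ] R'.carrier) (hπ : R'.res.comp π = R.res)
      (j : R'.carrier →ₐ[Λ] R.carrier) (hj : R.res.comp j = R'.res),
      π.comp j = AlgHom.id Λ R'.carrier ∧ (ξ.along π hπ).IsMinimalVersal ∧
        (ξ.along π hπ).along j hj = ξ := by
  haveI := isArtinian_art (R.trunc 1)
  let range₁ : (R.carrier →ₐ[Λ] R.carrier) → Submodule Λ (R.trunc 1) := fun e =>
    LinearMap.range ((R.truncHom 1).1.comp e).toLinearMap
  obtain ⟨M, ⟨e, he, heξ, rfl⟩, hmin⟩ :=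
    (IsWellFounded.wf (r := ((· < ·) : Submodule Λ (R.trunc 1) → _ → Prop))).has_min
      {M | ∃ (e : R.carrier →ₐ[Λ] R.carrier) (he : R.res.comp e = R.res),
        ξ.along e he = ξ ∧ range₁ e = M}
      ⟨_, AlgHom.id Λ _, AlgHom.comp_id _, rfl, rfl⟩
  obtain ⟨p, hp, hpξ, hpp, hpe⟩ := exists_idempotent ξ e he heξ
  have hJ : RingHom.ker p ≤ maximalIdeal R.carrier := fun x hx => by
    rw [CRing.mem_maximalIdeal_iff, ← hp, AlgHom.comp_apply, RingHom.mem_ker.1 hx, map_zero]
  obtain ⟨R', π, hπ, hπs, hπk⟩ := exists_cring_quot R (RingHom.ker p) hJ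
  obtain ⟨j, hj'⟩ := exists_factor_algHom π hπs p fun x hx => RingHom.mem_ker.1 (hπk.le hx)
  have hjπ : ∀ x, j (π x) = p x := DFunLike.congr_fun hj'
  have hj : R.res.comp j = R'.res := AlgHom.ext fun a => by
    obtain ⟨x, rfl⟩ := hπs a
    rw [AlgHom.comp_apply, hjπ, ← AlgHom.comp_apply R.res p, hp, ← hπ, AlgHom.comp_apply]
  have hπj : π.comp j = AlgHom.id Λ R'.carrier := AlgHom.ext fun a => by
    obtain ⟨x, rfl⟩ := hπs a
    rw [AlgHom.comp_apply, hjπ, AlgHom.id_apply, ← sub_eq_zero, ← map_sub, ← RingHom.mem_ker, hπk,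
      RingHom.mem_ker, map_sub, ← AlgHom.comp_apply p p, hpp, sub_self]
  have halong : (ξ.along π hπ).along j hj = ξ := by
    refine Eq.trans ?_ hpξ
    refine family_ext (FormalElt.ext' fun q => ?_)
    exact app_eq_of_val_eq ξ (AlgHom.ext fun x => congrArg (R.truncHom q).1 (hjπ x))
  refine ⟨R', π, hπ, j, hj, hπj, ⟨fun B A μ hμ φ y hy => ?_, fun R'' w f hf hw => ?_⟩, halong⟩
  · rw [along_app] at hy
    obtain ⟨ψ, hψ₁, hψ₂⟩ := hξ μ hμ _ y hy
    refine ⟨⟨ψ.1.comp j, by rw [← AlgHom.comp_assoc, ψ.2, hj]⟩, Subtype.ext ?_, ?_⟩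
    · change μ.toAlgHom.comp (ψ.1.comp j) = φ.1
      rw [← AlgHom.comp_assoc, show μ.toAlgHom.comp ψ.1 = φ.1.comp π from congrArg Subtype.val hψ₁,
        AlgHom.comp_assoc, hπj, AlgHom.comp_id]
    · rw [along_app]
      refine Eq.trans ?_ hψ₂
      refine Eq.trans ?_
        (congrArg (fun ζ : Family R.carrier R.res F => ζ.app B ψ) hpξ)
      rw [along_app]
      exact app_eq_of_val_eq ξ (AlgHom.ext fun x => congrArg ψ.1 (hjπ x))
  · obtain ⟨g, hg, hgw⟩ := exists_along_eq h0 ξ hξ (familyOfFormalElt w)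
    let e' : R.carrier →ₐ[Λ] R.carrier := j.comp (f.comp g)
    have he' : R.res.comp e' = R.res := by rw [← AlgHom.comp_assoc, hj, ← AlgHom.comp_assoc, hf, hg]
    have he'ξ : ξ.along e' he' = ξ := by
      refine Eq.trans ?_ halong
      rw [push_eq, ← hgw] at hw
      rw [← family_ext hw]
      rfl
    have hle : range₁ e' ≤ range₁ p := by
      rintro _ ⟨x, rfl⟩
      obtain ⟨y, hy⟩ := hπs (f (g x))
      exact ⟨y, congrArg (R.truncHom 1).1 ((hjπ y).symm.trans (congrArg j hy))⟩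
    have hpe' : range₁ p ≤ range₁ e := by
      rintro _ ⟨x, rfl⟩
      obtain ⟨y, hy⟩ := hpe x
      exact ⟨y, hy.symm⟩
    have heq : range₁ e' = range₁ e := by
      rcases (hle.trans hpe').eq_or_lt with h | h
      · exact h
      · exact absurd h (hmin _ ⟨e', he', he'ξ, rfl⟩)
    haveI := R'.isAdicComplete
    refine surjective_of_cotangent' R'' R'.res_surjective f hf ?_
    intro a ha
    obtain ⟨x, hx⟩ : (R.truncHom 1).1 (j a) ∈ range₁ e' := by
      rw [heq]
      refine hpe' ?_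
      obtain ⟨z, rfl⟩ := hπs a
      exact ⟨z, congrArg (R.truncHom 1).1 (hjπ z).symm⟩
    have h2 : j a - e' x ∈ maximalIdeal R.carrier ^ 2 := by
      refine (truncHom_eq_zero_iff R 1 _).1 ?_
      rw [map_sub, sub_eq_zero]
      exact hx.symm
    have h3 : a - f (g x) ∈ maximalIdeal R'.carrier ^ 2 := by
      have h4 : (maximalIdeal R.carrier ^ 2).map π ≤ maximalIdeal R'.carrier ^ 2 := by
        rw [Ideal.map_pow]
        exact Ideal.pow_right_mono
          (Ideal.map_le_iff_le_comap.2 (CRing.maximalIdeal_le_comap π hπ)) 2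
      have h5 := h4 (Ideal.mem_map_of_mem π h2)
      rwa [map_sub, ← AlgHom.comp_apply π j, hπj, show π (e' x) = f (g x) from
        DFunLike.congr_fun hπj (f (g x)), AlgHom.id_apply] at h5
    rw [← sub_add_cancel a (f (g x)), add_comm]
    refine Submodule.mem_sup.2 ⟨_, Ideal.mem_map_of_mem f ?_, _, h3, rfl⟩
    rw [CRing.mem_maximalIdeal_iff, ← AlgHom.comp_apply R''.res g, hg]
    have hxm : R'.res (f (g x)) = 0 := by
      have := (CRing.mem_maximalIdeal_iff R' _).1
        (Ideal.pow_le_self two_ne_zero h3)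
      rwa [map_sub, (CRing.mem_maximalIdeal_iff R' a).1 ha, zero_sub, neg_eq_zero] at this
    rwa [← AlgHom.comp_apply R'.res f, hf, ← AlgHom.comp_apply R''.res g, hg] at hxm

/-- Under separability a minimal versal family is miniversal. -/
lemma isMiniversal_of_isMinimalVersal (hsep : SimpleRoots Λ k) (h0 : H0 F) (h2 : Heps F)
    (ξ : Family R.carrier R.res F) (hξ : ξ.IsMinimalVersal) : IsMiniversal ξ := by
  obtain ⟨T⟩ := nonempty_tangentStr h0 h2
  letI := T
  have hs := isVersal_surjective ξ hξ.1 h0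
  obtain ⟨⟨R₀, ξ₀, hξ₀⟩⟩ := hasHull_of_conditions hsep h0 (s1_of_versal ξ hξ.1 hs) h2
    (hfin_of_versal h0 h2 ξ hξ.1)
  obtain ⟨e, he, heξ⟩ :=
    exists_algEquiv_of_isMinimalVersal h0 (isMinimalVersal_of_isMiniversal h0 hξ₀) hξ
  exact heξ ▸ isMiniversal_along hξ₀ e he

end Split

end GrothLib.ArtFun
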