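import Groth.Agent.Lib.ArtFun.Split
import Groth.Prelude.Def_CAlgX

/-!
# Functors of Artin rings: smoothness of `h_R`
-/

universe u v

namespace GrothLib.ArtFun

open _root_.ArtFun CategoryTheory IsLocalRing

variable {Λ : Type u} {k : Type u} [CommRing Λ] [Field k] [Algebra Λ k]

/-- Formal smoothness gives smoothness of `h_R`. -/
lemma isSmoothFunctor_of_adicFormallySmooth (R : CRing Λ k)
    (h : CAlgX.IsAdicFormallySmooth Λ R.carrier (maximalIdeal R.carrier)) :
    IsSmoothFunctor (hR R.carrier R.res) := by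
  refine isSmoothFunctor_of_small fun B A μ hμ φ => ?_
  let J : Ideal B := RingHom.ker μ.toAlgHom
  have hJ : J ^ 2 = ⊥ := le_bot_iff.1 ((pow_two J).le.trans
    ((Ideal.mul_mono_left (ker_le_maximalIdeal μ)).trans hμ.2.2.2.le))
  let e : (B ⧸ J) ≃ₐ[Λ] A := Ideal.quotientKerAlgEquivOfSurjective hμ.1
  obtain ⟨n, hn⟩ := exists_mpow_eq_zero (φ : HomSet R.carrier R.res A)
  obtain ⟨χ, hχ⟩ := h B J hJ (e.symm.toAlgHom.comp φ.1) ⟨n + 1, fun x hx => by
    rw [AlgHom.comp_apply, hn x hx, map_zero]⟩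
  have hμχ : μ.toAlgHom.comp χ = φ.1 := AlgHom.ext fun r => by
    have h1 : e (Ideal.Quotient.mk J (χ r)) = φ.1 r :=
      (congrArg e (DFunLike.congr_fun hχ r)).trans (e.apply_symm_apply _)
    exact h1
  refine ⟨⟨χ, ?_⟩, Subtype.ext hμχ⟩
  rw [← μ.res_comp, AlgHom.comp_assoc, hμχ, φ.2]

/-- The quotient of an algebra by a power of the kernel of its augmentation, as an object. -/
lemma exists_art_quot {P : Type u} [CommRing P] [Algebra Λ P] [IsNoetherianRing P]
    (f : P →ₐ[Λ] k) (hf : Function.Surjective f) (N : ℕ) :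
    ∃ (Q : Art Λ k) (q : P →ₐ[Λ] Q), Q.res.comp q = f ∧ Function.Surjective q ∧
      RingHom.ker q = RingHom.ker f ^ (N + 1) := by
  let I := RingHom.ker f
  haveI hI : I.IsMaximal := RingHom.ker_isMaximal_of_surjective (f : P →+* k) hf
  let K := I ^ (N + 1)
  have hKI : K ≤ I := Ideal.pow_le_self (Nat.succ_ne_zero N)
  have hmap : (I.map (Ideal.Quotient.mk K)) ^ (N + 1) = ⊥ := by
    rw [← Ideal.map_pow]
    exact Ideal.map_quotient_self _
  have hmax : (I.map (Ideal.Quotient.mk K)).IsMaximal :=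
    Ideal.IsMaximal.map_of_surjective_of_ker_le Ideal.Quotient.mk_surjective (by rwa [Ideal.mk_ker])
  haveI : IsLocalRing (P ⧸ K) := by
    refine IsLocalRing.of_unique_max_ideal ⟨_, hmax, fun M hM => (hmax.eq_of_le hM.ne_top ?_).symm⟩
    exact hM.isPrime.le_of_pow_le (hmap.le.trans bot_le)
  haveI : IsArtinianRing (P ⧸ K) := by
    rw [isArtinianRing_iff_isNilpotent_maximalIdeal, ← IsLocalRing.eq_maximalIdeal hmax]
    exact ⟨N + 1, hmap⟩
  let res : P ⧸ K →ₐ[Λ] k := Ideal.Quotient.liftₐ K f fun a ha => RingHom.mem_ker.1 (hKI ha)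
  exact ⟨Art.of (P ⧸ K) res (fun c => by
      obtain ⟨p, rfl⟩ := hf c
      exact ⟨Ideal.Quotient.mk K p, rfl⟩),
    Ideal.Quotient.mkₐ Λ K, AlgHom.ext fun _ => rfl, Ideal.Quotient.mk_surjective,
    Ideal.Quotient.mkₐ_ker Λ K⟩

section Presentation

variable [IsNoetherianRing Λ] [Module.Finite Λ k]

/-- A coefficient ring is a quotient of the completion of a polynomial ring. -/
lemma exists_presentation (R : CRing Λ k) :
    ∃ (n : ℕ) (x : Fin n → R.carrier) (S₀ : CRing Λ k)
      (of : MvPolynomial (Fin n) Λ →ₐ[Λ] S₀.carrier) (π : S₀.carrier →ₐ[Λ] R.carrier),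
      S₀.res.comp of = R.res.comp (MvPolynomial.aeval x) ∧
      (∀ {A : Art Λ k} (ψ : MvPolynomial (Fin n) Λ →ₐ[Λ] A),
        A.res.comp ψ = R.res.comp (MvPolynomial.aeval x) →
          ∃! φ : HomSet S₀.carrier S₀.res A, φ.1.comp of = ψ) ∧
      R.res.comp π = S₀.res ∧ π.comp of = MvPolynomial.aeval x ∧ Function.Surjective π ∧
      Function.Surjective (R.res.comp (MvPolynomial.aeval x)) := by
  haveI := finite_art (R.trunc 1)
  obtain ⟨n, g, hg⟩ := Module.Finite.exists_fin (R := Λ) (M := R.trunc 1)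
  choose x hx using fun i => truncHom_surjective R 1 (g i)
  have hfs : Function.Surjective (R.res.comp (MvPolynomial.aeval x)) := fun c => by
    obtain ⟨a, rfl⟩ := R.res_surjective c
    obtain ⟨l, hl⟩ := (Submodule.mem_span_range_iff_exists_fun Λ).1
      (show (R.truncHom 1).1 a ∈ Submodule.span Λ (Set.range g) from hg ▸ trivial)
    refine ⟨∑ i, l i • MvPolynomial.X i, ?_⟩
    rw [AlgHom.comp_apply, map_sum, ← res_of_homSet (R.truncHom 1) a, ← hl, map_sum, map_sum]
    refine Finset.sum_congr rfl fun i _ => ?_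
    rw [map_smul, map_smul, map_smul, MvPolynomial.aeval_X, ← res_of_homSet (R.truncHom 1) (x i), hx]
  obtain ⟨S₀, of, hof, huniv⟩ := exists_completion _ (R.res.comp (MvPolynomial.aeval x)) hfs
  have hψ : ∀ q, (R.trunc q).res.comp ((R.truncHom q).1.comp (MvPolynomial.aeval x)) =
      R.res.comp (MvPolynomial.aeval x) := fun q => by
    rw [← AlgHom.comp_assoc, (R.truncHom q).2]
  choose a ha _ using fun q => huniv _ (hψ q)
  have hmap : ∀ q, HomSet.map (R.truncMap q) (a (q + 1)) = a q := fun q =>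
    (huniv _ (hψ q)).unique (by
      change ((R.truncMap q).toAlgHom.comp (a (q + 1)).1).comp of = _
      rw [AlgHom.comp_assoc, ha, ← AlgHom.comp_assoc]
      exact congrArg (fun f => AlgHom.comp f (MvPolynomial.aeval x))
        (congrArg Subtype.val (CRing.truncMap_truncHom R q))) (ha q)
  obtain ⟨π, hπ, hπq⟩ := exists_algHom_of_trunc a hmap
  have hπof : π.comp of = MvPolynomial.aeval x := AlgHom.ext fun p =>
    eq_of_forall_trunc fun q =>
      (DFunLike.congr_fun (hπq q) (of p)).trans (DFunLike.congr_fun (ha q) p)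
  haveI := R.isAdicComplete
  refine ⟨n, x, S₀, of, π, hof, huniv, hπ, hπof, ?_, hfs⟩
  refine surjective_of_cotangent' S₀ R.res_surjective π hπ fun b hb => ?_
  obtain ⟨l, hl⟩ := (Submodule.mem_span_range_iff_exists_fun Λ).1
    (show (R.truncHom 1).1 b ∈ Submodule.span Λ (Set.range g) from hg ▸ trivial)
  let z : S₀.carrier := ∑ i, l i • of (MvPolynomial.X i)
  have hz : b - π z ∈ maximalIdeal R.carrier ^ 2 := by
    refine (truncHom_eq_zero_iff R 1 _).1 ?_
    rw [map_sub, sub_eq_zero, map_sum, map_sum, ← hl]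
    refine Finset.sum_congr rfl fun i _ => ?_
    rw [map_smul, map_smul, ← AlgHom.comp_apply π of, hπof, MvPolynomial.aeval_X, hx]
  rw [← sub_add_cancel b (π z), add_comm]
  refine Submodule.mem_sup.2 ⟨_, Ideal.mem_map_of_mem π ?_, _, hz, rfl⟩
  have h1 := (CRing.mem_maximalIdeal_iff R _).1 (Ideal.pow_le_self two_ne_zero hz)
  rw [map_sub, (CRing.mem_maximalIdeal_iff R b).1 hb, zero_sub, neg_eq_zero,
    ← AlgHom.comp_apply R.res π, hπ] at h1
  exact (CRing.mem_maximalIdeal_iff S₀ z).2 h1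

/-- Smoothness of `h_R` gives formal smoothness. -/
lemma adicFormallySmooth_of_isSmoothFunctor (R : CRing Λ k)
    (hsm : IsSmoothFunctor (hR R.carrier R.res)) :
    CAlgX.IsAdicFormallySmooth Λ R.carrier (maximalIdeal R.carrier) := by
  intro A _ _ J hJ ψ ⟨m, hm⟩
  obtain ⟨n, x, S₀, of, π, hof, huniv, hπ, hπof, hπs, hfs⟩ := exists_presentation R
  let P := MvPolynomial (Fin n) Λ
  let f : P →ₐ[Λ] k := R.res.comp (MvPolynomial.aeval x)
  let I : Ideal P := RingHom.ker f
  choose c hc using fun i => Ideal.Quotient.mk_surjective (ψ (x i))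
  let χ₀ : P →ₐ[Λ] A := MvPolynomial.aeval c
  have hχ₀ : (Ideal.Quotient.mkₐ Λ J).comp χ₀ = ψ.comp (MvPolynomial.aeval x) :=
    MvPolynomial.algHom_ext fun i => by
      simp only [χ₀, AlgHom.comp_apply, MvPolynomial.aeval_X]
      exact hc i
  have hIm : I.map (MvPolynomial.aeval x : P →ₐ[Λ] R.carrier) ≤ maximalIdeal R.carrier :=
    Ideal.map_le_iff_le_comap.2 fun p hp =>
      (CRing.mem_maximalIdeal_iff R _).2 (RingHom.mem_ker.1 hp)
  let M := 2 * m + 1
  have hIMR : ∀ p ∈ I ^ (M + 1), (R.truncHom M).1 (MvPolynomial.aeval x p) = 0 := fun p hp => by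
    refine (truncHom_eq_zero_iff R M _).2 ?_
    have h1 : (I ^ (M + 1)).map (MvPolynomial.aeval x : P →ₐ[Λ] R.carrier) ≤
        maximalIdeal R.carrier ^ (M + 1) := by
      rw [Ideal.map_pow]; exact Ideal.pow_right_mono hIm _
    exact h1 (Ideal.mem_map_of_mem _ hp)
  have hIA : ∀ p ∈ I ^ (M + 1), χ₀ p = 0 := fun p hp => by
    have h1 : ∀ q ∈ I ^ m, χ₀ q ∈ J := fun q hq => by
      refine Ideal.Quotient.eq_zero_iff_mem.1 ((DFunLike.congr_fun hχ₀ q).trans (hm _ ?_))
      have h2 : (I ^ m).map (MvPolynomial.aeval x : P →ₐ[Λ] R.carrier) ≤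
          maximalIdeal R.carrier ^ m := by
        rw [Ideal.map_pow]; exact Ideal.pow_right_mono hIm _
      exact h2 (Ideal.mem_map_of_mem _ hq)
    have h3 : (I ^ (M + 1)).map χ₀ ≤ J ^ 2 := by
      refine le_trans (Ideal.map_mono (Ideal.pow_le_pow_right (by omega : m * 2 ≤ M + 1))) ?_
      rw [pow_mul, Ideal.map_pow]
      exact Ideal.pow_right_mono (Ideal.map_le_iff_le_comap.2 h1) 2
    simpa [hJ] using h3 (Ideal.mem_map_of_mem _ hp)
  haveI hImax : I.IsMaximal := RingHom.ker_isMaximal_of_surjective (f : P →+* k) hfs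
  obtain ⟨Q, q, hq, hqs, hqk⟩ := exists_art_quot f hfs M
  obtain ⟨ι, hι, -⟩ := huniv q hq
  have hqf : ∀ p, q p = 0 → χ₀ p = 0 := fun p hp => hIA p (hqk ▸ RingHom.mem_ker.2 hp)
  obtain ⟨χ₁, hχ₁⟩ := exists_factor_algHom q hqs χ₀ hqf
  obtain ⟨χR, hχR⟩ := exists_factor_algHom q hqs ((R.truncHom M).1.comp (MvPolynomial.aeval x))
    fun p hp => hIMR p (hqk ▸ RingHom.mem_ker.2 hp)
  have hχRres : (R.trunc M).res.comp χR = Q.res := AlgHom.ext fun a => by
    obtain ⟨p, rfl⟩ := hqs a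
    rw [AlgHom.comp_apply, ← AlgHom.comp_apply χR q, hχR]
    exact (res_of_homSet (R.truncHom M) _).trans (DFunLike.congr_fun hq p).symm
  have hu : HomSet.map (Art.homMk χR hχRres) ι =
      (⟨(R.truncHom M).1.comp π, by rw [← AlgHom.comp_assoc, (R.truncHom M).2, hπ]⟩ :
        HomSet S₀.carrier S₀.res (R.trunc M)) := by
    refine (huniv ((R.truncHom M).1.comp (MvPolynomial.aeval x))
      (by rw [← AlgHom.comp_assoc, (R.truncHom M).2])).unique ?_ ?_
    · change (χR.comp ι.1).comp of = _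
      rw [AlgHom.comp_assoc, hι, hχR]
    · rw [AlgHom.comp_assoc, hπof]
  obtain ⟨N₀, w, hw⟩ := exists_factor_trunc ι
  let N := N₀ + M
  let μ : S₀.trunc N ⟶ R.trunc N := CRing.truncMapOfHom π hπ N
  have hμ : Function.Surjective μ := fun a => by
    obtain ⟨y, rfl⟩ := truncHom_surjective R N a
    obtain ⟨z, rfl⟩ := hπs y
    exact ⟨(S₀.truncHom N).1 z, rfl⟩
  obtain ⟨σ, hσ⟩ := hsm μ hμ (R.truncHom N)
  have hwa : ∀ z, w (truncTo S₀ (Nat.le_add_right N₀ M) ((S₀.truncHom N).1 z)) = ι.1 z := fun z =>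
    DFunLike.congr_fun (congrArg Subtype.val hw) z
  refine ⟨χ₁.comp (w.toAlgHom.comp
    ((truncTo S₀ (Nat.le_add_right N₀ M)).toAlgHom.comp (σ : HomSet R.carrier R.res _).1)),
    AlgHom.ext fun y => ?_⟩
  obtain ⟨z, hz⟩ := truncHom_surjective S₀ N ((σ : HomSet R.carrier R.res _).1 y)
  have hπz : π z - y ∈ CRing.mpow R N := by
    refine (truncHom_eq_zero_iff R N _).1 ?_
    rw [map_sub, sub_eq_zero]
    exact (congrArg μ.toAlgHom hz).trans (DFunLike.congr_fun (congrArg Subtype.val hσ) y)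
  obtain ⟨p, hp⟩ := hqs (ι.1 z)
  have hpz : π z - MvPolynomial.aeval x p ∈ CRing.mpow R M := by
    refine (truncHom_eq_zero_iff R M _).1 ?_
    rw [map_sub, sub_eq_zero]
    refine (DFunLike.congr_fun (congrArg Subtype.val hu) z).symm.trans ?_
    change χR (ι.1 z) = _
    rw [← hp, ← AlgHom.comp_apply χR q, hχR, AlgHom.comp_apply]
  change Ideal.Quotient.mk J (χ₁ (w (truncTo S₀ (Nat.le_add_right N₀ M)
    ((σ : HomSet R.carrier R.res _).1 y)))) = ψ y
  rw [← hz, hwa, ← hp, ← AlgHom.comp_apply χ₁ q, hχ₁]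
  refine (DFunLike.congr_fun hχ₀ p).trans ?_
  have h1 : MvPolynomial.aeval x p - y ∈ maximalIdeal R.carrier ^ m := by
    rw [show MvPolynomial.aeval x p - y = (π z - y) - (π z - MvPolynomial.aeval x p) by ring]
    exact sub_mem (Ideal.pow_le_pow_right (by omega) hπz) (Ideal.pow_le_pow_right (by omega) hpz)
  have h2 := hm _ h1
  rwa [map_sub, sub_eq_zero] at h2

end Presentation

section Classical

variable [IsNoetherianRing Λ] [Module.Finite Λ k] {F : Art Λ k ⥤ Type v}

/-- The base ring as a coefficient ring, when it is complete local with residue field `k`. -/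
noncomputable def baseCRing [IsLocalRing Λ] [IsAdicComplete (maximalIdeal Λ) Λ]
    (hk : Function.Surjective (algebraMap Λ k)) : CRing Λ k :=
  { carrier := Λ, res := Algebra.ofId Λ k, res_surjective := hk, isAdicComplete := inferInstance }

lemma isSmoothFunctor_iff_of_versal (h0 : H0 F) {R : CRing Λ k} (ξ : Family R.carrier R.res F)
    (hξ : IsVersal ξ) : IsSmoothFunctor F ↔ IsSmoothFunctor (hR R.carrier R.res) := by
  refine ⟨fun h B A μ hμ φ => ?_, fun h B A μ hμ y => ?_⟩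
  · obtain ⟨y, hy⟩ := h μ hμ (ξ.app A φ)
    obtain ⟨ψ, hψ, -⟩ := hξ μ hμ φ y hy
    exact ⟨ψ, hψ⟩
  · obtain ⟨φ, rfl⟩ := isVersal_surjective ξ hξ h0 A y
    obtain ⟨ψ, hψ⟩ := h μ hμ φ
    exact ⟨ξ.app B ψ, (ξ.natural μ ψ).symm.trans (congrArg (ξ.app A) hψ)⟩

/-- Over a complete local base, smooth means power series. -/
lemma isSmoothFunctor_iff_powerSeries [IsLocalRing Λ] [IsAdicComplete (maximalIdeal Λ) Λ]
    (hk : Function.Surjective (algebraMap Λ k)) (R : CRing Λ k) :
    IsSmoothFunctor (hR R.carrier R.res) ↔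
      ∃ n : ℕ, Nonempty (R.carrier ≃ₐ[Λ] MvPowerSeries (Fin n) Λ) := by
  let L := baseCRing hk
  letI alg : Algebra L.carrier R.carrier := R.algebra
  haveI : IsScalarTower Λ L.carrier R.carrier := IsScalarTower.of_algebraMap_eq fun _ => rfl
  have hs : R.res.comp (strMap L R) = L.res := AlgHom.ext fun l => R.res.commutes l
  have hsub : ∀ {A : Art Λ k} (a b : HomSet L.carrier L.res A), a = b := fun a b =>
    homSet_ext fun l => (a.1.commutes (l : Λ)).trans (b.1.commutes (l : Λ)).symm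
  have hv : IsVersal ((Family.self L.carrier L.res).along (strMap L R) hs) ↔
      IsSmoothFunctor (hR R.carrier R.res) := by
    refine ⟨fun h B A μ hμ φ => ?_, fun h B A μ hμ φ y _ => ?_⟩
    · have a : HomSet L.carrier L.res B :=
        ⟨Algebra.ofId Λ B, AlgHom.ext fun l => B.res.commutes l⟩
      obtain ⟨ψ, hψ, -⟩ := h μ hμ φ a (hsub _ _)
      exact ⟨ψ, hψ⟩
    · obtain ⟨ψ, hψ⟩ := h μ hμ φ
      exact ⟨ψ, hψ, hsub _ _⟩
  rw [← hv, isVersal_along_iff L R hs]
  exact Iff.rfl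

/-- A power series family bijective on tangent vectors is a hull as soon as one exists. -/
lemma isMiniversal_of_powerSeries [IsLocalRing Λ] [IsAdicComplete (maximalIdeal Λ) Λ]
    (hk : Function.Surjective (algebraMap Λ k)) (hF : HasHull F) {R : CRing Λ k} {n : ℕ}
    (e : R.carrier ≃ₐ[Λ] MvPowerSeries (Fin n) Λ) (ξ : Family R.carrier R.res F)
    (hξ : Function.Bijective (ξ.app (Art.dual Λ k))) : IsMiniversal ξ := by
  obtain ⟨⟨R₀, ξ₀, hξ₀⟩⟩ := hF
  have h0 : H0 F := h0_of_family_surjective ξ₀ fun y => by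
    obtain ⟨δ, hδ⟩ := hξ₀.2.2 (F.map Art.baseToDual y)
    refine ⟨HomSet.map (Art.toBase _) δ, ?_⟩
    rw [ξ₀.natural, hδ, map_map, Art.eq_toBase (Art.baseToDual ≫ Art.toBase _),
      ← Art.eq_toBase (𝟙 (Art.base Λ k)), map_id']
  obtain ⟨g, hg, hgξ⟩ := exists_along_eq h0 ξ₀ hξ₀.1 ξ
  let res₀ : HomSet R.carrier R.res (Art.dual Λ k) → HomSet R₀.carrier R₀.res (Art.dual Λ k) :=
    fun δ => ⟨δ.1.comp g, by rw [← AlgHom.comp_assoc, δ.2, hg]⟩
  have hres : ∀ δ, ξ₀.app _ (res₀ δ) = ξ.app _ δ := fun δ => by rw [← hgξ, along_app]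
  have hbij : Function.Bijective res₀ :=
    ⟨fun a b h => hξ.1 (by rw [← hres, ← hres, h]), fun a => by
      obtain ⟨δ, hδ⟩ := hξ.2 (ξ₀.app _ a)
      exact ⟨δ, hξ₀.2.1 ((hres δ).trans hδ)⟩⟩
  have hgs : Function.Surjective g := by
    letI : Algebra R.carrier k := (R.res : R.carrier →+* k).toAlgebra
    haveI : IsScalarTower Λ R.carrier k :=
      IsScalarTower.of_algebraMap_eq fun l => (R.res.commutes l).symm
    haveI := R.isAdicComplete
    have htower : IsScalarTower.toAlgHom Λ R.carrier k = R.res := AlgHom.ext fun _ => rfl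
    refine surjective_of_derivation R₀ R.res_surjective g (htower.symm ▸ hg) fun D₁ D₂ hD => ?_
    obtain ⟨δ₁, h₁⟩ := exists_homSet_of_derivation (fun _ => rfl) D₁
    obtain ⟨δ₂, h₂⟩ := exists_homSet_of_derivation (fun _ => rfl) D₂
    have e12 : δ₁ = δ₂ := hbij.1 (Subtype.ext (AlgHom.ext fun r => TrivSqZeroExt.ext
      ((res_of_homSet δ₁ (g r)).trans (res_of_homSet δ₂ (g r)).symm)
      ((h₁ (g r)).trans ((hD r).trans (h₂ (g r)).symm))))
    exact Derivation.ext fun r => by rw [← h₁, ← h₂, e12]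
  let L := baseCRing hk
  let E : PS L n →ₐ[Λ] R.carrier :=
    { (e.symm : MvPowerSeries (Fin n) Λ →+* R.carrier) with commutes' := fun l => e.symm.commutes l }
  have hEX : ∀ i, R.res (E (MvPowerSeries.X i)) = 0 := fun i => by
    rw [← CRing.mem_maximalIdeal_iff, IsLocalRing.mem_maximalIdeal, mem_nonunits_iff]
    intro hu
    have h2 := hu.map e
    rw [show e (E (MvPowerSeries.X i)) = MvPowerSeries.X i from e.apply_symm_apply _] at h2
    exact (IsLocalRing.mem_maximalIdeal _).1 (X_mem L n i) h2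
  have hE : R.res.comp E = psRes L n := res_comp_of_C_X (f := Algebra.ofId Λ R.carrier)
    (R := L) (AlgHom.ext fun l => R.res.commutes l) E (fun c => e.symm.commutes c) hEX
  choose a ha using fun i => hgs (E (MvPowerSeries.X i))
  obtain ⟨φ, hφ, hφC, hφX⟩ := exists_algHom_ps (R := L) (r := n) (T := R₀)
    (Algebra.ofId Λ R₀.carrier) (AlgHom.ext fun l => R₀.res.commutes l) a fun i => by
      rw [← hg, AlgHom.comp_apply, ha]
      exact hEX i
  have hgφ : g.comp φ = E := algHom_ps_ext (by rw [← AlgHom.comp_assoc, hg, hφ]) hE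
    (fun c => by
      rw [AlgHom.comp_apply, hφC]
      exact (g.commutes c).trans (e.symm.commutes c).symm)
    (fun i => by rw [AlgHom.comp_apply, hφX, ha])
  let s : R.carrier →ₐ[Λ] R₀.carrier :=
    { (φ : PS L n →+* R₀.carrier).comp (e : R.carrier →+* MvPowerSeries (Fin n) Λ) with
      commutes' := fun l => by
        change φ (e (algebraMap Λ R.carrier l)) = _
        rw [e.commutes]
        exact φ.commutes l }
  have hgs' : ∀ y, g (s y) = y := fun y =>
    (DFunLike.congr_fun hgφ (e y)).trans (e.symm_apply_apply y)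
  have hs : R₀.res.comp s = R.res := AlgHom.ext fun y => by
    rw [AlgHom.comp_apply, ← hg, AlgHom.comp_apply, hgs']
  have hss : Function.Surjective s := by
    letI : Algebra R₀.carrier k := (R₀.res : R₀.carrier →+* k).toAlgebra
    haveI : IsScalarTower Λ R₀.carrier k :=
      IsScalarTower.of_algebraMap_eq fun l => (R₀.res.commutes l).symm
    haveI := R₀.isAdicComplete
    have htower : IsScalarTower.toAlgHom Λ R₀.carrier k = R₀.res := AlgHom.ext fun _ => rfl
    refine surjective_of_derivation R R₀.res_surjective s (htower.symm ▸ hs) fun D₁ D₂ hD => ?_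
    obtain ⟨δ₁, h₁⟩ := exists_homSet_of_derivation (fun _ => rfl) D₁
    obtain ⟨δ₂, h₂⟩ := exists_homSet_of_derivation (fun _ => rfl) D₂
    obtain ⟨η₁, rfl⟩ := hbij.2 δ₁
    obtain ⟨η₂, rfl⟩ := hbij.2 δ₂
    have e12 : η₁ = η₂ := homSet_ext fun y => by
      rw [← hgs' y]
      exact TrivSqZeroExt.ext
        ((res_of_homSet η₁ _).trans (res_of_homSet η₂ _).symm)
        ((h₁ (s y)).trans ((hD y).trans (h₂ (s y)).symm))
    exact Derivation.ext fun r => by rw [← h₁, ← h₂, e12]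
  have hb : Function.Bijective g := by
    refine ⟨fun u v h => ?_, hgs⟩
    obtain ⟨u, rfl⟩ := hss u
    obtain ⟨v, rfl⟩ := hss v
    rw [hgs', hgs'] at h
    rw [h]
  exact hgξ ▸ isMiniversal_along hξ₀ (AlgEquiv.ofBijective g hb) hg

end Classical

end GrothLib.ArtFun
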