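import Groth.Agent.Lib.ArtFun.ObsSpan
import Groth.Agent.Lib.ArtFun.SmoothFun
import Mathlib.LinearAlgebra.Contraction
import Mathlib.RingTheory.Filtration
import Mathlib.LinearAlgebra.Dual.Lemmas

/-!
# Functors of Artin rings: obstruction theories and presentations
-/

universe u v w

namespace GrothLib.ArtFun

open _root_.ArtFun CategoryTheory IsLocalRing
open scoped TensorProduct

section Ring

variable {k : Type u} [Field k] {S : Type v} [CommRing S] [IsLocalRing S] [Algebra k S]

lemma ker_eq_maximalIdeal (resS : S →ₐ[k] k) : RingHom.ker resS = maximalIdeal S :=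
  IsLocalRing.eq_maximalIdeal (RingHom.ker_isMaximal_of_surjective (resS : S →+* k) fun c =>
    ⟨algebraMap k S c, resS.commutes c⟩)

lemma mem_max_iff_res (resS : S →ₐ[k] k) {s : S} : s ∈ maximalIdeal S ↔ resS s = 0 := by
  rw [← ker_eq_maximalIdeal resS, RingHom.mem_ker]

lemma algHom_res_unique (f g : S →ₐ[k] k) : f = g := by
  refine AlgHom.ext fun s => ?_
  have h : s - algebraMap k S (f s) ∈ maximalIdeal S := by
    rw [mem_max_iff_res f, map_sub, AlgHom.commutes]; simp
  rw [mem_max_iff_res g, map_sub, AlgHom.commutes, sub_eq_zero] at h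
  simpa using h.symm

variable (resS : S →ₐ[k] k) (J : Ideal S)

include resS in
/-- `J/mJ` is finite over the ground field, with no more generators needed than its dimension. -/
lemma cotQuot_finite_generators [IsNoetherianRing S] :
    Module.Finite k (↥J ⧸ (maximalIdeal S • (⊤ : Submodule S ↥J))) ∧
    ∃ g : Fin (Module.finrank k (↥J ⧸ (maximalIdeal S • (⊤ : Submodule S ↥J)))) → S,
      Ideal.span (Set.range g) = J := by
  set N := maximalIdeal S • (⊤ : Submodule S ↥J)
  have hmem : ∀ (s : S) (x : ↥J ⧸ N), s • x = resS s • x := fun s x => by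
    obtain ⟨j, rfl⟩ := Submodule.Quotient.mk_surjective N x
    rw [← algebraMap_smul S (resS s), ← sub_eq_zero, ← sub_smul, ← Submodule.Quotient.mk_smul,
      Submodule.Quotient.mk_eq_zero]
    refine Submodule.smul_mem_smul ?_ trivial
    rw [mem_max_iff_res resS, map_sub, AlgHom.commutes]
    simp
  have hfin : Module.Finite k (↥J ⧸ N) := by
    obtain ⟨n, g, hg⟩ := Submodule.fg_iff_exists_fin_generating_family.1
      (Module.finite_def.1 (inferInstance : Module.Finite S (↥J ⧸ N)))
    rw [Module.finite_def]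
    refine ⟨(Set.finite_range g).toFinset, ?_⟩
    rw [Set.Finite.coe_toFinset, eq_top_iff]
    rintro x -
    have hx : x ∈ Submodule.span S (Set.range g) := hg ▸ trivial
    refine Submodule.span_induction (fun y hy => Submodule.subset_span hy) (zero_mem _)
      (fun _ _ _ _ => add_mem) (fun s y _ hy => ?_) hx
    rw [hmem]
    exact Submodule.smul_mem _ _ hy
  refine ⟨hfin, ?_⟩
  haveI := hfin
  set b := Module.finBasis k (↥J ⧸ N)
  choose g hg using fun i => Submodule.Quotient.mk_surjective N (b i)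
  refine ⟨fun i => (g i : S), le_antisymm (Ideal.span_le.2 ?_) ?_⟩
  · rintro _ ⟨i, rfl⟩; exact (g i).2
  refine Submodule.le_of_le_smul_of_le_jacobson_bot (I := maximalIdeal S)
    (IsNoetherian.noetherian J) (maximalIdeal_le_jacobson ⊥) fun x hx => ?_
  let c := b.repr (Submodule.Quotient.mk (⟨x, hx⟩ : ↥J))
  have hd : (⟨x, hx⟩ : ↥J) - ∑ i, algebraMap k S (c i) • g i ∈ N := by
    rw [← Submodule.Quotient.mk_eq_zero, ← Submodule.mkQ_apply, map_sub, sub_eq_zero, map_sum]
    refine (b.sum_repr _).symm.trans (Finset.sum_congr rfl fun i _ => ?_)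
    rw [algebraMap_smul, LinearMap.map_smul_of_tower]
    exact congrArg (c i • ·) (hg i).symm
  have h1 := Submodule.mem_map_of_mem (f := Submodule.subtype J) hd
  rw [Submodule.map_smul'', Submodule.map_top, Submodule.range_subtype] at h1
  have h2 : x = (∑ i, algebraMap k S (c i) * (g i : S)) +
      (x - ∑ i, algebraMap k S (c i) * (g i : S)) := by ring
  rw [h2]
  refine Submodule.add_mem_sup (Ideal.sum_mem _ fun i _ => Ideal.mul_mem_left _ _
    (Ideal.subset_span ⟨i, rfl⟩)) ?_
  simpa [Submodule.coe_sum, Algebra.smul_def] using h1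

end Ring

section Obs

variable {k : Type u} [Field k]
variable {S : Type u} [CommRing S] [IsLocalRing S] [Algebra k S] {resS : S →ₐ[k] k}

omit [IsLocalRing S] in
lemma res_homSet_apply {A : Art k k} (φ : HomSet S resS A) (a : S) : A.res (φ.1 a) = resS a :=
  DFunLike.congr_fun φ.2 a

/-- Two lifts along a semismall extension agree on the square of the maximal ideal. -/
lemma lifts_agree_on_sq {C' C : Art k k} {p : C' ⟶ C} (hp : Art.IsSemismallExt p)
    {f g : HomSet S resS C'} (h : HomSet.map p f = HomSet.map p g) {x : S}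
    (hx : x ∈ maximalIdeal S ^ 2) : f.1 x = g.1 x := by
  have hm : ∀ (χ : HomSet S resS C') {a : S}, a ∈ maximalIdeal S → χ.1 a ∈ maximalIdeal C' :=
    fun χ {a} ha => by
      rw [Art.mem_maximalIdeal_iff, res_homSet_apply χ a]
      exact (mem_max_iff_res resS).1 ha
  have hd : ∀ a, f.1 a - g.1 a ∈ RingHom.ker p.toAlgHom := fun a => by
    rw [RingHom.mem_ker, map_sub, sub_eq_zero]
    exact DFunLike.congr_fun (congrArg Subtype.val h) a
  rw [pow_two] at hx
  refine Submodule.mul_induction_on hx (fun a ha b hb => ?_) fun a b ha hb => by rw [map_add, map_add, ha, hb]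
  rw [map_mul, map_mul, ← sub_eq_zero,
    show f.1 a * f.1 b - g.1 a * g.1 b = f.1 a * (f.1 b - g.1 b) + g.1 b * (f.1 a - g.1 a) by ring,
    mul_eq_zero_of_mem_maximalIdeal hp.2 (hm f ha) (hd b),
    mul_eq_zero_of_mem_maximalIdeal hp.2 (hm g hb) (hd a), add_zero]

variable {R : Type u} [CommRing R] [Algebra k R] {res : R →ₐ[k] k}
variable (π : S →ₐ[k] R)

/-- Pull a point of `h_R` back to the presenting ring. -/
def homSetPull (hπres : res.comp π = resS) {C : Art k k} (φ : HomSet R res C) : HomSet S resS C :=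
  ⟨φ.1.comp π, by rw [← AlgHom.comp_assoc, φ.2, hπres]⟩

variable (hπ : Function.Surjective π) (hπres : res.comp π = resS)

include hπ in
lemma exists_homSet_of_ker {C : Art k k} (f : HomSet S resS C)
    (h : ∀ x ∈ RingHom.ker π, f.1 x = 0) : ∃ φ : HomSet R res C, homSetPull π hπres φ = f := by
  let e := Ideal.quotientKerAlgEquivOfSurjective hπ
  let φ : R →ₐ[k] C := (Ideal.Quotient.liftₐ _ f.1 h).comp e.symm.toAlgHom
  have hφ : ∀ s, φ (π s) = f.1 s := fun s => by
    change Ideal.Quotient.liftₐ _ f.1 h (e.symm (π s)) = _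
    rw [show π s = e (Ideal.Quotient.mk _ s) from rfl, e.symm_apply_apply]
    rfl
  refine ⟨⟨φ, AlgHom.ext fun r => ?_⟩, homSet_ext hφ⟩
  obtain ⟨s, rfl⟩ := hπ r
  rw [AlgHom.comp_apply, hφ, res_homSet_apply f s]
  exact (DFunLike.congr_fun hπres s).symm

variable [IsNoetherianRing S]

/-- `J/mJ` for the kernel `J` of `π`. -/
abbrev CotQ : Type u := ↥(RingHom.ker π) ⧸ (maximalIdeal S • (⊤ : Submodule S ↥(RingHom.ker π)))

include hπres in
/-- The linear map on `J/mJ` measuring the failure of a point to lift. -/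
lemma exists_obs_map (hJ : RingHom.ker π ≤ maximalIdeal S ^ 2) (hS : IsSmoothFunctor (hR S resS))
    {C' C : Art k k} (p : C' ⟶ C) (hp : Art.IsSemismallExt p) (φ : HomSet R res C) :
    ∃ (ω : (CotQ π) →ₗ[k] ↥(RingHom.ker p.toAlgHom)) (f : HomSet S resS C'),
      HomSet.map p f = homSetPull π hπres φ ∧
        ∀ j : ↥(RingHom.ker π), (ω (Submodule.Quotient.mk j) : C') = f.1 j := by
  obtain ⟨f, hf⟩ := hS p hp.1 (homSetPull π hπres φ)
  replace hf : HomSet.map p f = homSetPull π hπres φ := hf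
  have hmem : ∀ j : ↥(RingHom.ker π), f.1 j ∈ RingHom.ker p.toAlgHom := fun j => by
    rw [RingHom.mem_ker]
    refine (DFunLike.congr_fun (congrArg Subtype.val hf) (j : S)).trans ?_
    change φ.1 (π (j : S)) = 0
    rw [RingHom.mem_ker.1 j.2, map_zero]
  let ω₀ : ↥(RingHom.ker π) →ₗ[k] ↥(RingHom.ker p.toAlgHom) :=
    { toFun := fun j => ⟨f.1 j, hmem j⟩
      map_add' := fun a b => Subtype.ext (map_add f.1 _ _)
      map_smul' := fun c a => Subtype.ext (map_smul f.1 c (a : S)) }
  have h0 : ∀ j ∈ maximalIdeal S • (⊤ : Submodule S ↥(RingHom.ker π)), ω₀ j = 0 := fun j hj => by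
    refine Submodule.smul_induction_on hj (fun a ha y _ => Subtype.ext ?_) fun a b ha hb => by
      rw [map_add, ha, hb, add_zero]
    change f.1 (a * y) = 0
    rw [map_mul]
    refine mul_eq_zero_of_mem_maximalIdeal hp.2 ?_ (hmem y)
    rw [Art.mem_maximalIdeal_iff, res_homSet_apply f a]
    exact (mem_max_iff_res resS).1 ha
  refine ⟨(Submodule.liftQ ((maximalIdeal S • ⊤ : Submodule S ↥(RingHom.ker π)).restrictScalars k) ω₀
      h0).comp (Submodule.Quotient.restrictScalarsEquiv k _).symm.toLinearMap, f, hf, fun j => ?_⟩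
  rfl

/-- The obstruction map. -/
noncomputable def obsMap (hJ : RingHom.ker π ≤ maximalIdeal S ^ 2) (hS : IsSmoothFunctor (hR S resS))
    {C' C : Art k k} (p : C' ⟶ C) (hp : Art.IsSemismallExt p) (φ : HomSet R res C) :
    (CotQ π) →ₗ[k] ↥(RingHom.ker p.toAlgHom) :=
  (exists_obs_map π hπres hJ hS p hp φ).choose

lemma obsMap_apply (hJ : RingHom.ker π ≤ maximalIdeal S ^ 2) (hS : IsSmoothFunctor (hR S resS))
    {C' C : Art k k} (p : C' ⟶ C) (hp : Art.IsSemismallExt p) (φ : HomSet R res C)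
    (f : HomSet S resS C') (hf : HomSet.map p f = homSetPull π hπres φ) (j : ↥(RingHom.ker π)) :
    (obsMap π hπres hJ hS p hp φ (Submodule.Quotient.mk j) : C') = f.1 j := by
  obtain ⟨f₀, hf₀, h⟩ := (exists_obs_map π hπres hJ hS p hp φ).choose_spec
  exact (h j).trans (lifts_agree_on_sq hp (hf₀.trans hf.symm) (hJ j.2))

include hπ in
lemma obsMap_eq_zero_iff (hJ : RingHom.ker π ≤ maximalIdeal S ^ 2) (hS : IsSmoothFunctor (hR S resS))
    {C' C : Art k k} (p : C' ⟶ C) (hp : Art.IsSemismallExt p) (φ : HomSet R res C) :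
    obsMap π hπres hJ hS p hp φ = 0 ↔ ∃ φ' : HomSet R res C', HomSet.map p φ' = φ := by
  obtain ⟨f, hf, h⟩ := (exists_obs_map π hπres hJ hS p hp φ).choose_spec
  constructor
  · intro h0
    obtain ⟨φ', hφ'⟩ := exists_homSet_of_ker π hπ hπres f fun x hx =>
      (h ⟨x, hx⟩).symm.trans (congrArg Subtype.val (LinearMap.congr_fun h0 _))
    refine ⟨φ', homSet_ext fun r => ?_⟩
    obtain ⟨s, rfl⟩ := hπ r
    exact ((congrArg (fun a : HomSet S resS C => a.1 s)
      ((congrArg (HomSet.map p) hφ').trans hf)))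
  · rintro ⟨φ', rfl⟩
    refine LinearMap.ext fun x => ?_
    obtain ⟨j, rfl⟩ := Submodule.Quotient.mk_surjective _ x
    refine Subtype.ext ((obsMap_apply π hπres hJ hS p hp _ (homSetPull π hπres φ') rfl j).trans ?_)
    change φ'.1 (π (j : S)) = 0
    rw [RingHom.mem_ker.1 j.2, map_zero]

/-- The obstruction theory of a presentation. -/
lemma hasObsTheory_presentation (hπ : Function.Surjective π) (hπres : res.comp π = resS)
    (hJ : RingHom.ker π ≤ maximalIdeal S ^ 2) (hS : IsSmoothFunctor (hR S resS)) :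
    HasObsTheory (hR R res) (Module.Dual k (CotQ π)) := by
  haveI := (cotQuot_finite_generators resS (RingHom.ker π)).1
  refine ⟨⟨fun {C' C} p hp φ => (dualTensorHomEquiv k (CotQ π) ↥(RingHom.ker p.toAlgHom)).symm
      (obsMap π hπres hJ hS p hp φ),
    fun {C' C} p hp φ => ?_, fun {C' C} p hp K hK hKJ hq φ => ?_⟩⟩
  · rw [LinearEquiv.map_eq_zero_iff, obsMap_eq_zero_iff π hπ hπres]
    exact Iff.rfl
  · rw [LinearEquiv.symm_apply_eq]
    have hnat : ∀ x : Module.Dual k (CotQ π) ⊗[k] ↥(RingHom.ker p.toAlgHom),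
        dualTensorHomEquiv k (CotQ π) _ (LinearMap.lTensor _ ((Art.kerToQuot hK p hKJ).restrictScalars k) x) =
          ((Art.kerToQuot hK p hKJ).restrictScalars k).comp (dualTensorHomEquiv k (CotQ π) _ x) := fun x => by
      induction x using TensorProduct.induction_on with
      | zero => simp
      | tmul l z =>
        refine LinearMap.ext fun y => ?_
        exact (LinearMap.map_smul ((Art.kerToQuot hK p hKJ).restrictScalars k) (l y) z).symm
      | add a b ha hb => rw [map_add, map_add, map_add, LinearMap.comp_add, ha, hb]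
    rw [hnat, LinearEquiv.apply_symm_apply]
    refine LinearMap.ext fun x => Subtype.ext ?_
    obtain ⟨j, rfl⟩ := Submodule.Quotient.mk_surjective _ x
    obtain ⟨f, hf, h⟩ := (exists_obs_map π hπres hJ hS p hp φ).choose_spec
    refine (obsMap_apply π hπres hJ hS _ hq φ (HomSet.map (Art.quotMk C' K hK) f) ?_ j).trans ?_
    · rw [homSet_map_comp, Art.quotMk_quotFactor]; exact hf
    · exact congrArg (Ideal.Quotient.mk K) (h j).symm

include hπ hπres in
/-- The obstruction space of any theory is at least as large as `J/mJ`. -/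
lemma finrank_cotQuot_le (hJ : RingHom.ker π ≤ maximalIdeal S ^ 2) {W : Type u} [AddCommGroup W]
    [Module k W] [Module.Finite k W] (T : ObsTheory (hR R res) W) :
    Module.finrank k (CotQ π) ≤ Module.finrank k W := by
  haveI := (cotQuot_finite_generators resS (RingHom.ker π)).1
  obtain ⟨N, hN⟩ : ∃ N, RingHom.ker π ⊓ maximalIdeal S ^ (N + 1) ≤
      maximalIdeal S * RingHom.ker π := by
    obtain ⟨c, hc⟩ := Ideal.exists_pow_inf_eq_pow_smul (maximalIdeal S) (RingHom.ker π)
    refine ⟨c, fun x hx => ?_⟩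
    have := hc (c + 1) (Nat.le_succ c)
    rw [smul_eq_mul, Ideal.mul_top, Nat.add_sub_cancel_left, pow_one] at this
    rw [inf_comm, this] at hx
    exact Ideal.mul_mono_right inf_le_right hx
  obtain ⟨A, q, hq, hqs, hqk⟩ := exists_art_quot resS (fun c => ⟨algebraMap k S c, resS.commutes c⟩) N
  rw [ker_eq_maximalIdeal] at hqk
  have hqm : ∀ a ∈ maximalIdeal S, q a ∈ maximalIdeal A := fun a ha => by
    rw [Art.mem_maximalIdeal_iff, show A.res (q a) = resS a from DFunLike.congr_fun hq a]
    exact (mem_max_iff_res resS).1 ha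
  have hJm : RingHom.ker π ≤ maximalIdeal S := hJ.trans (Ideal.pow_le_self two_ne_zero)
  let K := (RingHom.ker π).map q
  let K' := (maximalIdeal S * RingHom.ker π).map q
  have hK : K ≤ maximalIdeal A := Ideal.map_le_iff_le_comap.2 fun a ha => hqm a (hJm ha)
  have hK'K : K' ≤ K := Ideal.map_mono Ideal.mul_le_right
  have hK' : K' ≤ maximalIdeal A := hK'K.trans hK
  have hkill : K' ≤ RingHom.ker (Art.quotMk A K hK).toAlgHom := by rw [ker_quotMk]; exact hK'K
  let p := Art.quotFactor hK' (Art.quotMk A K hK) hkill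
  let θ : HomSet S resS (Art.quot A K' hK') :=
    HomSet.map (Art.quotMk A K' hK') ⟨q, hq⟩
  have hθs : Function.Surjective θ.1 := fun z => by
    obtain ⟨a, rfl⟩ := Art.quotMk_surjective A K' hK' z
    obtain ⟨s, rfl⟩ := hqs a
    exact ⟨s, rfl⟩
  have hθ0 : ∀ j ∈ RingHom.ker π, θ.1 j ∈ RingHom.ker p.toAlgHom := fun j hj => by
    rw [RingHom.mem_ker]
    exact (quotMk_eq_zero_iff hK).2 (Ideal.mem_map_of_mem q hj)
  have hθ1 : ∀ j ∈ RingHom.ker π, θ.1 j = 0 → j ∈ maximalIdeal S * RingHom.ker π := fun j hj h => by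
    have h1 : q j ∈ K' := (quotMk_eq_zero_iff hK').1 h
    rw [Ideal.mem_map_iff_of_surjective q hqs] at h1
    obtain ⟨a, ha, hqa⟩ := h1
    have h2 : j - a ∈ maximalIdeal S ^ (N + 1) := by
      rw [← hqk, RingHom.mem_ker, map_sub, hqa, sub_self]
    have h3 := hN ⟨sub_mem hj (Ideal.mul_le_right ha), h2⟩
    simpa using add_mem h3 ha
  have hp : Art.IsSemismallExt p := by
    refine ⟨quotFactor_surjective hK' hkill (Art.quotMk_surjective A K hK), ?_⟩
    rw [← le_bot_iff, Ideal.mul_le]
    intro a ha b hb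
    obtain ⟨s, rfl⟩ := hθs a
    obtain ⟨x, rfl⟩ := Art.quotMk_surjective A K' hK' b
    have hxK : x ∈ K := (quotMk_eq_zero_iff hK).1 (RingHom.mem_ker.1 hb)
    obtain ⟨j, hj, rfl⟩ := (Ideal.mem_map_iff_of_surjective q hqs).1 hxK
    rw [Ideal.mem_bot]
    have hs : s ∈ maximalIdeal S := by
      rw [mem_max_iff_res resS, ← res_homSet_apply θ s]
      exact (Art.mem_maximalIdeal_iff _ _).1 ha
    change θ.1 s * θ.1 j = 0
    rw [← map_mul]
    exact (quotMk_eq_zero_iff hK').2 (Ideal.mem_map_of_mem q (Ideal.mul_mem_mul hs hj))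
  obtain ⟨φ, hφ⟩ := exists_homSet_of_ker π hπ hπres (HomSet.map p θ) fun x hx =>
    RingHom.mem_ker.1 (hθ0 x hx)
  let e₀ : ↥(RingHom.ker π) →ₗ[k] ↥(RingHom.ker p.toAlgHom) :=
    { toFun := fun j => ⟨θ.1 j, hθ0 j j.2⟩
      map_add' := fun a b => Subtype.ext (map_add θ.1 _ _)
      map_smul' := fun c a => Subtype.ext (map_smul θ.1 c (a : S)) }
  have hker : LinearMap.ker e₀ =
      (maximalIdeal S • ⊤ : Submodule S ↥(RingHom.ker π)).restrictScalars k := by
    ext j
    rw [Submodule.restrictScalars_mem, LinearMap.mem_ker, Submodule.mem_smul_top_iff, smul_eq_mul]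
    refine ⟨fun h => hθ1 j j.2 (congrArg Subtype.val h), fun h => Subtype.ext ?_⟩
    exact (quotMk_eq_zero_iff hK').2 (Ideal.mem_map_of_mem q h)
  have he₀ : Function.Surjective e₀ := fun z => by
    obtain ⟨x, hx⟩ := Art.quotMk_surjective A K' hK' z.1
    have hxK : x ∈ K := (quotMk_eq_zero_iff hK).1
      ((congrArg p hx).trans (RingHom.mem_ker.1 z.2))
    obtain ⟨j, hj, rfl⟩ := (Ideal.mem_map_iff_of_surjective q hqs).1 hxK
    exact ⟨⟨j, hj⟩, Subtype.ext hx⟩
  let e : (CotQ π) ≃ₗ[k] ↥(RingHom.ker p.toAlgHom) :=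
    ((Submodule.Quotient.restrictScalarsEquiv k _).symm.trans (Submodule.quotEquivOfEq _ _ hker.symm)).trans
      (e₀.quotKerEquivOfSurjective he₀)
  haveI : Module.Finite k ↥(RingHom.ker p.toAlgHom) := Module.Finite.equiv e
  let Ψ : Module.Dual k ↥(RingHom.ker p.toAlgHom) →ₗ[k] W :=
    { toFun := fun l => TensorProduct.rid k W (LinearMap.lTensor W l (T.obs p hp φ))
      map_add' := fun a b => by simp [LinearMap.lTensor_add]
      map_smul' := fun c a => by simp [LinearMap.lTensor_smul] }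
  have hΨ : Function.Injective Ψ := by
    rw [injective_iff_map_eq_zero]
    intro l hl
    by_contra hl0
    obtain ⟨B', g, t, ht, χ, hgt, hgs, hgl, hobs⟩ := exists_tiny_factor T p hp φ l hl0
    have h0 : LinearMap.lTensor W χ.toLinearMap (T.obs t ht.isSemismallExt φ) = 0 :=
      (TensorProduct.rid k W).map_eq_zero_iff.1 (hobs.symm.trans hl)
    have h1 : T.obs t ht.isSemismallExt φ = 0 :=
      (χ.lTensor W).injective (h0.trans (map_zero _).symm)
    obtain ⟨ψ, hψ⟩ := (T.obs_eq_zero_iff t ht.isSemismallExt φ).1 h1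
    replace hψ : HomSet.map t ψ = φ := hψ
    refine hl0 (LinearMap.ext fun z => ?_)
    obtain ⟨j, rfl⟩ := he₀ z
    obtain ⟨i, hi, hχ⟩ := hgl (e₀ j)
    have hag := lifts_agree_on_sq ht.isSemismallExt
      (f := homSetPull π hπres ψ) (g := HomSet.map g θ) (by
        rw [homSet_map_comp, hgt, ← hφ, ← hψ]
        rfl) (hJ j.2)
    have hi0 : i = 0 := Subtype.ext (hi.trans (hag.symm.trans (by
      change ψ.1 (π (j : S)) = 0
      rw [RingHom.mem_ker.1 j.2, map_zero])))
    rw [← hχ, hi0, map_zero]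
    rfl
  rw [e.finrank_eq, ← Subspace.dual_finrank_eq]
  exact LinearMap.finrank_le_finrank_of_injective hΨ

end Obs

end GrothLib.ArtFun
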