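import Groth.Agent.Lib.ArtFun.SmallExt
import Mathlib.LinearAlgebra.TensorProduct.Basis
import Mathlib.LinearAlgebra.Basis.VectorSpace

/-!
# Functors of Artin rings: obstructions lie in the span of the tiny obstructions
-/

universe u v

namespace GrothLib.ArtFun

open _root_.ArtFun CategoryTheory IsLocalRing
open scoped TensorProduct

section Linear

variable {k : Type u} [Field k] {V J : Type*} [AddCommGroup V] [Module k V] [AddCommGroup J] [Module k J]

/-- A tensor all of whose contractions lie in `Ω` comes from `Ω ⊗ J`. -/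
lemma mem_range_rTensor_of_forall_contract (W : Submodule k V) (x : V ⊗[k] J)
    (h : ∀ l : J →ₗ[k] k, TensorProduct.rid k V (LinearMap.lTensor V l x) ∈ W) :
    x ∈ LinearMap.range (LinearMap.rTensor J W.subtype) := by
  classical
  set b := Module.Free.chooseBasis k J
  have hc : ∀ (z : V ⊗[k] J) i, TensorProduct.equivFinsuppOfBasisRight b z i =
      TensorProduct.rid k V (LinearMap.lTensor V (b.coord i) z) := by
    intro z i
    induction z using TensorProduct.induction_on with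
    | zero => simp
    | tmul v j => simp [Module.Basis.coord_apply]
    | add p q hp hq => simp [hp, hq]
  rw [← (TensorProduct.equivFinsuppOfBasisRight b).symm_apply_apply x,
    TensorProduct.equivFinsuppOfBasisRight_symm_apply, Finsupp.sum]
  refine Submodule.sum_mem _ fun i _ => ?_
  exact ⟨⟨_, (hc x i).symm ▸ h (b.coord i)⟩ ⊗ₜ b i, rfl⟩

end Linear

variable {k : Type u} [Field k] {F : Art k k ⥤ Type v} {V : Type u} [AddCommGroup V] [Module k V]

/-- A functional on the kernel gives a tiny extension through which it factors. -/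
lemma exists_tiny_factor (T : ObsTheory F V) {C' C : Art k k} (p : C' ⟶ C)
    (hp : Art.IsSemismallExt p) (u : F.obj C) (l : ↥(RingHom.ker p.toAlgHom) →ₗ[k] k) (hl : l ≠ 0) :
    ∃ (B' : Art k k) (g : C' ⟶ B') (t : B' ⟶ C) (ht : Art.IsSmallExt t)
      (φ : ↥(RingHom.ker t.toAlgHom) ≃ₗ[k] k),
      g ≫ t = p ∧ Function.Surjective g ∧
      (∀ j : ↥(RingHom.ker p.toAlgHom), ∃ i : ↥(RingHom.ker t.toAlgHom), (i : B') = g j ∧ φ i = l j) ∧
      TensorProduct.rid k V (LinearMap.lTensor V l (T.obs p hp u)) =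
        TensorProduct.rid k V (LinearMap.lTensor V φ.toLinearMap (T.obs t ht.isSemismallExt u)) := by
  obtain ⟨j₁, hj₁⟩ := DFunLike.ne_iff.1 hl
  set j₀ := (l j₁)⁻¹ • j₁
  have hj₀ : l j₀ = 1 := by rw [map_smul, smul_eq_mul, inv_mul_cancel₀ hj₁]
  let K : Ideal C' :=
    { carrier := {c | ∃ hc : c ∈ RingHom.ker p.toAlgHom, l ⟨c, hc⟩ = 0}
      add_mem' := fun {a b} ⟨ha, ha'⟩ ⟨hb, hb'⟩ => ⟨add_mem ha hb, by
        rw [show (⟨a + b, add_mem ha hb⟩ : ↥(RingHom.ker p.toAlgHom)) = ⟨a, ha⟩ + ⟨b, hb⟩ from rfl,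
          map_add, ha', hb', add_zero]⟩
      zero_mem' := ⟨zero_mem _, map_zero l⟩
      smul_mem' := fun c a ⟨ha, ha'⟩ => ⟨Ideal.mul_mem_left _ c ha, by
        rw [show (⟨c • a, Ideal.mul_mem_left _ c ha⟩ : ↥(RingHom.ker p.toAlgHom)) = C'.res c • ⟨a, ha⟩ from
          Subtype.ext (by
            change c * a = C'.res c • a
            rw [Algebra.smul_def]
            exact mul_eq_mul_of_res_eq hp.2 (by rw [AlgHom.commutes]; rfl) ha),
          map_smul, ha', smul_zero]⟩ }
  have hKJ : K ≤ RingHom.ker p.toAlgHom := fun c hc => hc.1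
  have hK : K ≤ maximalIdeal C' := hKJ.trans (ker_le_maximalIdeal p)
  let t := Art.quotFactor hK p hKJ
  let q := (Art.kerToQuot hK p hKJ).restrictScalars k
  have hq_eq : ∀ j, q j = l j • q j₀ := fun j => by
    rw [← map_smul, ← sub_eq_zero, ← map_sub]
    refine Subtype.ext (Ideal.Quotient.eq_zero_iff_mem.2 ⟨(j - l j • j₀).2, ?_⟩)
    rw [show (⟨(j - l j • j₀ : ↥(RingHom.ker p.toAlgHom)).1, (j - l j • j₀).2⟩ : ↥(RingHom.ker p.toAlgHom)) =
      j - l j • j₀ from rfl, map_sub, map_smul, hj₀, smul_eq_mul, mul_one, sub_self]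
  have hq_surj : ∀ z : ↥(RingHom.ker t.toAlgHom), ∃ j, q j = z := fun z => by
    obtain ⟨c, hc⟩ := Ideal.Quotient.mk_surjective z.1
    refine ⟨⟨c, mem_ker_iff.2 ?_⟩, Subtype.ext hc⟩
    have := mem_ker_iff.1 z.2
    rwa [← hc] at this
  have hq0 : q j₀ ≠ 0 := fun h0 => by
    obtain ⟨hc, hc'⟩ := Ideal.Quotient.eq_zero_iff_mem.1 (congrArg Subtype.val h0)
    exact one_ne_zero (hj₀ ▸ hc')
  let ψ : k →ₗ[k] ↥(RingHom.ker t.toAlgHom) := LinearMap.toSpanSingleton k _ (q j₀)
  have hψ : Function.Bijective ψ := ⟨smul_left_injective k hq0, fun z => by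
    obtain ⟨j, rfl⟩ := hq_surj z
    exact ⟨l j, (hq_eq j).symm⟩⟩
  let φ := (LinearEquiv.ofBijective ψ hψ).symm
  have hφ : φ.toLinearMap.comp q = l := LinearMap.ext fun j => by
    change φ (q j) = l j
    rw [LinearEquiv.symm_apply_eq]
    exact hq_eq j
  have ht : Art.IsSmallExt t := by
    refine isSmallExt_of_gen (quotFactor_surjective hK hKJ hp.1) (t := (q j₀).1) ?_ ?_ ?_
    · refine le_antisymm (fun z hz => ?_) ((Ideal.span_singleton_le_iff_mem _).2 (q j₀).2)
      obtain ⟨j, hj⟩ := hq_surj ⟨z, hz⟩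
      rw [hq_eq] at hj
      refine Ideal.mem_span_singleton'.2 ⟨algebraMap k _ (l j), ?_⟩
      rw [← Algebra.smul_def]
      exact congrArg Subtype.val hj
    · exact fun h0 => hq0 (Subtype.ext h0)
    · intro z hz
      obtain ⟨c, rfl⟩ := Ideal.Quotient.mk_surjective z
      have hc : c ∈ maximalIdeal C' := (Art.mem_maximalIdeal_iff C' c).2
        (((Art.quot C' K hK).mem_maximalIdeal_iff _).1 hz)
      change Ideal.Quotient.mk K c * Ideal.Quotient.mk K (j₀ : C') = 0
      rw [← map_mul, mul_eq_zero_of_mem_maximalIdeal hp.2 hc j₀.2, map_zero]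
  refine ⟨_, Art.quotMk C' K hK, t, ht, φ, Art.quotMk_quotFactor hK p hKJ,
    Art.quotMk_surjective C' K hK, fun j => ⟨q j, rfl, DFunLike.congr_fun hφ j⟩, ?_⟩
  rw [T.obs_quot p hp K hK hKJ ht.isSemismallExt u, ← hφ, LinearMap.lTensor_comp]
  rfl

/-- A functional on the kernel gives a tiny extension with the contracted obstruction. -/
lemma exists_tiny_contract (T : ObsTheory F V) {C' C : Art k k} (p : C' ⟶ C)
    (hp : Art.IsSemismallExt p) (u : F.obj C) (l : ↥(RingHom.ker p.toAlgHom) →ₗ[k] k) (hl : l ≠ 0) :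
    ∃ (B' : Art k k) (t : B' ⟶ C) (ht : Art.IsSmallExt t)
      (φ : ↥(RingHom.ker t.toAlgHom) ≃ₗ[k] k),
      TensorProduct.rid k V (LinearMap.lTensor V l (T.obs p hp u)) =
        TensorProduct.rid k V (LinearMap.lTensor V φ.toLinearMap (T.obs t ht.isSemismallExt u)) := by
  obtain ⟨B', g, t, ht, φ, -, -, -, h⟩ := exists_tiny_factor T p hp u l hl
  exact ⟨B', t, ht, φ, h⟩

end GrothLib.ArtFun
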