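import Groth.Agent.Lib.ArtFun.Cotangent
import Mathlib.RingTheory.MvPowerSeries.Equiv
import Mathlib.RingTheory.MvPowerSeries.Inverse
import Mathlib.RingTheory.AdicCompletion.Completeness

/-!
# Functors of Artin rings: power series rings over coefficient rings
-/

universe u v

namespace GrothLib.ArtFun

open _root_.ArtFun CategoryTheory IsLocalRing

variable {Λ : Type u} {k : Type u} [CommRing Λ] [Field k] [Algebra Λ k]

variable (R : CRing Λ k) (r : ℕ)

/-- `R[[X₁, …, X_r]]`. -/
abbrev PS := MvPowerSeries (Fin r) R.carrier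

/-- The constants, as a map of `Λ`-algebras. -/
noncomputable def psC : R.carrier →ₐ[Λ] PS R r :=
  { (MvPowerSeries.C : R.carrier →+* PS R r) with
    commutes' := fun l => (MvPowerSeries.algebraMap_apply (σ := Fin r) (A := R.carrier) (r := l)).symm }

lemma psC_apply (c : R.carrier) : psC R r c = MvPowerSeries.C c := rfl

/-- The augmentation of `R[[X]]`. -/
noncomputable def psRes : PS R r →ₐ[Λ] k :=
  { (R.res : R.carrier →+* k).comp MvPowerSeries.constantCoeff with
    commutes' := fun l => by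
      change R.res (MvPowerSeries.constantCoeff (algebraMap Λ (PS R r) l)) = _
      rw [MvPowerSeries.algebraMap_apply, MvPowerSeries.constantCoeff_C, AlgHom.commutes] }

lemma psRes_apply (f : PS R r) : psRes R r f = R.res (MvPowerSeries.constantCoeff f) := rfl

lemma mem_maximalIdeal_ps {f : PS R r} : f ∈ maximalIdeal (PS R r) ↔ psRes R r f = 0 := by
  rw [IsLocalRing.mem_maximalIdeal, mem_nonunits_iff, MvPowerSeries.isUnit_iff_constantCoeff,
    ← mem_nonunits_iff, ← IsLocalRing.mem_maximalIdeal, CRing.mem_maximalIdeal_iff]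
  rfl

lemma C_mem_pow {n : ℕ} {c : R.carrier} (hc : c ∈ maximalIdeal R.carrier ^ n) :
    (MvPowerSeries.C c : PS R r) ∈ maximalIdeal (PS R r) ^ n := by
  have h : (maximalIdeal R.carrier).map (MvPowerSeries.C : R.carrier →+* PS R r) ≤
      maximalIdeal (PS R r) := Ideal.map_le_iff_le_comap.2 fun a ha => by
    rw [Ideal.mem_comap, mem_maximalIdeal_ps, psRes_apply, MvPowerSeries.constantCoeff_C]
    exact (CRing.mem_maximalIdeal_iff R a).1 ha
  exact Ideal.pow_right_mono h n (Ideal.map_pow MvPowerSeries.C (maximalIdeal R.carrier) n ▸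
    Ideal.mem_map_of_mem _ hc)

lemma X_mem (i : Fin r) : (MvPowerSeries.X i : PS R r) ∈ maximalIdeal (PS R r) := by
  rw [mem_maximalIdeal_ps, psRes_apply, MvPowerSeries.constantCoeff_X, map_zero]

/-- A series without terms in degree `< n` lies in the `n`-th power of the ideal of the variables. -/
lemma mem_span_X_pow {n : ℕ} {g : PS R r} (hg : MvPowerSeries.truncTotal n g = 0) :
    g ∈ (Ideal.span (Set.range (MvPowerSeries.X : Fin r → PS R r))) ^ n := by
  let I := MvPolynomial.idealOfVars (Fin r) R.carrier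
  let e := MvPowerSeries.toAdicCompletionAlgEquiv (Fin r) R.carrier
  have h1 : e g ∈ LinearMap.ker (AdicCompletion.eval I (MvPolynomial (Fin r) R.carrier) n) := by
    rw [LinearMap.mem_ker]
    change ((MvPowerSeries.toAdicCompletion (Fin r) R.carrier g).val n) = 0
    rw [MvPowerSeries.toAdicCompletion_apply_eq_mk_truncTotal, hg]
    rfl
  rw [← AdicCompletion.pow_smul_top_eq_ker_eval (MvPolynomial.idealOfVars_fg _ _)] at h1
  have h2 : g ∈ I ^ n • (⊤ : Submodule (MvPolynomial (Fin r) R.carrier) (PS R r)) := by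
    have h := Submodule.mem_map_of_mem (f := e.symm.toLinearMap) h1
    rw [Submodule.map_smul'', Submodule.map_top, LinearMap.range_eq_top.2 e.symm.surjective] at h
    rwa [show e.symm.toLinearMap (e g) = g from e.symm_apply_apply g] at h
  rw [Ideal.smul_top_eq_map, Submodule.restrictScalars_mem, Ideal.map_pow] at h2
  refine Ideal.pow_right_mono ?_ n h2
  rw [Ideal.map_span, Ideal.span_le]
  rintro _ ⟨_, ⟨i, rfl⟩, rfl⟩
  refine Ideal.subset_span ⟨i, ?_⟩
  rw [MvPowerSeries.algebraMap_apply']
  simp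

lemma sub_truncTotal_mem (n : ℕ) (f : PS R r) :
    f - ((MvPowerSeries.truncTotal n f : MvPolynomial (Fin r) R.carrier) : PS R r) ∈
      maximalIdeal (PS R r) ^ n := by
  refine Ideal.pow_right_mono (Ideal.span_le.2 ?_) n (mem_span_X_pow R r ?_)
  · rintro _ ⟨i, rfl⟩
    exact X_mem R r i
  · rw [map_sub]
    ext d
    rw [MvPolynomial.coeff_sub, MvPolynomial.coeff_zero]
    rcases lt_or_ge d.degree n with h | h
    · rw [MvPowerSeries.coeff_truncTotal _ h, MvPowerSeries.coeff_truncTotal _ h,
        MvPolynomial.coeff_coe, MvPowerSeries.coeff_truncTotal _ h, sub_self]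
    · rw [MvPowerSeries.coeff_truncTotal_eq_zero _ h, MvPowerSeries.coeff_truncTotal_eq_zero _ h,
        sub_zero]

/-- Powers of the maximal ideal in terms of coefficients. -/
lemma mem_pow_maximalIdeal_ps (n : ℕ) (f : PS R r) :
    f ∈ maximalIdeal (PS R r) ^ n ↔
      ∀ d : Fin r →₀ ℕ, MvPowerSeries.coeff d f ∈ maximalIdeal R.carrier ^ (n - d.degree) := by
  classical
  constructor
  · intro hf
    induction n generalizing f with
    | zero => intro d; simp
    | succ n ih =>
      rw [pow_succ'] at hf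
      refine Submodule.mul_induction_on hf (fun a ha b hb d => ?_) fun a b ha hb d => by
        rw [map_add]; exact add_mem (ha d) (hb d)
      rw [MvPowerSeries.coeff_mul]
      refine Ideal.sum_mem _ fun p hp => ?_
      have hd : p.1 + p.2 = d := Finset.mem_antidiagonal.1 hp
      have hdeg : d.degree = p.1.degree + p.2.degree := by rw [← hd, map_add]
      rcases Nat.eq_zero_or_pos p.1.degree with h0 | h0
      · have hp1 : p.1 = 0 := (Finsupp.degree_eq_zero_iff _).1 h0
        have ha' : MvPowerSeries.coeff p.1 a ∈ maximalIdeal R.carrier := by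
          rw [hp1, MvPowerSeries.coeff_zero_eq_constantCoeff, CRing.mem_maximalIdeal_iff]
          exact (mem_maximalIdeal_ps R r).1 ha
        exact Ideal.pow_le_pow_right (by omega : n + 1 - d.degree ≤ n - p.2.degree + 1)
          (pow_succ' (maximalIdeal R.carrier) _ ▸ Ideal.mul_mem_mul ha' (ih b hb p.2))
      · exact Ideal.pow_le_pow_right (by omega : n + 1 - d.degree ≤ n - p.2.degree)
          (Ideal.mul_mem_left _ _ (ih b hb p.2))
  · intro h
    rw [← sub_add_cancel f ((MvPowerSeries.truncTotal n f : MvPolynomial (Fin r) R.carrier) : PS R r)]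
    refine add_mem (sub_truncTotal_mem R r n f) ?_
    let T : MvPolynomial (Fin r) R.carrier := MvPowerSeries.truncTotal n f
    change (T : PS R r) ∈ _
    rw [MvPolynomial.as_sum T, ← MvPolynomial.coeToMvPowerSeries.ringHom_apply, map_sum]
    refine Ideal.sum_mem _ fun d hd => ?_
    rw [MvPolynomial.coeToMvPowerSeries.ringHom_apply, MvPolynomial.coe_monomial]
    have hdn : d.degree < n := by
      by_contra hge
      exact MvPolynomial.mem_support_iff.1 hd
        (MvPowerSeries.coeff_truncTotal_eq_zero _ (not_lt.1 hge))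
    have hc : T.coeff d ∈ maximalIdeal R.carrier ^ (n - d.degree) := by
      rw [MvPowerSeries.coeff_truncTotal _ hdn]; exact h d
    have hmon : MvPowerSeries.monomial d (T.coeff d) =
        (MvPowerSeries.C (T.coeff d) : PS R r) * ∏ i, MvPowerSeries.X i ^ d i := by
      rw [← MvPolynomial.coe_monomial, MvPolynomial.monomial_eq, Finsupp.prod_fintype _ _ (by simp),
        ← MvPolynomial.coeToMvPowerSeries.ringHom_apply, map_mul, map_prod]
      simp [MvPolynomial.coeToMvPowerSeries.ringHom_apply]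
    rw [hmon, show n = (n - d.degree) + d.degree by omega, pow_add]
    refine Ideal.mul_mem_mul (C_mem_pow R r hc) ?_
    rw [Finsupp.degree_eq_sum, ← Finset.prod_pow_eq_pow_sum]
    exact Ideal.prod_mem_prod fun i _ => Ideal.pow_mem_pow (X_mem R r i) _

lemma isAdicComplete_ps : IsAdicComplete (maximalIdeal (PS R r)) (PS R r) := by
  haveI := R.isAdicComplete
  refine { haus' := fun f hf => ?_, prec' := fun F hF => ?_ }
  · refine MvPowerSeries.ext fun d => ?_
    rw [map_zero]
    refine IsHausdorff.haus (I := maximalIdeal R.carrier) inferInstance _ fun n => ?_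
    have h := hf (n + d.degree)
    rw [SModEq.sub_mem, sub_zero, Ideal.smul_eq_mul, Ideal.mul_top, mem_pow_maximalIdeal_ps] at h
    rw [SModEq.sub_mem, sub_zero, Ideal.smul_eq_mul, Ideal.mul_top]
    simpa using h d
  · have hcoef : ∀ {a b : ℕ}, a ≤ b → ∀ d,
        MvPowerSeries.coeff d (F a) - MvPowerSeries.coeff d (F b) ∈
          maximalIdeal R.carrier ^ (a - d.degree) := fun h d => by
      have h' := hF h
      rw [SModEq.sub_mem, Ideal.smul_eq_mul, Ideal.mul_top, mem_pow_maximalIdeal_ps] at h'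
      simpa using h' d
    have hL : ∀ d : Fin r →₀ ℕ, ∃ L, ∀ i,
        MvPowerSeries.coeff d (F (i + d.degree)) - L ∈ maximalIdeal R.carrier ^ i := fun d => by
      obtain ⟨L, hL⟩ := IsPrecomplete.prec (I := maximalIdeal R.carrier) inferInstance
        (f := fun i => MvPowerSeries.coeff d (F (i + d.degree))) fun {a b} h => by
          rw [SModEq.sub_mem, Ideal.smul_eq_mul, Ideal.mul_top]
          simpa using hcoef (Nat.add_le_add_right h d.degree) d
      exact ⟨L, fun i => by simpa [SModEq.sub_mem] using hL i⟩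
    choose L hL using hL
    refine ⟨fun d => L d, fun n => ?_⟩
    rw [SModEq.sub_mem, Ideal.smul_eq_mul, Ideal.mul_top, mem_pow_maximalIdeal_ps]
    intro d
    rw [map_sub]
    change MvPowerSeries.coeff d (F n) - L d ∈ _
    rcases le_total n d.degree with h | h
    · simp [Nat.sub_eq_zero_of_le h]
    · have := hL d (n - d.degree)
      rwa [Nat.sub_add_cancel h] at this

/-- `R[[X₁, …, X_r]]` as a coefficient ring. -/
noncomputable def psCRing : CRing Λ k :=
  { carrier := PS R r
    res := psRes R r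
    res_surjective := fun c => by
      obtain ⟨a, rfl⟩ := R.res_surjective c
      exact ⟨MvPowerSeries.C a, by rw [psRes_apply, MvPowerSeries.constantCoeff_C]⟩
    isAdicComplete := isAdicComplete_ps R r }

lemma psRes_comp_psC : (psRes R r).comp (psC R r) = R.res :=
  AlgHom.ext fun c => by rw [AlgHom.comp_apply, psRes_apply, psC_apply, MvPowerSeries.constantCoeff_C]

variable {R r}

lemma homSet_ps_ext {A : Art Λ k} {ψ ψ' : HomSet (PS R r) (psRes R r) A}
    (hC : ∀ c, ψ.1 (MvPowerSeries.C c) = ψ'.1 (MvPowerSeries.C c))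
    (hX : ∀ i, ψ.1 (MvPowerSeries.X i) = ψ'.1 (MvPowerSeries.X i)) : ψ = ψ' := by
  refine homSet_ext fun f => ?_
  obtain ⟨N, hN⟩ := exists_pow_maximalIdeal_eq_bot A
  have hkill : ∀ χ : HomSet (PS R r) (psRes R r) A,
      ∀ x ∈ maximalIdeal (PS R r) ^ N, χ.1 x = 0 := fun χ x hx => by
    have h1 : (maximalIdeal (PS R r) ^ N).map χ.1 ≤ maximalIdeal A ^ N := by
      rw [Ideal.map_pow]
      refine Ideal.pow_right_mono (Ideal.map_le_iff_le_comap.2 fun a ha => ?_) N
      rw [Ideal.mem_comap, ← res_eq_zero_iff]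
      exact (DFunLike.congr_fun χ.2 a).trans ((mem_maximalIdeal_ps R r).1 ha)
    simpa [hN] using h1 (Ideal.mem_map_of_mem _ hx)
  have hp : (ψ.1 : PS R r →+* A).comp MvPolynomial.coeToMvPowerSeries.ringHom =
      (ψ'.1 : PS R r →+* A).comp MvPolynomial.coeToMvPowerSeries.ringHom :=
    MvPolynomial.ringHom_ext (fun c => by simpa using hC c) (fun i => by simpa using hX i)
  have h1 := hkill ψ _ (sub_truncTotal_mem R r N f)
  have h2 := hkill ψ' _ (sub_truncTotal_mem R r N f)
  rw [map_sub, sub_eq_zero] at h1 h2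
  rw [h1, h2]
  exact RingHom.congr_fun hp _

/-- Evaluation in an Artinian ring. -/
lemma exists_homSet_ps {A : Art Λ k} (φ : HomSet R.carrier R.res A) (a : Fin r → A)
    (ha : ∀ i, A.res (a i) = 0) : ∃ ψ : HomSet (PS R r) (psRes R r) A,
      (∀ c, ψ.1 (MvPowerSeries.C c) = φ.1 c) ∧ ∀ i, ψ.1 (MvPowerSeries.X i) = a i := by
  obtain ⟨N, hN⟩ := exists_pow_maximalIdeal_eq_bot A
  let ev : MvPolynomial (Fin r) R.carrier →+* A := MvPolynomial.eval₂Hom φ.1 a
  have hker : ∀ x ∈ MvPolynomial.idealOfVars (Fin r) R.carrier ^ (N + 1), ev x = 0 := fun x hx => by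
    have h1 : (MvPolynomial.idealOfVars (Fin r) R.carrier ^ (N + 1)).map ev ≤
        maximalIdeal A ^ N := by
      rw [Ideal.map_pow]
      refine le_trans (Ideal.pow_right_mono ?_ _) (Ideal.pow_le_pow_right (Nat.le_succ N))
      rw [Ideal.map_span, Ideal.span_le]
      rintro _ ⟨_, ⟨i, rfl⟩, rfl⟩
      simpa [ev] using res_eq_zero_iff.1 (ha i)
    simpa [hN] using h1 (Ideal.mem_map_of_mem _ hx)
  let ψ₀ : PS R r →+* A := (Ideal.Quotient.lift _ ev hker).comp
    (MvPowerSeries.truncTotalAlgHom (Fin r) R.carrier (N + 1)).toRingHom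
  have hpoly : ∀ p : MvPolynomial (Fin r) R.carrier, ψ₀ (p : PS R r) = ev p := fun p => by
    have e : MvPowerSeries.truncTotalAlgHom (Fin r) R.carrier (N + 1) (p : PS R r) =
        Ideal.Quotient.mk _ p := by
      have h := (MvPowerSeries.truncTotalAlgHom (Fin r) R.carrier (N + 1)).commutes p
      rw [MvPowerSeries.algebraMap_apply'] at h
      simpa using h
    exact congrArg (Ideal.Quotient.lift _ ev hker) e
  have hC : ∀ c, ψ₀ (MvPowerSeries.C c) = φ.1 c := fun c => by
    rw [← MvPolynomial.coe_C, hpoly]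
    exact MvPolynomial.eval₂Hom_C _ _ c
  have hres : ∀ f, A.res (ψ₀ f) = psRes R r f := fun f => by
    have h : (A.res : A →+* k).comp ev =
        (R.res : R.carrier →+* k).comp MvPolynomial.constantCoeff :=
      MvPolynomial.ringHom_ext (fun c => by simpa [ev] using res_of_homSet φ c)
        fun i => by simpa [ev] using ha i
    change (A.res : A →+* k).comp ev (MvPowerSeries.truncTotal (N + 1) f) = _
    rw [h, RingHom.comp_apply, MvPowerSeries.constantCoeff_truncTotal_eq_ite, if_pos N.succ_pos]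
    rfl
  refine ⟨⟨{ ψ₀ with commutes' := fun l => ?_ }, AlgHom.ext hres⟩, hC, fun i => ?_⟩
  · change ψ₀ (algebraMap Λ (PS R r) l) = _
    rw [MvPowerSeries.algebraMap_apply, hC, AlgHom.commutes]
  · change ψ₀ (MvPowerSeries.X i) = a i
    rw [← MvPolynomial.coe_X, hpoly]
    exact MvPolynomial.eval₂Hom_X' _ _ i

/-- Evaluation in a coefficient ring. -/
lemma exists_algHom_ps {T : CRing Λ k} (g : R.carrier →ₐ[Λ] T.carrier) (hg : T.res.comp g = R.res)
    (a : Fin r → T.carrier) (ha : ∀ i, T.res (a i) = 0) :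
    ∃ φ : PS R r →ₐ[Λ] T.carrier, T.res.comp φ = psRes R r ∧
      (∀ c, φ (MvPowerSeries.C c) = g c) ∧ ∀ i, φ (MvPowerSeries.X i) = a i := by
  haveI := T.isAdicComplete
  choose ψ hC hX using fun n => exists_homSet_ps (R := R) (r := r)
    (⟨(T.truncHom n).1.comp g, by rw [← AlgHom.comp_assoc, (T.truncHom n).2, hg]⟩ :
      HomSet R.carrier R.res (T.trunc n))
    (fun i => (T.truncHom n).1 (a i)) fun i => (res_of_homSet (T.truncHom n) (a i)).trans (ha i)
  obtain ⟨φ, hφ, hφn⟩ := exists_algHom_of_trunc ψ fun n => homSet_ps_ext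
    (fun c => by
      change (T.truncMap n).toAlgHom ((ψ (n + 1)).1 _) = _
      rw [hC, hC]
      rfl)
    (fun i => by
      change (T.truncMap n).toAlgHom ((ψ (n + 1)).1 _) = _
      rw [hX, hX]
      rfl)
  have key : ∀ x y : T.carrier, (∀ n, (T.truncHom n).1 x = (T.truncHom n).1 y) → x = y :=
    fun x y h => by
      refine eq_of_sub_eq_zero
        (IsHausdorff.haus (I := maximalIdeal T.carrier) inferInstance _ fun n => ?_)
      rw [SModEq.sub_mem, sub_zero, Ideal.smul_eq_mul, Ideal.mul_top]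
      refine Ideal.pow_le_pow_right (Nat.le_succ n) ((truncHom_eq_zero_iff T n _).1 ?_)
      rw [map_sub, h, sub_self]
  exact ⟨φ, hφ, fun c => key _ _ fun n => (DFunLike.congr_fun (hφn n) _).trans (hC n c),
    fun i => key _ _ fun n => (DFunLike.congr_fun (hφn n) _).trans (hX n i)⟩

lemma algHom_ps_ext {T : CRing Λ k} {φ φ' : PS R r →ₐ[Λ] T.carrier}
    (h : T.res.comp φ = psRes R r) (h' : T.res.comp φ' = psRes R r)
    (hC : ∀ c, φ (MvPowerSeries.C c) = φ' (MvPowerSeries.C c))
    (hX : ∀ i, φ (MvPowerSeries.X i) = φ' (MvPowerSeries.X i)) : φ = φ' := by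
  refine algHom_ext_trunc (S := T) fun n => ?_
  exact congrArg Subtype.val (homSet_ps_ext
    (ψ := ⟨(T.truncHom n).1.comp φ, by rw [← AlgHom.comp_assoc, (T.truncHom n).2, h]⟩)
    (ψ' := ⟨(T.truncHom n).1.comp φ', by rw [← AlgHom.comp_assoc, (T.truncHom n).2, h']⟩)
    (fun c => congrArg (T.truncHom n).1 (hC c)) (fun i => congrArg (T.truncHom n).1 (hX i)))

end GrothLib.ArtFun
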