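import Groth.Agent.Lib.ArtFun.Minimal

/-!
# Functors of Artin rings: pro-representability for an arbitrary residue field extension
-/

universe u v

namespace GrothLib.ArtFun

open _root_.ArtFun CategoryTheory IsLocalRing

variable {Λ : Type u} {k : Type u} [CommRing Λ] [Field k] [Algebra Λ k]
variable {R : CRing Λ k} {F : Art Λ k ⥤ Type v}

/-- A tangent vector of a minimal versal family with trivial image kills the maximal ideal. -/
lemma snd_eq_zero_of_minimal (h0 : H0 F) (h2 : Heps F) {ξ : Family R.carrier R.res F}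
    (hξ : ξ.IsMinimalVersal) (δ : HomSet R.carrier R.res (Art.dual Λ k))
    (hδ : ξ.app _ δ = F.map Art.baseToDual (ξ.app _ homSetBase)) {r : R.carrier}
    (hr : r ∈ maximalIdeal R.carrier) : TrivSqZeroExt.snd (δ.1 r : DualNumber k) = 0 := by
  by_contra hne
  let c : k := TrivSqZeroExt.snd (δ.1 r : DualNumber k)
  let δ' : HomSet R.carrier R.res (Art.dual Λ k) := HomSet.map (Art.scale (-c⁻¹)) δ
  have hδ'r : TrivSqZeroExt.snd (δ'.1 r : DualNumber k) = -1 := by
    change ((-c⁻¹) • LinearMap.id : k →ₗ[k] k) c = -1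
    rw [LinearMap.smul_apply, LinearMap.id_apply, smul_eq_mul, neg_mul, inv_mul_cancel₀ hne]
  have hδ'F : ξ.app _ δ' = F.map Art.baseToDual (ξ.app _ homSetBase) := by
    rw [ξ.natural, hδ, map_map]
    exact congrArg (fun f => F.map f (ξ.app _ homSetBase)) (hom_ext_apply fun a =>
      TrivSqZeroExt.ext rfl (map_zero ((-c⁻¹) • LinearMap.id : k →ₗ[k] k)))
  let B := R.trunc 1
  let t : B := (R.truncHom 1).1 r
  have htm : ∀ a ∈ maximalIdeal B, a * t = 0 := fun a ha => by
    obtain ⟨z, rfl⟩ := truncHom_surjective R 1 a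
    rw [← map_mul]
    refine (truncHom_eq_zero_iff R 1 _).2 ?_
    rw [CRing.mpow, pow_two]
    refine Ideal.mul_mem_mul ((CRing.mem_maximalIdeal_iff R z).2 ?_) hr
    rw [← res_of_homSet (R.truncHom 1)]
    exact res_eq_zero_iff.2 ha
  have ht0 : t ≠ 0 := fun h => hne (by
    have hr2 : r ∈ maximalIdeal R.carrier * maximalIdeal R.carrier := by
      rw [← pow_two]
      exact (truncHom_eq_zero_iff R 1 r).1 h
    refine Submodule.mul_induction_on hr2 (fun a ha b hb => ?_) fun a b ha hb => by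
      rw [map_add]
      exact (congrArg₂ (· + ·) ha hb).trans (add_zero 0)
    have hz : ∀ x ∈ maximalIdeal R.carrier, TrivSqZeroExt.fst (δ.1 x : DualNumber k) = 0 :=
      fun x hx => (res_of_homSet δ x).trans ((CRing.mem_maximalIdeal_iff R x).1 hx)
    rw [map_mul]
    refine (TrivSqZeroExt.snd_mul _ _).trans ?_
    rw [hz a ha, hz b hb]
    simp)
  have hK : Ideal.span {t} ≤ maximalIdeal B := by
    rw [Ideal.span_le, Set.singleton_subset_iff, SetLike.mem_coe, ← res_eq_zero_iff, res_of_homSet]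
    exact (CRing.mem_maximalIdeal_iff R r).1 hr
  have hp : Art.IsSmallExt (Art.quotMk B _ hK) :=
    isSmallExt_of_gen (Art.quotMk_surjective B _ hK) (ker_quotMk hK) ht0 htm
  obtain ⟨P, p₁, p₂, hP⟩ := exists_isFibreProd_of_surjective _ _ hp.1
  obtain ⟨g, hg⟩ := exists_isDiff hp (ker_quotMk hK) hP
  obtain ⟨w, hw₁, hw₂⟩ := homSet_fp_exists (isFibreProd_of_isDiff hp (ker_quotMk hK) hP hg)
    (R.truncHom 1) δ' ((homSet_base_eq _).trans (homSet_base_eq _).symm)
  let e₁ : HomSet R.carrier R.res B := HomSet.map p₂ w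
  have he₁ : ξ.app B e₁ = ξ.app B (R.truncHom 1) :=
    trel_unique hp (ker_quotMk hK) hP hg h2
      ⟨ξ.app P w, by rw [← ξ.natural, hw₁], by rw [← ξ.natural, hw₂, hδ'F],
        (ξ.natural p₂ w).symm⟩
      (trel_zero hp (ker_quotMk hK) hP hg h0 (ξ.app B (R.truncHom 1)) (ξ.app _ homSetBase))
  have he₁r : e₁.1 r = 0 := by
    obtain ⟨a, ha, ha'⟩ := hg (w.1 r)
    have hg' : g (w.1 r) = δ'.1 r := DFunLike.congr_fun (congrArg Subtype.val hw₂) r
    have h1 : p₁ (w.1 r) = t := DFunLike.congr_fun (congrArg Subtype.val hw₁) r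
    rw [hg', hδ'r] at ha
    have e : a * t = -1 * t := mul_eq_mul_of_res_eq (K := Ideal.span {t})
      (by
        rw [← le_bot_iff, Ideal.mul_le]
        intro x hx y hy
        obtain ⟨z, rfl⟩ := Ideal.mem_span_singleton'.1 hy
        rw [Ideal.mem_bot, mul_left_comm, htm x hx, mul_zero])
      (by rw [ha, map_neg, map_one]) (Ideal.mem_span_singleton_self t)
    rw [e, h1, neg_one_mul, eq_sub_iff_add_eq, neg_add_cancel] at ha'
    exact ha'.symm
  obtain ⟨b, hb0, hb⟩ := exists_seq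
    (X := fun n => {a : HomSet R.carrier R.res (R.trunc (n + 1)) //
      ξ.app _ a = ξ.app _ (R.truncHom (n + 1))})
    (fun n a a' => HomSet.map (R.truncMap (n + 1)) a'.1 = a.1) ⟨e₁, he₁⟩ fun n a => by
      obtain ⟨ψ, h₁, h₂⟩ := hξ.1 (R.truncMap (n + 1)) (truncMap_surjective R (n + 1)) a.1
        (ξ.app _ (R.truncHom (n + 1 + 1)))
        (by rw [a.2, ← ξ.natural, CRing.truncMap_truncHom])
      exact ⟨⟨ψ, h₂⟩, h₁⟩
  obtain ⟨e, he, hen⟩ := exists_algHom_of_trunc
    (fun n => HomSet.map (R.truncMap n) (b n).1) fun n => by rw [hb n]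
  have hexi : ξ.along e he = ξ := family_ext (FormalElt.ext' fun n => by
    rw [along_trunc_app, app_eq_of_val_eq ξ (ψ := HomSet.map (R.truncMap n) (b n).1) (hen n),
      ξ.natural, (b n).2, ← ξ.natural, CRing.truncMap_truncHom]
    rfl)
  have hs := hξ.2 R ξ.toFormalElt e he (by rw [push_toFormalElt, hexi])
  have he1 : ∀ x, (R.truncHom 1).1 (e x) = e₁.1 x := fun x => by
    refine (DFunLike.congr_fun (hen 1) x).trans ?_
    change ((HomSet.map (R.truncMap 1) (b 1).1).1 x : B) = e₁.1 x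
    rw [hb 0, hb0]
  obtain ⟨E, hE⟩ := exists_factor_homSet (truncHom_surjective R 1) e₁ fun x hx =>
    RingHom.mem_ker.2 (by
      rw [← he1]
      refine (truncHom_eq_zero_iff R 1 _).2 ?_
      exact CRing.mpow_le_comap e he 1 ((truncHom_eq_zero_iff R 1 x).1 (RingHom.mem_ker.1 hx)))
  have hEa : ∀ x, E ((R.truncHom 1).1 x) = e₁.1 x := fun x =>
    DFunLike.congr_fun (congrArg Subtype.val hE) x
  have hEs : Function.Surjective E := fun a => by
    obtain ⟨x, rfl⟩ := truncHom_surjective R 1 a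
    obtain ⟨y, rfl⟩ := hs x
    exact ⟨(R.truncHom 1).1 y, (hEa y).trans (he1 y).symm⟩
  have hEi := injective_of_surjective_endo (E.toAlgHom : B →+* B) hEs
  exact ht0 (hEi (((hEa r).trans he₁r).trans (map_zero (E.toAlgHom : B →+* B)).symm))

/-- Condition (c) makes minimal versal families injective on tangent vectors. -/
lemma injective_tangent_of_minimal (h0 : H0 F) (h2 : Heps F) {ξ : Family R.carrier R.res F}
    (hξ : ξ.IsMinimalVersal)
    (hc : Function.Injective (fun σ : Art.base Λ k ⟶ Art.dual Λ k =>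
      F.map σ (ξ.app _ homSetBase))) :
    Function.Injective (ξ.app (Art.dual Λ k)) := by
  intro δ₁ δ₂ e
  obtain ⟨w, hw₁, hw₂⟩ := homSet_fp_exists
    (isFibreProd_tsze (Λ := Λ) (LinearMap.fst k k k) (LinearMap.snd k k k) Function.bijective_id)
    δ₁ δ₂ ((homSet_base_eq _).trans (homSet_base_eq _).symm)
  let δ : HomSet R.carrier R.res (Art.dual Λ k) :=
    HomSet.map (tszeHom (LinearMap.fst k k k - LinearMap.snd k k k)) w
  have hz : ξ.app _ w = F.map (tszeHom ((LinearMap.id : k →ₗ[k] k).prod LinearMap.id))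
      (ξ.app (Art.dual Λ k) δ₁) := by
    refine (pair_bijective h0 h2).1 (Prod.ext ?_ ?_)
    · dsimp only
      rw [← ξ.natural, hw₁, map_map, tszeHom_comp, LinearMap.fst_prod]
      exact (L_id (ξ.app (Art.dual Λ k) δ₁)).symm
    · dsimp only
      rw [← ξ.natural, hw₂, map_map, tszeHom_comp, LinearMap.snd_prod]
      exact e.symm.trans (L_id (ξ.app (Art.dual Λ k) δ₁)).symm
  have hδ : ξ.app _ δ = F.map Art.baseToDual (ξ.app _ homSetBase) := by
    refine (ξ.natural _ _).trans ?_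
    rw [hz]
    refine (L_comp ((LinearMap.id : k →ₗ[k] k).prod LinearMap.id)
      (LinearMap.fst k k k - LinearMap.snd k k k) (ξ.app (Art.dual Λ k) δ₁)).trans ?_
    rw [LinearMap.sub_comp, LinearMap.fst_prod, LinearMap.snd_prod, sub_self, tszeHom_zero, ← map_map]
    exact congrArg (fun y => F.map Art.baseToDual y) (h0_eq h0 _ _)
  have hδm : ∀ x, R.res x = 0 → TrivSqZeroExt.snd (δ.1 x : DualNumber k) = 0 := fun x hx =>
    snd_eq_zero_of_minimal h0 h2 hξ δ hδ ((CRing.mem_maximalIdeal_iff R x).2 hx)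
  obtain ⟨σ, hσ⟩ : ∃ σ : Art.base Λ k ⟶ Art.dual Λ k, HomSet.map σ homSetBase = δ :=
    exists_factor_homSet R.res_surjective δ fun x hx => RingHom.mem_ker.2 (TrivSqZeroExt.ext
      ((res_of_homSet δ x).trans (RingHom.mem_ker.1 hx)) (hδm x (RingHom.mem_ker.1 hx)))
  have hσ' : σ = Art.baseToDual := hc (by
    change F.map σ _ = F.map _ _
    rw [← ξ.natural, hσ, hδ])
  refine homSet_ext fun x => TrivSqZeroExt.ext
    ((res_of_homSet δ₁ x).trans (res_of_homSet δ₂ x).symm) ?_
  have h3 : TrivSqZeroExt.snd (δ.1 x : DualNumber k) = 0 := by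
    rw [← hσ, hσ']
    rfl
  have h4 : TrivSqZeroExt.snd (δ.1 x : DualNumber k) =
      TrivSqZeroExt.snd (δ₁.1 x : DualNumber k) - TrivSqZeroExt.snd (δ₂.1 x : DualNumber k) := by
    rw [← hw₁, ← hw₂]
    rfl
  rw [h4, sub_eq_zero] at h3
  exact h3

variable [IsNoetherianRing Λ] [Module.Finite Λ k]

/-- Pro-representability for functors with (RS). -/
lemma isProrepresentable_iff [TangentStr F] :
    IsProrepresentable F ↔
      ((H0 F ∧ ∀ ⦃B A A' A'' : Art Λ k⦄ (p' : B ⟶ A') (p'' : B ⟶ A'') (f' : A' ⟶ A) (f'' : A'' ⟶ A)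
        (h : Art.IsFibreProd p' p'' f' f''), Function.Surjective f'' → Function.Bijective (cmp F h)) ∧
        Hfin F ∧ ∀ x₀ : F.obj (Art.base Λ k),
          Function.Injective (fun σ : Art.base Λ k ⟶ Art.dual Λ k => F.map σ x₀)) := by
  constructor
  · intro h
    obtain ⟨⟨R, ξ, hξ⟩⟩ := h
    have h0 := h0_of_isUniversal ξ hξ
    have hl := isLeftExact_of_isUniversal ξ hξ
    refine ⟨⟨h0, fun _ _ _ _ _ _ _ _ hsq _ => hl _ _ _ _ hsq⟩,
      hfin_of_isProrepresentable ⟨⟨R, ξ, hξ⟩⟩, fun x₀ σ σ' e => ?_⟩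
    have e' : ξ.app _ (HomSet.map σ homSetBase) = ξ.app _ (HomSet.map σ' homSetBase) := by
      rw [ξ.natural, ξ.natural, h0_eq h0 (ξ.app _ homSetBase) x₀]
      exact e
    refine hom_ext_apply fun c => ?_
    obtain ⟨x, rfl⟩ := R.res_surjective c
    exact DFunLike.congr_fun (congrArg Subtype.val ((hξ _).1 e')) x
  · rintro ⟨⟨h0, hrs⟩, h3, hc⟩
    have h1 : S1 F := fun _ _ _ _ p' p'' f' f'' h hf => (hrs p' p'' f' f'' h hf).2
    have h2 : Heps F := fun _ _ p' p'' h => hrs p' p'' _ _ h (toBase_surjective _)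
    have h4 : HSq F := fun _ _ _ p₁ p₂ f h hf => hrs p₁ p₂ f f h hf.1
    obtain ⟨⟨R₀, ξ₀, hξ₀⟩⟩ := hasVersal_of_conditions h0 h1 h2 h3
    obtain ⟨R, π, hπ, j, hj, -, hmin, -⟩ := exists_retract_minimalVersal h0 ξ₀ hξ₀
    have hinj := injective_tangent_of_minimal h0 h2 hmin (hc _)
    exact ⟨⟨R, _, isUniversal_of_isMiniversal _ h0 h4
      ⟨hmin.1, hinj, isVersal_surjective _ hmin.1 h0 _⟩⟩⟩

omit [IsNoetherianRing Λ] [Module.Finite Λ k] in
/-- An endomorphism of a pro-representable functor bijective on tangent vectors is bijective. -/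
lemma bijective_endo (hU : IsProrepresentable F) (φ : F ⟶ F)
    (hd : Function.Bijective (φ.app (Art.dual Λ k))) (A : Art Λ k) :
    Function.Bijective (φ.app A) := by
  obtain ⟨⟨R, ξ, hξ⟩⟩ := hU
  obtain ⟨g, hg, hgφ⟩ := exists_along_eq (h0_of_isUniversal ξ hξ) ξ
    (isMiniversal_of_isUniversal ξ hξ).1 (ξ.push φ)
  let res' : ∀ {A : Art Λ k}, HomSet R.carrier R.res A → HomSet R.carrier R.res A := fun δ =>
    ⟨δ.1.comp g, by rw [← AlgHom.comp_assoc, δ.2, hg]⟩
  have hres : ∀ {A : Art Λ k} (δ : HomSet R.carrier R.res A),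
      ξ.app A (res' δ) = φ.app A (ξ.app A δ) := fun δ =>
    congrArg (fun ζ : Family R.carrier R.res F => ζ.app _ δ) hgφ
  have hinj : Function.Injective (res' (A := Art.dual Λ k)) := fun a b h =>
    (hξ _).1 (hd.1 (by rw [← hres, ← hres, h]))
  have hgs : Function.Surjective g := by
    letI : Algebra R.carrier k := (R.res : R.carrier →+* k).toAlgebra
    haveI : IsScalarTower Λ R.carrier k :=
      IsScalarTower.of_algebraMap_eq fun l => (R.res.commutes l).symm
    haveI := R.isAdicComplete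
    have htower : IsScalarTower.toAlgHom Λ R.carrier k = R.res := AlgHom.ext fun _ => rfl
    refine surjective_of_derivation R R.res_surjective g (htower.symm ▸ hg) fun D₁ D₂ hD => ?_
    obtain ⟨δ₁, h₁⟩ := exists_homSet_of_derivation (fun _ => rfl) D₁
    obtain ⟨δ₂, h₂⟩ := exists_homSet_of_derivation (fun _ => rfl) D₂
    have e12 : δ₁ = δ₂ := hinj (Subtype.ext (AlgHom.ext fun r => TrivSqZeroExt.ext
      ((res_of_homSet δ₁ (g r)).trans (res_of_homSet δ₂ (g r)).symm)
      ((h₁ (g r)).trans ((hD r).trans (h₂ (g r)).symm))))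
    exact Derivation.ext fun r => by rw [← h₁, ← h₂, e12]
  let E := AlgEquiv.ofBijective g ⟨injective_of_surjective_endo (g : R.carrier →+* R.carrier) hgs, hgs⟩
  refine ⟨fun x y h => ?_, fun y => ?_⟩
  · obtain ⟨a, rfl⟩ := (hξ A).2 x
    obtain ⟨b, rfl⟩ := (hξ A).2 y
    rw [← hres, ← hres] at h
    have h' := congrArg Subtype.val ((hξ A).1 h)
    refine congrArg (ξ.app A) (homSet_ext fun r => ?_)
    obtain ⟨s, rfl⟩ := hgs r
    exact DFunLike.congr_fun h' s
  · obtain ⟨b, rfl⟩ := (hξ A).2 y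
    refine ⟨ξ.app A ⟨b.1.comp E.symm.toAlgHom, AlgHom.ext fun r => ?_⟩, ?_⟩
    · obtain ⟨s, rfl⟩ := hgs r
      change A.res (b.1 (E.symm (E s))) = R.res (g s)
      rw [E.symm_apply_apply, res_of_homSet, ← AlgHom.comp_apply R.res g, hg]
    · rw [← hres]
      exact congrArg (ξ.app A) (homSet_ext fun s => congrArg b.1 (E.symm_apply_apply s))

end GrothLib.ArtFun
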