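import Groth.Agent.Lib.ArtFun.ObsPresent
import Groth.Agent.Lib.RegLoc.Basic
import Groth.Agent.Lib.RegLoc.PowerSeries
import Mathlib.RingTheory.RegularLocalRing.Polynomial
import Mathlib.RingTheory.Ideal.KrullsHeightTheorem
import Mathlib.RingTheory.EssentialFiniteness

/-!
# Functors of Artin rings: presentations and dimension bounds
-/

universe u v w

namespace GrothLib.ArtFun

open _root_.ArtFun CategoryTheory IsLocalRing

variable {k : Type u} [Field k]

lemma isAdicComplete_maximalIdeal_field : IsAdicComplete (maximalIdeal k) k := by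
  rw [IsLocalRing.isField_iff_maximalIdeal_eq.1 (Field.toIsField k)]
  infer_instance

/-- `k` as a coefficient ring over itself. -/
noncomputable def fieldCRing (k : Type u) [Field k] : CRing k k :=
  haveI := isAdicComplete_maximalIdeal_field (k := k)
  baseCRing (Λ := k) (fun c => ⟨c, rfl⟩)

/-- Power series rings over `k` are smooth. -/
lemma isSmoothFunctor_hR_ps (n : ℕ) (resS : MvPowerSeries (Fin n) k →ₐ[k] k) :
    IsSmoothFunctor (hR (MvPowerSeries (Fin n) k) resS) := by
  obtain rfl : resS = psRes (fieldCRing k) n := algHom_res_unique _ _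
  intro B A μ hμ (φ : HomSet (PS (fieldCRing k) n) (psRes (fieldCRing k) n) A)
  choose b hb using fun i => hμ (φ.1 (MvPowerSeries.X i))
  obtain ⟨ψ, hC, hX⟩ := exists_homSet_ps (R := fieldCRing k) (r := n)
    (⟨Algebra.ofId k B, AlgHom.ext fun l => B.res.commutes l⟩ :
      HomSet (fieldCRing k).carrier (fieldCRing k).res B) b fun i => by
    rw [← Art.res_app μ (b i), hb]
    exact (res_of_homSet (R := psCRing (fieldCRing k) n) φ _).trans
      ((mem_maximalIdeal_ps _ _).1 (X_mem _ _ i))
  suffices h : HomSet.map μ ψ = φ from ⟨ψ, h⟩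
  refine homSet_ps_ext (fun c => ?_) (fun i => ?_)
  · have e : (MvPowerSeries.C c : PS (fieldCRing k) n) = algebraMap k _ c :=
      (psC (fieldCRing k) n).commutes c
    change μ (ψ.1 _) = _
    rw [e]
    exact ((μ.toAlgHom.comp ψ.1).commutes c).trans (φ.1.commutes c).symm
  · change μ (ψ.1 _) = _
    rw [hX, hb]

/-- A quotient by an ideal inside `m²` has the same number of generators of the maximal ideal. -/
lemma spanFinrank_maximalIdeal_eq_of_surjective {S R : Type*} [CommRing S] [IsLocalRing S]
    [IsNoetherianRing S] [CommRing R] [IsLocalRing R] [IsNoetherianRing R] (f : S →+* R)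
    (hf : Function.Surjective f) (hJ : RingHom.ker f ≤ maximalIdeal S ^ 2) :
    (maximalIdeal S).spanFinrank = (maximalIdeal R).spanFinrank := by
  haveI : IsLocalHom f := IsLocalHom.of_surjective f hf
  have hm : (maximalIdeal S).map f = maximalIdeal R := by
    rw [← maximalIdeal_comap f, Ideal.map_comap_of_surjective _ hf]
  refine le_antisymm ?_ ?_
  · obtain ⟨z, hz⟩ := RegLoc.exists_generators_fin (maximalIdeal R)
    choose g hg using hf
    have hle : Ideal.span (Set.range (g ∘ z)) ≤ maximalIdeal S := by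
      rw [Ideal.span_le]
      rintro _ ⟨i, rfl⟩
      rw [SetLike.mem_coe, ← maximalIdeal_comap f, Ideal.mem_comap, Function.comp_apply, hg]
      exact hz ▸ Ideal.subset_span ⟨i, rfl⟩
    refine RegLoc.spanFinrank_le_of_span (g ∘ z) (RegLoc.eq_maximalIdeal_of_sup_sq hle ?_)
    intro a ha
    have h1 : f a ∈ (Ideal.span (Set.range (g ∘ z))).map f := by
      rw [Ideal.map_span, ← Set.range_comp, show f ∘ g ∘ z = z from funext fun i => hg _, hz, ← hm]
      exact Ideal.mem_map_of_mem f ha
    rw [Ideal.mem_map_iff_of_surjective f (fun r => ⟨g r, hg r⟩)] at h1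
    obtain ⟨b, hb, hab⟩ := h1
    rw [show a = b + (a - b) by ring]
    exact Submodule.add_mem_sup hb (hJ (by rw [RingHom.mem_ker, map_sub, hab, sub_self]))
  · obtain ⟨z, hz⟩ := RegLoc.exists_generators_fin (maximalIdeal S)
    refine RegLoc.spanFinrank_le_of_span (f ∘ z) ?_
    rw [Set.range_comp, ← Ideal.map_span, hz, hm]

/-- A coefficient ring over `k` is a power series ring modulo an ideal inside `m²`. -/
lemma exists_presentation_field (R : CRing k k) :
    ∃ (n : ℕ) (π : MvPowerSeries (Fin n) k →ₐ[k] R.carrier), Function.Surjective π ∧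
      RingHom.ker π ≤ maximalIdeal (MvPowerSeries (Fin n) k) ^ 2 := by
  obtain ⟨n, x, hx, hspan, hli⟩ := exists_minimal_generators (maximalIdeal R.carrier)
    (maximalIdeal R.carrier ^ 2)
  obtain ⟨φ, hφ, hC, hX⟩ := exists_algHom_ps (R := fieldCRing k) (r := n)
    (Algebra.ofId k R.carrier) (AlgHom.ext fun l => R.res.commutes l) x
    fun i => (CRing.mem_maximalIdeal_iff R _).1 (hx i)
  have hs : Function.Surjective φ := surjective_ps hφ (hspan.trans (sup_le_sup_right (Ideal.span_le.2 (by
    rintro _ ⟨i, rfl⟩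
    exact hX i ▸ Ideal.mem_map_of_mem φ (X_mem _ _ i))) _))
  refine ⟨n, φ, hs, ?_⟩
  intro (f : PS (fieldCRing k) n) (hf : φ f = 0)
  have hres : ∀ g, R.res (φ g) = psRes (fieldCRing k) n g := fun g => DFunLike.congr_fun hφ g
  have hf0 : f ∈ maximalIdeal (PS (fieldCRing k) n) :=
    (mem_maximalIdeal_ps (fieldCRing k) n).2 (by rw [← hres, hf, map_zero])
  have hsX : maximalIdeal (PS (fieldCRing k) n) =
      Ideal.span (Set.range (MvPowerSeries.X : Fin n → PS (fieldCRing k) n)) := (RegLoc.PS.span_X k).symm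
  rw [hsX, Ideal.mem_span_range_iff_exists_fun] at hf0
  obtain ⟨c, rfl⟩ := hf0
  have h0 : ∑ i, φ (c i) * x i ∈ maximalIdeal R.carrier ^ 2 := by
    rw [Finset.sum_congr rfl fun i _ => show φ (c i) * x i = φ (c i * MvPowerSeries.X i) by
      rw [map_mul, hX], ← map_sum, hf]
    exact zero_mem _
  change (∑ i, c i * MvPowerSeries.X i) ∈ maximalIdeal (PS (fieldCRing k) n) ^ 2
  refine Ideal.sum_mem _ fun i _ => ?_
  refine (pow_two (maximalIdeal (PS (fieldCRing k) n))).ge
    (Ideal.mul_mem_mul ((mem_maximalIdeal_ps (fieldCRing k) n).2 ?_) (X_mem _ _ i))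
  rw [← hres]
  exact (CRing.mem_maximalIdeal_iff R _).1 (hli (fun i => φ (c i)) h0 i)

/-- Cutting a presentation of a local ring down to its embedding dimension. -/
lemma exists_minimal_regular_presentation {R : Type u} [CommRing R] [Algebra k R] :
    ∀ (d : ℕ) (P : Type u) [CommRing P] [IsRegularLocalRing P] [Algebra k P] (π : P →ₐ[k] R),
      (maximalIdeal P).spanFinrank ≤ d → Function.Surjective π → Nontrivial R →
      ∃ (P' : Type u) (_ : CommRing P') (_ : IsRegularLocalRing P') (_ : Algebra k P')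
        (π' : P' →ₐ[k] R), Function.Surjective π' ∧ RingHom.ker π' ≤ maximalIdeal P' ^ 2 := by
  intro d
  induction d with
  | zero =>
    intro P _ _ _ π hd hπ hR
    have hbot : maximalIdeal P = ⊥ :=
      (Submodule.spanFinrank_eq_zero_iff_eq_bot (IsNoetherian.noetherian _)).1 (Nat.le_zero.1 hd)
    refine ⟨P, inferInstance, inferInstance, inferInstance, π, hπ, ?_⟩
    intro x hx
    have : x ∈ maximalIdeal P := le_maximalIdeal (RingHom.ker_ne_top (π : P →+* R)) hx
    rw [hbot, Ideal.mem_bot] at this
    rw [this]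
    exact zero_mem _
  | succ d ih =>
    intro P _ _ _ π hd hπ hR
    by_cases hJ : RingHom.ker π ≤ maximalIdeal P ^ 2
    · exact ⟨P, inferInstance, inferInstance, inferInstance, π, hπ, hJ⟩
    · obtain ⟨y, hy, hy2⟩ := SetLike.not_le_iff_exists.1 hJ
      have hym : y ∈ maximalIdeal P := le_maximalIdeal (RingHom.ker_ne_top (π : P →+* R)) hy
      obtain ⟨hreg, -, hrk⟩ := RegLoc.quotient_isRegularLocalRing hym hy2
      haveI := hreg
      have hyk : Ideal.span {y} ≤ RingHom.ker π := (Ideal.span_singleton_le_iff_mem _).2 hy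
      refine ih (P ⧸ Ideal.span {y}) (Ideal.Quotient.liftₐ _ π fun a ha => hyk ha) ?_ ?_ hR
      · rw [← RegLoc.map_maximalIdeal_quotient]
        omega
      · intro r
        obtain ⟨a, rfl⟩ := hπ r
        exact ⟨Ideal.Quotient.mk _ a, rfl⟩

/-- A local ring essentially of finite type over `k` has a minimal regular presentation. -/
lemma exists_regular_presentation (R : Type u) [CommRing R] [IsLocalRing R] [Algebra k R]
    [Algebra.EssFiniteType k R] :
    ∃ (P : Type u) (_ : CommRing P) (_ : IsRegularLocalRing P) (_ : Algebra k P) (π : P →ₐ[k] R),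
      Function.Surjective π ∧ RingHom.ker π ≤ maximalIdeal P ^ 2 := by
  let B := Algebra.EssFiniteType.subalgebra k R
  obtain ⟨m, f, hf⟩ := Algebra.FiniteType.iff_quotient_mvPolynomial''.1
    (inferInstance : Algebra.FiniteType k B)
  let g : MvPolynomial (Fin m) k →ₐ[k] R := B.val.comp f
  let p : Ideal (MvPolynomial (Fin m) k) := (maximalIdeal R).comap g
  haveI : p.IsPrime := Ideal.IsPrime.comap g
  have hu : ∀ y : p.primeCompl, IsUnit (g y) := fun y => by
    rw [← IsLocalRing.notMem_maximalIdeal]
    exact y.2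
  let π : Localization.AtPrime p →ₐ[k] R := IsLocalization.liftAlgHom hu
  have hπs : Function.Surjective π := fun r => by
    obtain ⟨⟨b, s⟩, hbs⟩ := IsLocalization.surj (Algebra.EssFiniteType.submonoid k R) r
    obtain ⟨b', hb'⟩ := hf b
    obtain ⟨s', hs'⟩ := hf s
    have hsu : IsUnit (g s') := by
      change IsUnit (B.val (f s'))
      rw [hs']
      exact s.2
    refine ⟨IsLocalization.mk' _ b' (⟨s', fun h => (IsLocalRing.mem_maximalIdeal _).1 h hsu⟩ : p.primeCompl), ?_⟩
    rw [IsLocalization.liftAlgHom_apply, IsLocalization.lift_mk'_spec]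
    change B.val (f b') = B.val (f s') * r
    rw [hb', hs', mul_comm]
    exact hbs.symm
  haveI : IsRegularLocalRing (Localization.AtPrime p) :=
    IsRegularRing.isRegularLocalRing_localization p
  exact exists_minimal_regular_presentation _ (Localization.AtPrime p) π le_rfl hπs inferInstance

/-- The dimension estimates from an obstruction theory. -/
lemma dim_bounds_of_presentation {P R : Type u} [CommRing P] [IsRegularLocalRing P] [Algebra k P]
    [CommRing R] [IsLocalRing R] [IsNoetherianRing R] [Algebra k R] (res : R →ₐ[k] k)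
    (π : P →ₐ[k] R) (hπ : Function.Surjective π) (hJ : RingHom.ker π ≤ maximalIdeal P ^ 2)
    {W : Type u} [AddCommGroup W] [Module k W] [Module.Finite k W] (T : ObsTheory (hR R res) W) :
    ringKrullDim R ≤ (Module.finrank (ResidueField R) (CotangentSpace R) : WithBot ℕ∞) ∧
      (Module.finrank (ResidueField R) (CotangentSpace R) : WithBot ℕ∞) ≤
          ringKrullDim R + (Module.finrank k W : WithBot ℕ∞) ∧
      (Module.finrank k W = 0 → IsRegularLocalRing R) ∧
      (ringKrullDim R + (Module.finrank k W : WithBot ℕ∞) =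
          (Module.finrank (ResidueField R) (CotangentSpace R) : WithBot ℕ∞) →
        ∃ (P : Type u) (_ : CommRing P) (_ : IsRegularLocalRing P) (π : P →+* R) (s : Finset P),
          Function.Surjective π ∧ Ideal.span (s : Set P) = RingHom.ker π ∧
            ringKrullDim P = ringKrullDim R + (s.card : WithBot ℕ∞)) := by
  classical
  have hdd : Module.finrank (ResidueField R) (CotangentSpace R) = (maximalIdeal P).spanFinrank := by
    rw [← spanFinrank_maximalIdeal_eq_finrank_cotangentSpace]
    exact (spanFinrank_maximalIdeal_eq_of_surjective π.toRingHom hπ hJ).symm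
  have hP : ringKrullDim P = ((maximalIdeal P).spanFinrank : WithBot ℕ∞) :=
    IsRegularLocalRing.spanFinrank_maximalIdeal.symm
  obtain ⟨hQ, g, hg⟩ := cotQuot_finite_generators (res.comp π) (RingHom.ker π)
  have hle : Module.finrank k (CotQ π) ≤ Module.finrank k W :=
    finrank_cotQuot_le (resS := res.comp π) π hπ rfl hJ T
  let s : Finset P := Finset.univ.image g
  have hs : Ideal.span (s : Set P) = RingHom.ker π := by
    rw [Finset.coe_image, Finset.coe_univ, Set.image_univ, hg]
  have hcard : s.card ≤ Module.finrank k W :=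
    (Finset.card_image_le.trans (by simp)).trans hle
  have hdimR : ringKrullDim (P ⧸ RingHom.ker π) = ringKrullDim R :=
    ringKrullDim_eq_of_ringEquiv (Ideal.quotientKerAlgEquivOfSurjective hπ).toRingEquiv
  have hkey : ringKrullDim P ≤ ringKrullDim R + (s.card : WithBot ℕ∞) := by
    rw [← hdimR, ← hs]
    refine ringKrullDim_le_ringKrullDim_quotient_add_card s ?_
    rw [Ring.jacobson_eq_sInf_isMaximal]
    intro x hx
    rw [SetLike.mem_coe, Submodule.mem_sInf]
    intro M hM
    rw [IsLocalRing.eq_maximalIdeal hM]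
    exact hJ.trans (Ideal.pow_le_self two_ne_zero) (hs ▸ Ideal.subset_span hx)
  refine ⟨?_, ?_, fun h0 => ?_, fun hci => ?_⟩
  · rw [← spanFinrank_maximalIdeal_eq_finrank_cotangentSpace]
    exact ringKrullDim_le_spanFinrank_maximalIdeal R
  · rw [hdd, ← hP]
    exact hkey.trans (add_le_add le_rfl (Nat.cast_le.2 hcard))
  · have hs0 : s = ∅ := Finset.card_eq_zero.1 (Nat.le_zero.1 (h0 ▸ hcard))
    rw [hs0, Finset.coe_empty, Ideal.span_empty] at hs
    exact IsRegularLocalRing.of_ringEquiv
      (RingEquiv.ofBijective π.toRingHom ⟨(RingHom.injective_iff_ker_eq_bot _).2 hs.symm, hπ⟩)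
  · refine ⟨P, inferInstance, inferInstance, π.toRingHom, s, hπ, hs, le_antisymm hkey ?_⟩
    rw [hP, ← hdd, ← hci]
    exact add_le_add le_rfl (Nat.cast_le.2 hcard)

/-- Transport of obstruction theories along a linear equivalence. -/
lemma hasObsTheory_congr {F : Art k k ⥤ Type v} {V W : Type u} [AddCommGroup V] [Module k V]
    [AddCommGroup W] [Module k W] (e : V ≃ₗ[k] W) (h : HasObsTheory F V) : HasObsTheory F W := by
  obtain ⟨T⟩ := h
  refine ⟨⟨fun p hp u => e.rTensor _ (T.obs p hp u), fun p hp u => ?_, fun p hp K hK hKJ hq u => ?_⟩⟩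
  · rw [LinearEquiv.map_eq_zero_iff]
    exact T.obs_eq_zero_iff p hp u
  · rw [T.obs_quot p hp K hK hKJ hq u]
    exact DFunLike.congr_fun ((LinearMap.rTensor_comp_lTensor _ _ _).trans
      (LinearMap.lTensor_comp_rTensor _ _ _).symm) _

/-- An obstruction theory pulls back along a morphism with the lifting property. -/
lemma hasObsTheory_of_lifting {F : Art k k ⥤ Type v} {G : Art k k ⥤ Type w}
    {V : Type u} [AddCommGroup V] [Module k V] (η : ∀ A : Art k k, G.obj A → F.obj A)
    (hnat : ∀ {A B : Art k k} (f : A ⟶ B) (x : G.obj A), η B (G.map f x) = F.map f (η A x))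
    (hlift : ∀ ⦃B A : Art k k⦄ (μ : B ⟶ A), Function.Surjective μ → ∀ (x : G.obj A) (y : F.obj B),
      F.map μ y = η A x → ∃ z : G.obj B, G.map μ z = x)
    (h : HasObsTheory F V) : HasObsTheory G V := by
  obtain ⟨T⟩ := h
  refine ⟨⟨fun p hp u => T.obs p hp (η _ u), fun p hp u => ?_,
    fun p hp K hK hKJ hq u => T.obs_quot p hp K hK hKJ hq _⟩⟩
  refine (T.obs_eq_zero_iff p hp _).trans ⟨fun ⟨y, hy⟩ => hlift p hp.1 u y hy, ?_⟩
  rintro ⟨z, rfl⟩
  exact ⟨η _ z, (hnat p z).symm⟩

end GrothLib.ArtFun
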