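import Groth.Agent.Lib.ArtFun.Torsor

/-!
# Functors of Artin rings: deformation functors (`Hbar`, `Heps`, `HSq`) have bijective comparison maps
-/

universe u v

namespace GrothLib.ArtFun

open _root_.ArtFun CategoryTheory IsLocalRing

variable {Λ : Type u} {k : Type u} [CommRing Λ] [Field k] [Algebra Λ k] {F : Art Λ k ⥤ Type v}

/-- `H0`, `Hbar`, `Heps` and `HSq` give bijective comparison maps along all surjections. -/
lemma rs_of_hbar_heps_hsq (h0 : H0 F) (h1 : Hbar F) (h2 : Heps F) (h4 : HSq F)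
    ⦃B A A' A'' : Art Λ k⦄ (p' : B ⟶ A') (p'' : B ⟶ A'') (f' : A' ⟶ A) (f'' : A'' ⟶ A)
    (h : Art.IsFibreProd p' p'' f' f'') (hf : Function.Surjective f'') :
    Function.Bijective (cmp F h) := by
  refine rs_of_smallExt F (fun B A A' A'' p' p'' f' f'' h hf => ⟨?_, h1 p' p'' f' f'' h hf⟩)
    p' p'' f' f'' h hf
  intro x y e
  have e₁ : F.map p' x = F.map p' y := congrArg (fun t => t.1.1) e
  have e₂ : F.map p'' x = F.map p'' y := congrArg (fun t => t.1.2) e
  have hp' := isSmallExt_fst h hf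
  obtain ⟨s, hsker, -, -, hs⟩ := smallExt_exists_gen hp'
  have hker : RingHom.ker f''.toAlgHom = Ideal.span {p'' s} := by
    refine le_antisymm (fun a ha => ?_) ?_
    · obtain ⟨b, hb₁, rfl⟩ := h.surj 0 a (by rw [map_zero, mem_ker_iff.1 ha])
      have : b ∈ Ideal.span {s} := by rw [← hsker, mem_ker_iff, hb₁]
      obtain ⟨c, rfl⟩ := Ideal.mem_span_singleton'.1 this
      exact Ideal.mem_span_singleton'.2 ⟨p'' c, (map_mul _ _ _).symm⟩
    · rw [Ideal.span_le, Set.singleton_subset_iff]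
      refine mem_ker_iff.2 ?_
      rw [← h.w_apply, hs, map_zero]
  obtain ⟨P, p₁, p₂, hP⟩ := exists_isFibreProd_of_surjective p' p' hp'.1
  obtain ⟨Q, q₁, q₂, hQ⟩ := exists_isFibreProd_of_surjective f'' f'' hf.1
  obtain ⟨g, hg⟩ := exists_isDiff hp' hsker hP
  obtain ⟨g', hg'⟩ := exists_isDiff hf hker hQ
  obtain ⟨r, hr₁, hr₂⟩ := fp_exists_lift hQ (p₁ ≫ p'') (p₂ ≫ p'') (by
    simp only [Category.assoc, ← h.w]
    rw [← Category.assoc, hP.w, Category.assoc])
  have hr : r ≫ g' = g := by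
    refine hom_ext_apply fun z => TrivSqZeroExt.ext ?_ ?_
    · change TrivSqZeroExt.fst (g' (r z)) = TrivSqZeroExt.fst (g z)
      rw [dual_fst_eq g', dual_fst_eq g, Art.res_app]
    · change TrivSqZeroExt.snd (g' (r z)) = TrivSqZeroExt.snd (g z)
      obtain ⟨a, ha, ha'⟩ := hg z
      obtain ⟨b, hb, hb'⟩ := hg' (r z)
      rw [← ha, ← hb, ← Art.res_app p'' a]
      refine res_eq_of_mul_eq hf hker ?_
      rw [hb', ← map_mul, ha', map_sub,
        show q₁ (r z) = p'' (p₁ z) from apply_congr_hom hr₁ z,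
        show q₂ (r z) = p'' (p₂ z) from apply_congr_hom hr₂ z]
  obtain ⟨θ, hθ⟩ := trel_transitive (g := g) hp' hP h1 e₁
  obtain ⟨pt⟩ := h0.1
  have hθ' : TRel q₁ q₂ g' θ (F.map p'' x) (F.map p'' y) := by
    obtain ⟨z, a, b, c⟩ := hθ
    exact ⟨F.map r z, by rw [map_map, hr₁, ← map_map, a], by rw [map_map, hr, b],
      by rw [map_map, hr₂, ← map_map, c]⟩
  rw [← e₂] at hθ'
  rw [trel_free hf hQ h4 hθ' (trel_zero hf hker hQ hg' h0 _ pt)] at hθ
  exact trel_unique hp' hsker hP hg h2 (trel_zero hp' hsker hP hg h0 x pt) hθ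

end GrothLib.ArtFun
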