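import Groth.Agent.Lib.ArtFun.SmallExt

/-!
# Functors of Artin rings: smooth morphisms
-/

universe u v

namespace GrothLib.ArtFun

open _root_.ArtFun CategoryTheory IsLocalRing

variable {Λ : Type u} {k : Type u} [CommRing Λ] [Field k] [Algebra Λ k]
variable {F G H : Art Λ k ⥤ Type v}

lemma naturality' (η : F ⟶ G) {A B : Art Λ k} (f : A ⟶ B) (x : F.obj A) :
    η.app B (F.map f x) = G.map f (η.app A x) := NatTrans.naturality_apply η f x

lemma relCmp_surjective_iff (η : F ⟶ G) {B A : Art Λ k} (μ : B ⟶ A) :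
    Function.Surjective (relCmp η μ) ↔ ∀ (x : F.obj A) (y : G.obj B), η.app A x = G.map μ y →
      ∃ z : F.obj B, F.map μ z = x ∧ η.app B z = y :=
  ⟨fun hs x y e => by
    obtain ⟨z, hz⟩ := hs ⟨(x, y), e⟩
    exact ⟨z, congrArg (fun t => t.1.1) hz, congrArg (fun t => t.1.2) hz⟩,
  fun hs p => by
    obtain ⟨z, h₁, h₂⟩ := hs p.1.1 p.1.2 p.2
    exact ⟨z, Subtype.ext (Prod.ext h₁ h₂)⟩⟩

lemma isSmooth_iff (η : F ⟶ G) :
    IsSmooth η ↔ ∀ ⦃B A : Art Λ k⦄ (μ : B ⟶ A), Function.Surjective μ →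
      ∀ (x : F.obj A) (y : G.obj B), η.app A x = G.map μ y →
        ∃ z : F.obj B, F.map μ z = x ∧ η.app B z = y :=
  forall₄_congr fun _ _ μ _ => relCmp_surjective_iff η μ

/-- Lifting along small extensions suffices for smoothness. -/
lemma isSmooth_of_small (η : F ⟶ G)
    (h : ∀ ⦃B A : Art Λ k⦄ (μ : B ⟶ A), Art.IsSmallExt μ →
      ∀ (x : F.obj A) (y : G.obj B), η.app A x = G.map μ y →
        ∃ z : F.obj B, F.map μ z = x ∧ η.app B z = y) : IsSmooth η := by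
  rw [isSmooth_iff]
  intro B A μ hμ
  refine surj_induction (fun A B μ => ∀ (x : F.obj A) (y : G.obj B), η.app A x = G.map μ y →
    ∃ z : F.obj B, F.map μ z = x ∧ η.app B z = y) ?_ ?_ ?_ μ hμ
  · intro A B e he x y hxy
    refine ⟨F.map (inv e) x, map_inv_hom F e x, (map_bijective_of_isIso G e).1 ?_⟩
    rw [← naturality', map_inv_hom, hxy]
  · intro A B p hp
    exact h p hp
  · intro A B C p q hp hq hP hQ x y hxy
    obtain ⟨b, hb₁, hb₂⟩ := hQ x (G.map p y) (by rw [hxy, map_map])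
    obtain ⟨z, hz₁, hz₂⟩ := hP b y hb₂
    exact ⟨z, by rw [← map_map, hz₁, hb₁], hz₂⟩

/-- Lifting along small extensions suffices for smoothness of a functor. -/
lemma isSmoothFunctor_of_small
    (h : ∀ ⦃B A : Art Λ k⦄ (μ : B ⟶ A), Art.IsSmallExt μ → Function.Surjective (F.map μ)) :
    IsSmoothFunctor F := by
  intro B A μ hμ
  refine surj_induction (fun A B μ => Function.Surjective (F.map μ)) ?_ ?_ ?_ μ hμ
  · intro A B e he
    exact (map_bijective_of_isIso F e).2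
  · intro A B p hp
    exact h p hp
  · intro A B C p q hp hq hP hQ x
    obtain ⟨b, rfl⟩ := hQ x
    obtain ⟨c, rfl⟩ := hP b
    exact ⟨c, (map_map F p q c).symm⟩

lemma surjective_app_of_isSmooth (η : F ⟶ G) (hη : IsSmooth η)
    (h0 : Function.Surjective (η.app (Art.base Λ k))) (A : Art Λ k) :
    Function.Surjective (η.app A) := fun y => by
  obtain ⟨x, hx⟩ := h0 (G.map (Art.toBase A) y)
  obtain ⟨z, -, hz⟩ := (isSmooth_iff η).1 hη (Art.toBase A) (toBase_surjective A) x y hx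
  exact ⟨z, hz⟩

lemma h0_eq (h0 : H0 F) (x y : F.obj (Art.base Λ k)) : x = y := @Subsingleton.elim _ h0.2 x y

lemma surjective_app_base_of_h0 (η : F ⟶ G) (hF : H0 F) (hG : H0 G) :
    Function.Surjective (η.app (Art.base Λ k)) := fun _ =>
  hF.1.elim fun x => ⟨x, h0_eq hG _ _⟩

lemma isSmooth_comp (φ : F ⟶ G) (ψ : G ⟶ H) (hφ : IsSmooth φ) (hψ : IsSmooth ψ) :
    IsSmooth (φ ≫ ψ) := by
  rw [isSmooth_iff] at *
  intro B A μ hμ x y e
  obtain ⟨g, hg₁, hg₂⟩ := hψ μ hμ (φ.app A x) y e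
  obtain ⟨z, hz₁, hz₂⟩ := hφ μ hμ x g hg₁.symm
  exact ⟨z, hz₁, (congrArg (ψ.app B) hz₂).trans hg₂⟩

lemma isSmooth_of_comp (φ : F ⟶ G) (ψ : G ⟶ H) (hφ : ∀ A, Function.Surjective (φ.app A))
    (h : IsSmooth (φ ≫ ψ)) : IsSmooth ψ := by
  rw [isSmooth_iff] at *
  intro B A μ hμ x y e
  obtain ⟨x', rfl⟩ := hφ A x
  obtain ⟨z, hz₁, hz₂⟩ := h μ hμ x' y e
  exact ⟨φ.app B z, by rw [← naturality', hz₁], hz₂⟩

section Family

variable {R : Type u} [CommRing R] [Algebra Λ R] {resR : R →ₐ[Λ] k}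

/-- The point of `h_R(k)`. -/
def homSetBase : HomSet R resR (Art.base Λ k) := ⟨resR, AlgHom.id_comp _⟩

lemma homSet_base_eq (φ : HomSet R resR (Art.base Λ k)) : φ = homSetBase :=
  Subtype.ext ((AlgHom.id_comp φ.1).symm.trans φ.2)

lemma homSet_map_comp {A B C : Art Λ k} (f : A ⟶ B) (g : B ⟶ C) (φ : HomSet R resR A) :
    HomSet.map g (HomSet.map f φ) = HomSet.map (f ≫ g) φ :=
  Subtype.ext (AlgHom.ext fun _ => rfl)

lemma isVersal_surjective (ξ : Family R resR F) (hξ : IsVersal ξ) (h0 : H0 F) (A : Art Λ k) :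
    Function.Surjective (ξ.app A) := fun y => by
  obtain ⟨ψ, -, hψ⟩ := hξ (Art.toBase A) (toBase_surjective A) homSetBase y (h0_eq h0 _ _)
  exact ⟨ψ, hψ⟩

lemma h0_of_family_surjective (ξ : Family R resR F)
    (hs : Function.Surjective (ξ.app (Art.base Λ k))) : H0 F :=
  ⟨⟨ξ.app _ homSetBase⟩, ⟨fun x y => by
    obtain ⟨a, rfl⟩ := hs x
    obtain ⟨b, rfl⟩ := hs y
    rw [homSet_base_eq a, homSet_base_eq b]⟩⟩

/-- Lifting along small extensions suffices for versality. -/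
lemma isVersal_of_small (ξ : Family R resR F)
    (h : ∀ ⦃B A : Art Λ k⦄ (μ : B ⟶ A), Art.IsSmallExt μ →
      ∀ (φ : HomSet R resR A) (y : F.obj B), F.map μ y = ξ.app A φ →
        ∃ ψ : HomSet R resR B, HomSet.map μ ψ = φ ∧ ξ.app B ψ = y) : IsVersal ξ := by
  intro B A μ hμ
  refine surj_induction (fun A B μ => ∀ (φ : HomSet R resR A) (y : F.obj B),
    F.map μ y = ξ.app A φ → ∃ ψ : HomSet R resR B, HomSet.map μ ψ = φ ∧ ξ.app B ψ = y) ?_ ?_ ?_ μ hμ
  · intro A B e he φ y hy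
    refine ⟨HomSet.map (inv e) φ, ?_, ?_⟩
    · rw [homSet_map_comp, IsIso.inv_hom_id]
      exact Subtype.ext (AlgHom.ext fun _ => rfl)
    · rw [ξ.natural, ← hy, map_hom_inv]
  · intro A B p hp
    exact h p hp
  · intro A B C p q hp hq hP hQ φ y hy
    obtain ⟨b, hb₁, hb₂⟩ := hQ φ (F.map p y) (by rw [map_map, hy])
    obtain ⟨c, hc₁, hc₂⟩ := hP b y hb₂.symm
    exact ⟨c, by rw [← homSet_map_comp, hc₁, hb₁], hc₂⟩

end Family

end GrothLib.ArtFun
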