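import Groth.Agent.Lib.ArtFun.Minimal

/-!
# Functors of Artin rings: recognising power series extensions
-/

universe u v

namespace GrothLib.ArtFun

open _root_.ArtFun CategoryTheory IsLocalRing

section Generators

variable {B : Type u} [CommRing B] [IsNoetherianRing B] [IsLocalRing B]

/-- Generators of an ideal modulo a smaller one which are independent in the residue field. -/
lemma exists_minimal_generators (J N : Ideal B) :
    ∃ (r : ℕ) (x : Fin r → B), (∀ i, x i ∈ J) ∧ J ≤ Ideal.span (Set.range x) ⊔ N ∧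
      ∀ c : Fin r → B, ∑ i, c i * x i ∈ N → ∀ i, c i ∈ maximalIdeal B := by
  classical
  have hex : ∃ r, ∃ x : Fin r → B, (∀ i, x i ∈ J) ∧ J ≤ Ideal.span (Set.range x) ⊔ N := by
    obtain ⟨r, g, hg⟩ := Submodule.fg_iff_exists_fin_generating_family.1 (IsNoetherian.noetherian J)
    refine ⟨r, g, fun i => hg ▸ Submodule.subset_span ⟨i, rfl⟩, le_sup_of_le_left ?_⟩
    exact le_of_eq hg.symm
  obtain ⟨x, hx, hspan⟩ := Nat.find_spec hex
  refine ⟨_, x, hx, hspan, fun c hc i => ?_⟩
  by_contra hu
  obtain ⟨s, hs⟩ := Nat.exists_eq_succ_of_ne_zero (Nat.pos_iff_ne_zero.1 i.pos)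
  obtain ⟨b, hb⟩ := isUnit_iff_exists_inv'.1 (IsLocalRing.notMem_maximalIdeal.1 hu)
  let emb : Fin s → Fin (Nat.find hex) := fun j => Fin.cast hs.symm ((Fin.cast hs i).succAbove j)
  refine Nat.find_min hex (show s < Nat.find hex by omega)
    ⟨fun j => x (emb j), fun j => hx _, hspan.trans (sup_le (Ideal.span_le.2 ?_) le_sup_right)⟩
  have hsurj : ∀ l, l ≠ i → ∃ j, emb j = l := fun l hl => by
    obtain ⟨j, hj⟩ := Fin.exists_succAbove_eq (x := Fin.cast hs l) (y := Fin.cast hs i)
      (fun e => hl (Fin.cast_injective _ e))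
    exact ⟨j, Fin.cast_injective hs (by simp [emb, hj])⟩
  rintro _ ⟨l, rfl⟩
  by_cases hl : l = i
  · subst hl
    have hsum := Finset.add_sum_erase Finset.univ (fun l => c l * x l) (Finset.mem_univ l)
    have e : x l = b * ∑ m, c m * x m - b * ∑ m ∈ Finset.univ.erase l, c m * x m := by
      rw [← hsum]
      linear_combination -(x l) * hb
    rw [e]
    refine sub_mem (Ideal.mem_sup_right (Ideal.mul_mem_left _ _ hc)) (Ideal.mul_mem_left _ _ ?_)
    refine Ideal.sum_mem _ fun m hm => Ideal.mul_mem_left _ _ (Ideal.mem_sup_left ?_)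
    obtain ⟨j, rfl⟩ := hsurj m (Finset.mem_erase.1 hm).1
    exact Ideal.subset_span ⟨j, rfl⟩
  · obtain ⟨j, rfl⟩ := hsurj l hl
    exact Ideal.mem_sup_left (Ideal.subset_span ⟨j, rfl⟩)

end Generators

variable {Λ : Type u} {k : Type u} [CommRing Λ] [Field k] [Algebra Λ k]
variable {R S : CRing Λ k} {r : ℕ}

/-- Decomposition of a power series into its constant and a combination of the variables. -/
lemma exists_decomp (s : PS R r) : ∃ g : Fin r → PS R r,
    s = MvPowerSeries.C (MvPowerSeries.constantCoeff s) + ∑ i, MvPowerSeries.X i * g i := by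
  have h : s - MvPowerSeries.C (MvPowerSeries.constantCoeff s) ∈
      Ideal.span (Set.range (MvPowerSeries.X : Fin r → PS R r)) ^ 1 := by
    refine mem_span_X_pow R r ?_
    rw [map_sub]
    ext d
    rw [MvPolynomial.coeff_sub, MvPolynomial.coeff_zero]
    rcases Nat.eq_zero_or_pos d.degree with h | h
    · have hd : d = 0 := (Finsupp.degree_eq_zero_iff _).1 h
      subst hd
      rw [MvPowerSeries.coeff_truncTotal _ (by simp), MvPowerSeries.coeff_truncTotal _ (by simp),
        MvPowerSeries.coeff_zero_eq_constantCoeff, MvPowerSeries.constantCoeff_C, sub_self]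
    · rw [MvPowerSeries.coeff_truncTotal_eq_zero _ h, MvPowerSeries.coeff_truncTotal_eq_zero _ h,
        sub_zero]
  rw [pow_one] at h
  obtain ⟨g, hg⟩ := (Ideal.mem_span_range_iff_exists_fun).1 h
  exact ⟨g, by rw [← sub_eq_iff_eq_add', ← hg]; exact Finset.sum_congr rfl fun i _ => mul_comm _ _⟩

/-- A map out of a power series ring compatible with the augmentations. -/
lemma res_comp_of_C_X {f : R.carrier →ₐ[Λ] S.carrier} (hf : S.res.comp f = R.res)
    (φ : PS R r →ₐ[Λ] S.carrier) (hC : ∀ c, φ (MvPowerSeries.C c) = f c)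
    (hX : ∀ i, S.res (φ (MvPowerSeries.X i)) = 0) : S.res.comp φ = psRes R r := by
  refine AlgHom.ext fun s => ?_
  obtain ⟨g, hg⟩ := exists_decomp s
  rw [AlgHom.comp_apply, psRes_apply]
  conv_lhs => rw [hg]
  rw [map_add, map_sum, map_add, map_sum, hC, ← AlgHom.comp_apply S.res f, hf,
    Finset.sum_eq_zero (fun i _ => by rw [map_mul, map_mul, hX, zero_mul]), add_zero]

lemma surjective_ps {φ : PS R r →ₐ[Λ] S.carrier} (hφ : S.res.comp φ = psRes R r)
    (h : maximalIdeal S.carrier ≤ (maximalIdeal (PS R r)).map φ ⊔ maximalIdeal S.carrier ^ 2) :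
    Function.Surjective φ := by
  haveI := S.isAdicComplete
  exact surjective_of_cotangent' (psCRing R r) S.res_surjective φ hφ h

lemma res_homSet_ps {φ : PS R r →ₐ[Λ] S.carrier} (hφ : S.res.comp φ = psRes R r) {s : PS R r}
    (hs : s ∈ maximalIdeal (PS R r)) : φ s ∈ maximalIdeal S.carrier :=
  CRing.maximalIdeal_le_comap (R' := psCRing R r) φ hφ hs

/-- A surjection from a power series ring, bijective to first order and having first order lifts
to all truncations, is bijective. -/
lemma bijective_of_lifts [IsNoetherianRing Λ] [Module.Finite Λ k] {φ : PS R r →ₐ[Λ] S.carrier}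
    (hφ : S.res.comp φ = psRes R r) (hs : Function.Surjective φ)
    (h1 : ∀ s, φ s ∈ maximalIdeal S.carrier ^ 2 → s ∈ maximalIdeal (PS R r) ^ 2)
    (hl : ∀ n, ∃ ψ : HomSet S.carrier S.res ((psCRing R r).trunc (n + 1)),
      ∀ x s, ((psCRing R r).truncHom (n + 1)).1 s = ψ.1 x →
        x - φ s ∈ maximalIdeal S.carrier ^ 2) : Function.Bijective φ := by
  refine ⟨(injective_iff_map_eq_zero _).2 fun s hs0 => ?_, hs⟩
  refine eq_of_forall_trunc (S := psCRing R r) fun n => ?_
  obtain ⟨ψ, hψ⟩ := hl n
  let P := (psCRing R r).trunc (n + 1)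
  let χ : HomSet (psCRing R r).carrier (psCRing R r).res P :=
    ⟨ψ.1.comp φ, by rw [← AlgHom.comp_assoc, ψ.2]; exact hφ⟩
  obtain ⟨E, hE⟩ := exists_factor_homSet (truncHom_surjective (psCRing R r) (n + 1)) χ fun x hx => by
    obtain ⟨m, hm⟩ := exists_factor_trunc χ
    obtain ⟨u, hu⟩ := hm
    have hx' : x ∈ CRing.mpow (psCRing R r) (n + 1) :=
      (truncHom_eq_zero_iff _ _ _).1 (RingHom.mem_ker.1 hx)
    refine RingHom.mem_ker.2 ?_
    have h2 : (CRing.mpow (psCRing R r) (n + 1)).map χ.1 ≤ maximalIdeal P ^ (n + 1 + 1) := by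
      rw [CRing.mpow, Ideal.map_pow]
      refine Ideal.pow_right_mono (Ideal.map_le_iff_le_comap.2 fun a ha => ?_) _
      rw [Ideal.mem_comap, ← res_eq_zero_iff]
      exact (res_of_homSet χ a).trans ((CRing.mem_maximalIdeal_iff _ a).1 ha)
    have h3 : maximalIdeal P ^ (n + 1 + 1) = ⊥ := by
      refine le_bot_iff.1 ((Ideal.pow_right_mono (CRing.maximalIdeal_quot_le (psCRing R r) (n + 1))
        _).trans ?_)
      rw [← Ideal.map_pow]
      exact le_of_eq (Ideal.map_quotient_self _)
    simpa [h3] using h2 (Ideal.mem_map_of_mem _ hx')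
  have hEs : ∀ y, E (((psCRing R r).truncHom (n + 1)).1 y) = ψ.1 (φ y) := fun y =>
    DFunLike.congr_fun (congrArg Subtype.val hE) y
  have hsur : Function.Surjective E := by
    refine surjective_of_cotangent E fun a ha => ?_
    obtain ⟨y, rfl⟩ := truncHom_surjective (psCRing R r) (n + 1) a
    obtain ⟨z, hz⟩ := truncHom_surjective (psCRing R r) (n + 1) (ψ.1 (φ y))
    have hyz : y - z ∈ maximalIdeal (PS R r) ^ 2 := by
      have hy' : φ (show PS R r from y) - φ (show PS R r from z) ∈ maximalIdeal S.carrier ^ 2 := hψ _ z hz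
      rw [← map_sub] at hy'
      exact h1 _ hy' 
    have hy : y ∈ maximalIdeal (psCRing R r).carrier := by
      rw [CRing.mem_maximalIdeal_iff, ← res_of_homSet ((psCRing R r).truncHom (n + 1))]
      exact res_eq_zero_iff.2 ha
    rw [← sub_add_cancel y z, map_add, hz, ← hEs]
    refine add_mem (Ideal.mem_sup_right ?_)
      (Ideal.mem_sup_left (Ideal.mem_map_of_mem E.toAlgHom ?_))
    · have h2 : (maximalIdeal (psCRing R r).carrier ^ 2).map ((psCRing R r).truncHom (n + 1)).1 ≤
          maximalIdeal ((psCRing R r).trunc (n + 1)) ^ 2 := by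
        rw [Ideal.map_pow]
        refine Ideal.pow_right_mono (Ideal.map_le_iff_le_comap.2 fun b hb => ?_) 2
        rw [Ideal.mem_comap, ← res_eq_zero_iff, res_of_homSet]
        exact (CRing.mem_maximalIdeal_iff _ b).1 hb
      exact h2 (Ideal.mem_map_of_mem _ hyz)
    · rw [← res_eq_zero_iff, res_of_homSet]
      exact (CRing.mem_maximalIdeal_iff _ y).1 hy
  have hinj := injective_of_surjective_endo (E.toAlgHom : P →+* P) hsur
  have h0 : ((psCRing R r).truncHom (n + 1)).1 s = 0 := hinj (by
    rw [map_zero]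
    exact (hEs s).trans (by rw [hs0, map_zero]))
  have hz : ((psCRing R r).truncHom n).1 s = 0 :=
    (congrArg ((psCRing R r).truncMap n).toAlgHom h0).trans (map_zero _)
  exact hz.trans (map_zero ((psCRing R r).truncHom n).1).symm

/-- Left inverses to all orders force bijectivity. -/
lemma bijective_of_left_inverses {φ : PS R r →ₐ[Λ] S.carrier} (hs : Function.Surjective φ)
    (h : ∃ N : ℕ, ∀ n, N ≤ n → ∃ g : S.carrier → PS R r ⧸ maximalIdeal (PS R r) ^ n,
      ∀ s, g (φ s) = Ideal.Quotient.mk _ s) : Function.Bijective φ := by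
  refine ⟨fun a b e => eq_of_forall_trunc (S := psCRing R r) fun n => ?_, hs⟩
  obtain ⟨N, hN⟩ := h
  obtain ⟨g, hg⟩ := hN (max N (n + 1)) (le_max_left _ _)
  have h1 : Ideal.Quotient.mk (maximalIdeal (PS R r) ^ (max N (n + 1))) a =
      Ideal.Quotient.mk _ b := by rw [← hg, ← hg, e]
  refine Ideal.Quotient.eq.2 ?_
  exact Ideal.pow_le_pow_right (le_max_right N (n + 1)) (Ideal.Quotient.eq.1 h1)

section Statements

variable (R S) [Algebra R.carrier S.carrier] [IsScalarTower Λ R.carrier S.carrier]

/-- The structure map as a map of `Λ`-algebras. -/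
noncomputable abbrev strMap : R.carrier →ₐ[Λ] S.carrier := IsScalarTower.toAlgHom Λ R.carrier S.carrier

/-- Retracting maps out of power series rings with left inverses to all orders are bijective. -/
lemma bijective_of_retraction (hc : S.res.comp (strMap R S) = R.res)
    (ρ : S.carrier →ₐ[R.carrier] R.carrier) (x : Fin r → S.carrier) (hxI : ∀ i, ρ (x i) = 0)
    (hspan : Ideal.span (Set.range x) ⊔ maximalIdeal S.carrier * RingHom.ker ρ = RingHom.ker ρ)
    (φ : PS R r →ₐ[R.carrier] S.carrier) (hφ : ∀ i, φ (MvPowerSeries.X i) = x i)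
    (hinv : ∃ N : ℕ, ∀ n, N ≤ n → ∃ g : S.carrier → PS R r ⧸ maximalIdeal (PS R r) ^ n,
      ∀ s, g (φ s) = Ideal.Quotient.mk _ s) : Function.Bijective φ := by
  have hkerm : RingHom.ker ρ ≤ maximalIdeal S.carrier := fun s hs => by
    by_contra hu
    have := (IsLocalRing.notMem_maximalIdeal.1 hu).map ρ
    rw [RingHom.mem_ker.1 hs] at this
    exact not_isUnit_zero this
  let φ' : PS R r →ₐ[Λ] S.carrier :=
    { (φ : PS R r →+* S.carrier) with
      commutes' := fun l => by
        change φ (algebraMap Λ (PS R r) l) = _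
        rw [MvPowerSeries.algebraMap_apply]
        exact (φ.commutes (algebraMap Λ R.carrier l)).trans
          (IsScalarTower.algebraMap_apply Λ R.carrier S.carrier l).symm }
  have hC : ∀ c, φ' (MvPowerSeries.C c) = strMap R S c := fun c => φ.commutes c
  have hφ' : S.res.comp φ' = psRes R r := res_comp_of_C_X hc φ' hC fun i => by
    change S.res (φ (MvPowerSeries.X i)) = 0
    rw [hφ, ← CRing.mem_maximalIdeal_iff]
    exact hkerm (RingHom.mem_ker.2 (hxI i))
  refine bijective_of_left_inverses (φ := φ') (surjective_ps hφ' fun a ha => ?_) hinv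
  have h0 : a - algebraMap R.carrier S.carrier (ρ a) ∈ RingHom.ker ρ := by
    rw [RingHom.mem_ker, map_sub, AlgHom.commutes]
    exact sub_self _
  rw [← sub_add_cancel a (algebraMap R.carrier S.carrier (ρ a))]
  refine add_mem ?_ (Ideal.mem_sup_left ?_)
  · rw [← hspan] at h0
    refine (sup_le_sup ?_ ?_ : Ideal.span (Set.range x) ⊔ maximalIdeal S.carrier * RingHom.ker ρ ≤
      (maximalIdeal (PS R r)).map φ' ⊔ maximalIdeal S.carrier ^ 2) h0
    · rw [Ideal.span_le]
      rintro _ ⟨i, rfl⟩
      rw [← hφ]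
      exact Ideal.mem_map_of_mem φ' (X_mem R r i)
    · rw [pow_two]
      exact Ideal.mul_mono_right hkerm
  · rw [show algebraMap R.carrier S.carrier (ρ a) = φ' (MvPowerSeries.C (ρ a)) from (hC _).symm]
    refine Ideal.mem_map_of_mem φ' ?_
    rw [mem_maximalIdeal_ps, psRes_apply, MvPowerSeries.constantCoeff_C, ← hc]
    exact (CRing.mem_maximalIdeal_iff S _).1 (by
      have h1 := sub_mem ha (hkerm h0)
      rwa [sub_sub_cancel] at h1)

variable [IsNoetherianRing Λ] [Module.Finite Λ k]

/-- Smoothness of `h_S → h_R` means `S` is a power series ring over `R`. -/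
lemma isVersal_along_iff (hRS : S.res.comp (strMap R S) = R.res) :
    IsVersal ((Family.self R.carrier R.res).along (strMap R S) hRS) ↔
      ∃ n : ℕ, Nonempty (S.carrier ≃ₐ[R.carrier] MvPowerSeries (Fin n) R.carrier) := by
  constructor
  · intro hv
    obtain ⟨r, x, hx, hspan, hli⟩ := exists_minimal_generators (maximalIdeal S.carrier)
      ((maximalIdeal R.carrier).map (strMap R S) ⊔ maximalIdeal S.carrier ^ 2)
    obtain ⟨φ, hφ, hC, hX⟩ := exists_algHom_ps (R := R) (r := r) (strMap R S) hRS x
      fun i => (CRing.mem_maximalIdeal_iff S _).1 (hx i)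
    have hφs : Function.Surjective φ := surjective_ps hφ fun a ha => by
      refine (sup_le (le_sup_of_le_left ?_) (sup_le (le_sup_of_le_left ?_) le_sup_right) :
        Ideal.span (Set.range x) ⊔ ((maximalIdeal R.carrier).map (strMap R S) ⊔
          maximalIdeal S.carrier ^ 2) ≤
            (maximalIdeal (PS R r)).map φ ⊔ maximalIdeal S.carrier ^ 2) (hspan ha)
      · rw [Ideal.span_le]
        rintro _ ⟨i, rfl⟩
        exact hX i ▸ Ideal.mem_map_of_mem φ (X_mem R r i)
      · refine Ideal.map_le_iff_le_comap.2 fun c hc => ?_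
        rw [Ideal.mem_comap, ← hC]
        exact Ideal.mem_map_of_mem φ (C_mem_pow R r (n := 1) (by rwa [pow_one]) |> fun h => by
          rwa [pow_one] at h)
    have hlift : ∀ n, ∃ ψ : HomSet S.carrier S.res ((psCRing R r).trunc (n + 1)),
        (∀ c, ψ.1 (strMap R S c) = ((psCRing R r).truncHom (n + 1)).1 (MvPowerSeries.C c)) ∧
        ∀ y s, ((psCRing R r).truncHom (n + 1)).1 s = ψ.1 y →
          y - φ s ∈ maximalIdeal S.carrier ^ 2 := fun n => by
      let θ : (psCRing R r).trunc (n + 1) ⟶ S.trunc 1 :=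
        truncTo (psCRing R r) (Nat.le_add_left 1 n) ≫
          CRing.truncMapOfHom (R' := psCRing R r) φ hφ 1
      have hθs : Function.Surjective θ := fun a => by
        obtain ⟨y, rfl⟩ := truncHom_surjective S 1 a
        obtain ⟨s, rfl⟩ := hφs y
        exact ⟨((psCRing R r).truncHom (n + 1)).1 s, rfl⟩
      obtain ⟨ψ, hψ₁, hψ₂⟩ := hv θ hθs (S.truncHom 1)
        (⟨((psCRing R r).truncHom (n + 1)).1.comp (psC R r), by
          rw [← AlgHom.comp_assoc, ((psCRing R r).truncHom (n + 1)).2]
          exact psRes_comp_psC R r⟩ : HomSet R.carrier R.res _)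
        (homSet_ext fun c => congrArg (S.truncHom 1).1 (hC c))
      refine ⟨ψ, fun c => DFunLike.congr_fun (congrArg Subtype.val hψ₂) c, fun y s hs => ?_⟩
      refine (truncHom_eq_zero_iff S 1 _).1 ?_
      rw [map_sub, sub_eq_zero]
      exact ((congrArg θ.toAlgHom hs).trans (DFunLike.congr_fun (congrArg Subtype.val hψ₁) y)).symm
    have h1 : ∀ s, φ s ∈ maximalIdeal S.carrier ^ 2 → s ∈ maximalIdeal (PS R r) ^ 2 := by
      intro s hs
      obtain ⟨g, hg⟩ := exists_decomp s
      have hc : MvPowerSeries.constantCoeff s ∈ maximalIdeal R.carrier := by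
        rw [CRing.mem_maximalIdeal_iff, ← psRes_apply, ← hφ]
        exact (CRing.mem_maximalIdeal_iff S _).1 (Ideal.pow_le_self two_ne_zero hs)
      have hsum : φ s = strMap R S (MvPowerSeries.constantCoeff s) + ∑ i, φ (g i) * x i := by
        conv_lhs => rw [hg]
        rw [map_add, map_sum, hC]
        exact congrArg _ (Finset.sum_congr rfl fun i _ => by rw [map_mul, hX, mul_comm])
      have hgm : ∀ i, φ (g i) ∈ maximalIdeal S.carrier := hli (fun i => φ (g i)) (by
        rw [← add_sub_cancel_left (strMap R S (MvPowerSeries.constantCoeff s)) (∑ i, φ (g i) * x i),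
          ← hsum]
        exact sub_mem (Ideal.mem_sup_right hs) (Ideal.mem_sup_left (Ideal.mem_map_of_mem _ hc)))
      have hgm' : ∀ i, g i ∈ maximalIdeal (PS R r) := fun i => by
        rw [mem_maximalIdeal_ps, ← hφ]
        exact (CRing.mem_maximalIdeal_iff S _).1 (hgm i)
      have hXg : ∑ i, MvPowerSeries.X i * g i ∈ maximalIdeal (PS R r) ^ 2 :=
        Ideal.sum_mem _ fun i _ => pow_two (maximalIdeal (PS R r)) ▸
          Ideal.mul_mem_mul (X_mem R r i) (hgm' i)
      rw [hg]
      refine add_mem ?_ hXg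
      have hfc : strMap R S (MvPowerSeries.constantCoeff s) ∈ maximalIdeal S.carrier ^ 2 := by
        rw [← add_sub_cancel_right (strMap R S (MvPowerSeries.constantCoeff s)) (∑ i, φ (g i) * x i),
          ← hsum]
        refine sub_mem hs (Ideal.sum_mem _ fun i _ => ?_)
        rw [pow_two]
        exact Ideal.mul_mem_mul (hgm i) (hx i)
      obtain ⟨ψ, hψC, -⟩ := hlift 0
      refine (truncHom_eq_zero_iff (psCRing R r) 1 _).1 ((hψC _).symm.trans ?_)
      obtain ⟨u, hu⟩ : ∃ u : S.trunc 1 ⟶ (psCRing R r).trunc 1,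
          HomSet.map u (S.truncHom 1) = ψ := by
        refine exists_factor_homSet (truncHom_surjective S 1) ψ fun z hz => RingHom.mem_ker.2 ?_
        obtain ⟨w, hw⟩ := truncHom_surjective (psCRing R r) 1 (ψ.1 z)
        have hz' : z ∈ maximalIdeal S.carrier * maximalIdeal S.carrier := by
          rw [← pow_two]
          exact (truncHom_eq_zero_iff S 1 _).1 (RingHom.mem_ker.1 hz)
        refine Submodule.mul_induction_on hz' (fun a ha b hb => ?_) fun a b ha hb => by
          rw [map_add, ha, hb, add_zero]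
        obtain ⟨a', ha'⟩ := truncHom_surjective (psCRing R r) 1 (ψ.1 a)
        obtain ⟨b', hb'⟩ := truncHom_surjective (psCRing R r) 1 (ψ.1 b)
        rw [map_mul, ← ha', ← hb', ← map_mul]
        refine (truncHom_eq_zero_iff (psCRing R r) 1 _).2 ?_
        rw [CRing.mpow, pow_two]
        refine Ideal.mul_mem_mul ((CRing.mem_maximalIdeal_iff _ _).2 ?_)
          ((CRing.mem_maximalIdeal_iff _ _).2 ?_)
        · rw [← res_of_homSet ((psCRing R r).truncHom 1) a', ha', res_of_homSet]
          exact (CRing.mem_maximalIdeal_iff S a).1 ha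
        · rw [← res_of_homSet ((psCRing R r).truncHom 1) b', hb', res_of_homSet]
          exact (CRing.mem_maximalIdeal_iff S b).1 hb
      rw [← hu]
      exact (congrArg u.toAlgHom ((truncHom_eq_zero_iff S 1 _).2 hfc)).trans (map_zero _)
    have hb := bijective_of_lifts hφ hφs h1 fun n => ⟨_, (hlift n).choose_spec.2⟩
    refine ⟨r, ⟨(AlgEquiv.ofBijective (show PS R r →ₐ[R.carrier] S.carrier from
      { (φ : PS R r →+* S.carrier) with
        commutes' := fun c => ?_ }) hb).symm⟩⟩
    change φ (algebraMap R.carrier (PS R r) c) = _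
    rw [MvPowerSeries.algebraMap_apply]
    exact hC c
  · rintro ⟨r, ⟨e⟩⟩ B A μ hμ φ y hy
    have hres : (psRes R r : PS R r → k) = fun s => S.res (e.symm s) := by
      let E : PS R r →ₐ[Λ] S.carrier :=
        { (e.symm : PS R r →+* S.carrier) with
          commutes' := fun l => by
            change e.symm (algebraMap Λ (PS R r) l) = _
            rw [MvPowerSeries.algebraMap_apply]
            exact (e.symm.commutes (algebraMap Λ R.carrier l)).trans
              (IsScalarTower.algebraMap_apply Λ R.carrier S.carrier l).symm }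
      funext s
      refine (DFunLike.congr_fun (res_comp_of_C_X hRS E (fun c => e.symm.commutes c)
        (fun i => ?_)) s).symm
      rw [← CRing.mem_maximalIdeal_iff, IsLocalRing.mem_maximalIdeal, mem_nonunits_iff]
      intro hu
      have h2 := hu.map e
      rw [show e (E (MvPowerSeries.X i)) = MvPowerSeries.X i from e.apply_symm_apply _] at h2
      exact (IsLocalRing.mem_maximalIdeal _).1 (X_mem R r i) h2
    choose b hb using fun i => hμ (φ.1 (e.symm (MvPowerSeries.X i)))
    obtain ⟨χ, hχC, hχX⟩ := exists_homSet_ps y b fun i => by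
      rw [← Art.res_app μ, hb, res_of_homSet]
      exact ((congrFun hres (MvPowerSeries.X i)).symm.trans
        (by rw [psRes_apply, MvPowerSeries.constantCoeff_X, map_zero]))
    have heC : ∀ c, e (strMap R S c) = MvPowerSeries.C c := fun c => e.commutes c
    let ψ₁ : S.carrier →ₐ[Λ] B :=
      { (χ.1 : PS R r →+* B).comp (e : S.carrier →+* PS R r) with
        commutes' := fun l => by
          change χ.1 (e (algebraMap Λ S.carrier l)) = _
          rw [IsScalarTower.algebraMap_apply Λ R.carrier S.carrier, e.commutes]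
          exact (hχC _).trans (y.1.commutes l) }
    have hψ₁ : B.res.comp ψ₁ = S.res := AlgHom.ext fun s => by
      refine (DFunLike.congr_fun χ.2 (e s)).trans ?_
      rw [congrFun hres (e s), e.symm_apply_apply]
    refine ⟨⟨ψ₁, hψ₁⟩, ?_, ?_⟩
    · let χ₀ : HomSet (PS R r) (psRes R r) A := HomSet.map μ χ
      let χ₁ : HomSet (PS R r) (psRes R r) A :=
        ⟨{ (φ.1 : S.carrier →+* A).comp (e.symm : PS R r →+* S.carrier) with
            commutes' := fun l => by
              change φ.1 (e.symm (algebraMap Λ (PS R r) l)) = _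
              rw [MvPowerSeries.algebraMap_apply]
              refine (congrArg φ.1 (e.symm.commutes _)).trans ?_
              rw [← IsScalarTower.algebraMap_apply Λ R.carrier S.carrier]
              exact φ.1.commutes l },
          AlgHom.ext fun s => (res_of_homSet φ _).trans (congrFun hres s).symm⟩
      have he : χ₀ = χ₁ := homSet_ps_ext
        (fun c => by
          change μ.toAlgHom (χ.1 _) = φ.1 (e.symm _)
          rw [hχC, ← heC, e.symm_apply_apply]
          exact DFunLike.congr_fun (congrArg Subtype.val hy) c)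
        (fun i => by
          change μ.toAlgHom (χ.1 _) = φ.1 (e.symm _)
          rw [hχX]
          exact hb i)
      refine homSet_ext fun s => ?_
      refine (DFunLike.congr_fun (congrArg Subtype.val he) (e s)).trans ?_
      exact congrArg φ.1 (e.symm_apply_apply s)
    · refine homSet_ext fun c => ?_
      change χ.1 (e (strMap R S c)) = _
      rw [heC, hχC]

end Statements

section MinimalSplit

variable [IsNoetherianRing Λ] [Module.Finite Λ k]

/-- A versal family is a minimal one extended by free variables. -/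
lemma exists_powerSeries_split {F : Art Λ k ⥤ Type v} (h0 : H0 F)
    (ξ : Family S.carrier S.res F) (hξ : IsVersal ξ) :
    ∃ (R' : CRing Λ k) (ξ' : Family R'.carrier R'.res F), ξ'.IsMinimalVersal ∧
      ∃ (g : R'.carrier →ₐ[Λ] S.carrier) (hg : S.res.comp g = R'.res) (n : ℕ)
        (e : S.carrier ≃ₐ[Λ] MvPowerSeries (Fin n) R'.carrier),
        (∀ a, e (g a) = algebraMap R'.carrier (MvPowerSeries (Fin n) R'.carrier) a) ∧
          ξ'.along g hg = ξ := by
  obtain ⟨R', π, hπ, j, hj, hπj, hmin, halong⟩ := exists_retract_minimalVersal h0 ξ hξ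
  have hπj' : ∀ a, π (j a) = a := DFunLike.congr_fun hπj
  let J : Ideal S.carrier := RingHom.ker π
  have hJm : J ≤ maximalIdeal S.carrier := fun z hz => by
    rw [CRing.mem_maximalIdeal_iff, ← hπ, AlgHom.comp_apply, RingHom.mem_ker.1 hz, map_zero]
  obtain ⟨r, x, hx, hspan, hli⟩ := exists_minimal_generators J (maximalIdeal S.carrier * J)
  obtain ⟨φ, hφ, hC, hX⟩ := exists_algHom_ps (R := R') (r := r) j hj x
    fun i => (CRing.mem_maximalIdeal_iff S _).1 (hJm (hx i))
  have hsub : ∀ a, a - j (π a) ∈ J := fun a => RingHom.mem_ker.2 (by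
    rw [map_sub, hπj', sub_self])
  have hφs : Function.Surjective φ := surjective_ps hφ fun a ha => by
    rw [← sub_add_cancel a (j (π a))]
    refine add_mem ((sup_le (le_sup_of_le_left ?_) (le_sup_of_le_right ?_) :
      Ideal.span (Set.range x) ⊔ maximalIdeal S.carrier * J ≤
        (maximalIdeal (PS R' r)).map φ ⊔ maximalIdeal S.carrier ^ 2) (hspan (hsub a)))
      (Ideal.mem_sup_left ?_)
    · rw [Ideal.span_le]
      rintro _ ⟨i, rfl⟩
      exact hX i ▸ Ideal.mem_map_of_mem φ (X_mem R' r i)
    · rw [pow_two]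
      exact Ideal.mul_mono_right hJm
    · rw [← hC]
      refine Ideal.mem_map_of_mem φ ?_
      rw [mem_maximalIdeal_ps, psRes_apply, MvPowerSeries.constantCoeff_C, ← AlgHom.comp_apply, hπ]
      exact (CRing.mem_maximalIdeal_iff S a).1 ha
  have hsq : ∀ z ∈ maximalIdeal S.carrier * maximalIdeal S.carrier,
      z - j (π z) ∈ maximalIdeal S.carrier * J := by
    intro z hz
    refine Submodule.mul_induction_on hz (fun a ha b hb => ?_) fun a b ha hb => by
      rw [map_add, map_add, add_sub_add_comm]; exact add_mem ha hb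
    rw [map_mul, map_mul, show a * b - j (π a) * j (π b) =
      b * (a - j (π a)) + j (π a) * (b - j (π b)) by ring]
    refine add_mem (Ideal.mul_mem_mul hb (hsub a)) (Ideal.mul_mem_mul ?_ (hsub b))
    have h := sub_mem ha (hJm (hsub a))
    rwa [sub_sub_cancel] at h
  have h1 : ∀ s, φ s ∈ maximalIdeal S.carrier ^ 2 → s ∈ maximalIdeal (PS R' r) ^ 2 := by
    intro s hs
    obtain ⟨g, hg⟩ := exists_decomp s
    have hsum : φ s = j (MvPowerSeries.constantCoeff s) + ∑ i, φ (g i) * x i := by
      conv_lhs => rw [hg]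
      rw [map_add, map_sum, hC]
      exact congrArg _ (Finset.sum_congr rfl fun i _ => by rw [map_mul, hX, mul_comm])
    have hπs : π (φ s) = MvPowerSeries.constantCoeff s := by
      rw [hsum, map_add, hπj', map_sum, Finset.sum_eq_zero fun i _ => ?_, add_zero]
      rw [map_mul, RingHom.mem_ker.1 (hx i), mul_zero]
    have hgm : ∀ i, g i ∈ maximalIdeal (PS R' r) := fun i => by
      rw [mem_maximalIdeal_ps, ← hφ]
      refine (CRing.mem_maximalIdeal_iff S _).1 (hli (fun i => φ (g i)) ?_ i)
      have h := hsq (φ s) (pow_two (maximalIdeal S.carrier) ▸ hs)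
      rwa [hπs, hsum, add_sub_cancel_left] at h
    rw [hg]
    refine add_mem (C_mem_pow R' r ?_) (Ideal.sum_mem _ fun i _ =>
      pow_two (maximalIdeal (PS R' r)) ▸ Ideal.mul_mem_mul (X_mem R' r i) (hgm i))
    rw [← hπs]
    have h4 : (maximalIdeal S.carrier ^ 2).map π ≤ maximalIdeal R'.carrier ^ 2 := by
      rw [Ideal.map_pow]
      exact Ideal.pow_right_mono
        (Ideal.map_le_iff_le_comap.2 (CRing.maximalIdeal_le_comap π hπ)) 2
    exact h4 (Ideal.mem_map_of_mem π hs)
  have hl : ∀ n, ∃ ψ : HomSet S.carrier S.res ((psCRing R' r).trunc (n + 1)),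
      ∀ y s, ((psCRing R' r).truncHom (n + 1)).1 s = ψ.1 y →
        y - φ s ∈ maximalIdeal S.carrier ^ 2 := fun n => by
    let θ : (psCRing R' r).trunc (n + 1) ⟶ S.trunc 1 :=
      truncTo (psCRing R' r) (Nat.le_add_left 1 n) ≫
        CRing.truncMapOfHom (R' := psCRing R' r) φ hφ 1
    have hθs : Function.Surjective θ := fun a => by
      obtain ⟨y, rfl⟩ := truncHom_surjective S 1 a
      obtain ⟨s, rfl⟩ := hφs y
      exact ⟨((psCRing R' r).truncHom (n + 1)).1 s, rfl⟩
    obtain ⟨ψ, hψ₁, -⟩ := hξ θ hθs (S.truncHom 1)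
      ((ξ.along π hπ).app _ ⟨((psCRing R' r).truncHom (n + 1)).1.comp (psC R' r), by
        rw [← AlgHom.comp_assoc, ((psCRing R' r).truncHom (n + 1)).2]
        exact psRes_comp_psC R' r⟩) (by
      rw [← Family.natural]
      conv_rhs => rw [← halong]
      exact app_eq_of_val_eq _ (AlgHom.ext fun c => congrArg (S.truncHom 1).1 (hC c)))
    refine ⟨ψ, fun y s hs => (truncHom_eq_zero_iff S 1 _).1 ?_⟩
    rw [map_sub, sub_eq_zero]
    exact ((congrArg θ.toAlgHom hs).trans (DFunLike.congr_fun (congrArg Subtype.val hψ₁) y)).symm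
  have hb := bijective_of_lifts hφ hφs h1 hl
  refine ⟨R', ξ.along π hπ, hmin, j, hj, r, (AlgEquiv.ofBijective φ hb).symm, fun a => ?_, halong⟩
  rw [AlgEquiv.symm_apply_eq]
  change j a = φ (algebraMap R'.carrier (PS R' r) a)
  rw [MvPowerSeries.algebraMap_apply]
  exact (hC a).symm

end MinimalSplit

end GrothLib.ArtFun
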