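import Groth.Agent.Lib.ArtFun.SmallExt
import Mathlib.LinearAlgebra.Dual.Lemmas

/-!
# Functors of Artin rings: fibre products with split square-zero extensions of `k`
-/

universe u v

namespace GrothLib.ArtFun

open _root_.ArtFun CategoryTheory IsLocalRing

variable {Λ : Type u} {k : Type u} [CommRing Λ] [Field k] [Algebra Λ k]

/-- A nonzero element of the square-zero maximal ideal of a split object splits off a copy of `k[ε]`. -/
lemma exists_split_dual {E : Art Λ k} (σ : Art.base Λ k ⟶ E) (hE : maximalIdeal E ^ 2 = ⊥)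
    {t : E} (ht : t ∈ maximalIdeal E) (ht0 : t ≠ 0) :
    ∃ (hK : Ideal.span {t} ≤ maximalIdeal E) (π : E ⟶ Art.dual Λ k),
      Art.IsFibreProd (Art.quotMk E _ hK) π (Art.toBase _) (Art.toBase _) := by
  have hK : Ideal.span {t} ≤ maximalIdeal E := by rwa [Ideal.span_le, Set.singleton_subset_iff]
  letI : Algebra k E := RingHom.toAlgebra (σ.toAlgHom.toRingHom : k →+* E)
  have hσ : ∀ c : k, E.res (algebraMap k E c) = c := fun c => Art.res_app σ c
  have hsmul : ∀ (c : k) (e : E), c • e = algebraMap k E c * e := fun c e => rfl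
  have hσΛ : ∀ l : Λ, algebraMap Λ E l = algebraMap k E (algebraMap Λ k l) := fun l =>
    (σ.toAlgHom.commutes l).symm
  have hmm : ∀ a ∈ maximalIdeal E, ∀ b ∈ maximalIdeal E, a * b = 0 := fun a ha b hb => by
    have := Ideal.mul_mem_mul ha hb
    rwa [← pow_two, hE, Ideal.mem_bot] at this
  have hmul : ∀ a : E, a * t = algebraMap k E (E.res a) * t := fun a => by
    rw [← sub_eq_zero, ← sub_mul]
    exact hmm _ (by rw [← res_eq_zero_iff, map_sub, hσ, sub_self]) _ ht
  have hnot : t ∉ Submodule.span k {(1 : E)} := by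
    rintro h
    obtain ⟨c, hc⟩ := Submodule.mem_span_singleton.1 h
    rw [hsmul, mul_one] at hc
    refine ht0 ?_
    rw [← hc, show c = 0 by rw [← hσ c, hc, res_eq_zero_iff]; exact ht, map_zero]
  obtain ⟨φ₀, hφ₀, hφt₀⟩ := Submodule.exists_dual_map_eq_bot_of_notMem hnot inferInstance
  let φ : E →ₗ[k] k := (φ₀ t)⁻¹ • φ₀
  have hφt : φ t = 1 := inv_mul_cancel₀ hφ₀
  have hφ1 : φ 1 = 0 := by
    have : φ₀ 1 ∈ (Submodule.span k {(1 : E)}).map φ₀ :=
      Submodule.mem_map_of_mem (Submodule.mem_span_singleton_self 1)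
    rw [hφt₀, Submodule.mem_bot] at this
    simp [φ, this]
  have hφc : ∀ c : k, φ (algebraMap k E c) = 0 := fun c => by
    rw [show algebraMap k E c = c • (1 : E) by rw [hsmul, mul_one], map_smul, hφ1, smul_zero]
  have hφm : ∀ a b : E, φ (a * b) = E.res a * φ b + E.res b * φ a := fun a b => by
    have e : (a - algebraMap k E (E.res a)) * (b - algebraMap k E (E.res b)) = 0 :=
      hmm _ (by rw [← res_eq_zero_iff, map_sub, hσ, sub_self]) _
        (by rw [← res_eq_zero_iff, map_sub, hσ, sub_self])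
    have : a * b = E.res a • b + E.res b • a - algebraMap k E (E.res a * E.res b) := by
      rw [hsmul, hsmul, map_mul]
      linear_combination e
    rw [this, map_sub, map_add, map_smul, map_smul, hφc, sub_zero, smul_eq_mul, smul_eq_mul]
  let π : E ⟶ Art.dual Λ k := Art.homMk
    { toFun := fun e => ((E.res e, φ e) : DualNumber k)
      map_one' := TrivSqZeroExt.ext (map_one E.res) hφ1
      map_mul' := fun x y => TrivSqZeroExt.ext (map_mul E.res x y) (by
        change φ (x * y) = E.res x • φ y + MulOpposite.op (E.res y) • φ x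
        rw [hφm, smul_eq_mul, op_smul_eq_smul, smul_eq_mul])
      map_zero' := TrivSqZeroExt.ext (map_zero E.res) (map_zero φ)
      map_add' := fun x y => TrivSqZeroExt.ext (map_add E.res x y) (map_add φ x y)
      commutes' := fun l => TrivSqZeroExt.ext (E.res.commutes l) (by
        change φ (algebraMap Λ E l) = (algebraMap Λ (DualNumber k) l).snd
        rw [hσΛ, hφc, TrivSqZeroExt.algebraMap_eq_inl', TrivSqZeroExt.snd_inl]) }
    (AlgHom.ext fun _ => rfl)
  refine ⟨hK, π, ⟨(Art.eq_toBase _).trans (Art.eq_toBase _).symm, fun x y h₁ h₂ => ?_,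
    fun a d h => ?_⟩⟩
  · obtain ⟨c, hc⟩ := Ideal.mem_span_singleton'.1 (Ideal.Quotient.eq.1 h₁)
    have h3 : φ x = φ y := congrArg TrivSqZeroExt.snd h₂
    rw [hmul, ← hsmul] at hc
    have := congrArg φ hc
    rw [map_smul, map_sub, hφt, h3, sub_self, smul_eq_mul, mul_one] at this
    rw [← sub_eq_zero, ← hc, this, zero_smul]
  · obtain ⟨e, rfl⟩ := Art.quotMk_surjective E _ hK a
    refine ⟨e + (TrivSqZeroExt.snd d - φ e) • t, Ideal.Quotient.eq.2 ?_, TrivSqZeroExt.ext ?_ ?_⟩
    · rw [add_sub_cancel_left, hsmul]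
      exact Ideal.mul_mem_left _ _ (Ideal.mem_span_singleton_self t)
    · change E.res (e + (TrivSqZeroExt.snd d - φ e) • t) = TrivSqZeroExt.fst d
      rw [hsmul, map_add, map_mul, res_eq_zero_iff.2 ht, mul_zero, add_zero]
      exact h
    · change φ (e + (TrivSqZeroExt.snd d - φ e) • t) = TrivSqZeroExt.snd d
      rw [map_add, map_smul, hφt, smul_eq_mul, mul_one, add_sub_cancel]

/-- `Heps` extends to split square-zero extensions of `k`. -/
lemma bijective_cmp_sqZero {F : Art Λ k ⥤ Type v} (hF : Heps F) :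
    ∀ {E : Art Λ k}, Nonempty (Art.base Λ k ⟶ E) → maximalIdeal E ^ 2 = ⊥ →
      ∀ ⦃B A : Art Λ k⦄ (p' : B ⟶ A) (p'' : B ⟶ E)
        (h : Art.IsFibreProd p' p'' (Art.toBase A) (Art.toBase E)), Function.Bijective (cmp F h) := by
  intro E
  induction hn : (Module.length E E).toNat using Nat.strong_induction_on generalizing E with
  | _ n ih =>
    intro hσ hE B A p' p'' h
    obtain ⟨σ⟩ := hσ
    by_cases hm : maximalIdeal E = ⊥
    · have hbE : Function.Bijective (Art.toBase E) :=
        ⟨fun x y e => by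
          rw [← sub_eq_zero, ← Ideal.mem_bot, ← hm, ← res_eq_zero_iff, map_sub, sub_eq_zero]
          exact e, toBase_surjective E⟩
      haveI := isIso_of_bijective _ hbE
      haveI : IsIso p' := isIso_of_bijective p' (fp_fst_bijective h hbE)
      refine ⟨fun x y e => (map_bijective_of_isIso F p').1 (congrArg (fun t => t.1.1) e), fun z => ?_⟩
      refine ⟨F.map (inv p') z.1.1, FibProd.ext (map_inv_hom F p' _)
        ((map_bijective_of_isIso F (Art.toBase E)).1 ?_)⟩
      rw [cmp_snd, map_map, ← h.w, ← map_map, map_inv_hom, z.2]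
    · obtain ⟨t, ht, ht0⟩ := Submodule.exists_mem_ne_zero_of_ne_bot hm
      obtain ⟨hK, π, hsq⟩ := exists_split_dual σ hE ht ht0
      have hlt : (Module.length (Art.quot E _ hK) (Art.quot E _ hK)).toNat < n := by
        subst hn
        change (Module.length (E ⧸ Ideal.span {t}) (E ⧸ Ideal.span {t})).toNat < _
        have h1 : Module.length E (E ⧸ Ideal.span {t}) =
            Module.length (E ⧸ Ideal.span {t}) (E ⧸ Ideal.span {t}) :=
          Module.length_eq_of_surjective Ideal.Quotient.mk_surjective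
        have h2 : Module.length E (E ⧸ Ideal.span {t}) < Module.length E E :=
          Submodule.length_quotient_lt _ (by rw [Ne, Ideal.span_singleton_eq_bot]; exact ht0)
        have h3 : Module.length E E ≠ ⊤ := Module.length_ne_top
        rw [h1] at h2
        rwa [← ENat.coe_lt_coe, ENat.natCast_toNat h2.ne_top, ENat.natCast_toNat h3]
      have hm' : maximalIdeal (Art.quot E _ hK) ^ 2 = ⊥ := by
        rw [← le_bot_iff]
        refine le_trans (Ideal.pow_right_mono
          (J := (maximalIdeal E).map (Art.quotMk E _ hK).toAlgHom) ?_ 2) ?_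
        · intro x hx
          obtain ⟨a, rfl⟩ := Art.quotMk_surjective E _ hK x
          refine Ideal.mem_map_of_mem _ ?_
          rw [← res_eq_zero_iff, Art.res_app] at hx
          exact res_eq_zero_iff.1 hx
        · rw [← Ideal.map_pow, hE, Ideal.map_bot]
      obtain ⟨D, d', d'', hD⟩ := exists_isFibreProd_of_surjective (Art.toBase A)
        (Art.toBase (Art.quot E _ hK)) (toBase_surjective _)
      have hIH := ih _ hlt rfl ⟨σ ≫ Art.quotMk E _ hK⟩ hm' d' d'' hD
      obtain ⟨c, hc₁, hc₂⟩ := fp_exists_lift hD p' (p'' ≫ Art.quotMk E _ hK)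
        ((Art.eq_toBase _).trans (Art.eq_toBase _).symm)
      subst hc₁
      have hc2' : ∀ b : B, d'' (c b) = Art.quotMk E _ hK (p'' b) := apply_congr_hom hc₂
      have hC : Art.IsFibreProd c (p'' ≫ π) (Art.toBase D) (Art.toBase _) := by
        refine ⟨(Art.eq_toBase _).trans (Art.eq_toBase _).symm, fun x y h₁ h₂ => ?_, fun d θ e => ?_⟩
        · refine h.inj x y (congrArg d' h₁) (hsq.inj _ _ ?_ h₂)
          rw [← hc2', ← hc2', h₁]
        · obtain ⟨e₀, he₁, he₂⟩ := hsq.surj (d'' d) θ ((Art.res_app d'' d).trans e)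
          obtain ⟨b, hb₁, hb₂⟩ := h.surj (d' d) e₀
            (show A.res (d' d) = E.res e₀ by
              rw [Art.res_app, ← Art.res_app d'', ← he₁, Art.res_app])
          exact ⟨b, hD.inj _ _ hb₁ (by rw [hc2', hb₂, he₁]), (congrArg π hb₂).trans he₂⟩
      have hB := hF c (p'' ≫ π) hC
      refine ⟨fun x y e => eq_of_cmp_injective hB.1 (eq_of_cmp_injective hIH.1 ?_ ?_) ?_, fun z => ?_⟩
      · rw [map_map, map_map]
        exact congrArg (fun t => t.1.1) e
      · rw [map_map, map_map, hc₂, ← map_map, ← map_map]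
        exact congrArg (F.map _) (congrArg (fun t => t.1.2) e)
      · rw [← map_map, ← map_map]
        exact congrArg (F.map π) (congrArg (fun t => t.1.2) e)
      · obtain ⟨w, hw₁, hw₂⟩ := exists_of_cmp_surjective hIH.2 z.1.1 (F.map (Art.quotMk E _ hK) z.1.2)
          (by rw [z.2, map_map, Art.eq_toBase (Art.quotMk E _ hK ≫ Art.toBase _)])
        obtain ⟨b, hb₁, hb₂⟩ := exists_of_cmp_surjective hB.2 w (F.map π z.1.2) (by
          rw [map_map, Art.eq_toBase (π ≫ Art.toBase _), ← z.2, ← hw₁, map_map,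
            Art.eq_toBase (d' ≫ Art.toBase A)])
        refine ⟨b, FibProd.ext ?_ (eq_of_cmp_injective (hF _ _ hsq).1 ?_ ?_)⟩
        · rw [cmp_fst, ← map_map, hb₁, hw₁]
        · rw [cmp_snd, map_map, ← hc₂, ← map_map, hb₁, hw₂]
        · rw [cmp_snd, map_map, hb₂]

end GrothLib.ArtFun
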