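import Groth.Agent.Lib.ArtFun.SmallExt
import Groth.Prelude.Def_W4c5t1liftcy3defoArt
import Mathlib.RingTheory.Flat.Basic
import Mathlib.Algebra.CharZero.Defs

/-!
# Functors of Artin rings: the T¹-lifting lemma on curvilinear test objects
-/

universe u v

namespace GrothLib.ArtFun

open _root_.ArtFun CategoryTheory IsLocalRing T1Lift
open scoped Polynomial

variable {k : Type u} [Field k]

lemma t1_mem_span_of_αAlg_eq_zero {n : ℕ} {a : Tr k (n + 1)} (h : αAlg k n a = 0) :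
    a ∈ Ideal.span {t k (n + 1) ^ (n + 1)} := by
  induction a using AdjoinRoot.induction_on with
  | ih p =>
    have hc : (αAlg k n).comp (AdjoinRoot.mkₐ _) = AdjoinRoot.mkₐ _ :=
      Polynomial.algHom_ext (by
        change αAlg k n (AdjoinRoot.mk _ Polynomial.X) = AdjoinRoot.mk _ Polynomial.X
        rw [AdjoinRoot.mk_X, AdjoinRoot.mk_X, αAlg_t])
    have h' : AdjoinRoot.mk ((Polynomial.X : k[X]) ^ (n + 1)) p = 0 := by
      rw [← h]; exact (DFunLike.congr_fun hc p).symm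
    obtain ⟨q, rfl⟩ := AdjoinRoot.mk_eq_zero.1 h'
    refine Ideal.mem_span_singleton'.2 ⟨AdjoinRoot.mk _ q, ?_⟩
    rw [map_mul, map_pow, AdjoinRoot.mk_X, mul_comm]

lemma t1_t_pow_ne_zero (n : ℕ) : t k n ^ n ≠ 0 := by
  intro h
  have h' : AdjoinRoot.mk ((Polynomial.X : k[X]) ^ (n + 1)) (Polynomial.X ^ n) = 0 := by
    rw [map_pow, AdjoinRoot.mk_X]; exact h
  have := Polynomial.natDegree_le_of_dvd (AdjoinRoot.mk_eq_zero.1 h') (pow_ne_zero _ Polynomial.X_ne_zero)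
  simp at this

lemma t1_eq_t_mul_of_mem {n : ℕ} {a : Tr k n} (ha : resA k n a = 0) : ∃ b, a = t k n * b := by
  obtain ⟨b, hb⟩ := eq_algebraMap_add_t_mul k n a
  exact ⟨b, by rwa [ha, map_zero, zero_add] at hb⟩

lemma t1_ε_β (n : ℕ) : ε k n ≫ β k n = α k n :=
  Art.hom_ext (AdjoinRoot.algHom_ext (by
    change (εAlg k n (t k (n + 1))).fst = αAlg k n (t k (n + 1))
    rw [εAlg_t, αAlg_t, TrivSqZeroExt.fst_add, TrivSqZeroExt.fst_inl, DualNumber.fst_eps, add_zero]))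

lemma t1_ε_ξ (n : ℕ) : ε k (n + 1) ≫ T1Lift.ξ k n = α k (n + 1) ≫ ε k n :=
  Art.hom_ext (AdjoinRoot.algHom_ext (by
    change dualMap k (αAlg k n) (εAlg k (n + 1) (t k (n + 2))) = εAlg k n (αAlg k (n + 1) (t k (n + 2)))
    rw [εAlg_t, αAlg_t, εAlg_t]
    refine TrivSqZeroExt.ext ?_ ?_
    · change αAlg k n (TrivSqZeroExt.inl (t k (n + 1)) + DualNumber.eps).fst = _
      simp
    · change αAlg k n (TrivSqZeroExt.inl (t k (n + 1)) + DualNumber.eps).snd = _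
      simp))

lemma t1_α_surjective (n : ℕ) : Function.Surjective (α k n) := fun a => by
  induction a using AdjoinRoot.induction_on with
  | ih p =>
    have hc : (αAlg k n).comp (AdjoinRoot.mkₐ _) = AdjoinRoot.mkₐ _ :=
      Polynomial.algHom_ext (by
        change αAlg k n (AdjoinRoot.mk _ Polynomial.X) = AdjoinRoot.mk _ Polynomial.X
        rw [AdjoinRoot.mk_X, AdjoinRoot.mk_X, αAlg_t])
    exact ⟨AdjoinRoot.mk _ p, DFunLike.congr_fun hc p⟩

lemma t1_α_semismall (n : ℕ) : Art.IsSemismallExt (α k n) := by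
  refine ⟨t1_α_surjective n, ?_⟩
  rw [← le_bot_iff, Ideal.mul_le]
  intro (a : Tr k (n + 1)) ha (b : Tr k (n + 1)) hb
  obtain ⟨c, hc⟩ := t1_eq_t_mul_of_mem ((Art.mem_maximalIdeal_iff (T1Lift.A k (n + 1)) a).1 ha)
  obtain ⟨d, hd⟩ := Ideal.mem_span_singleton'.1 (t1_mem_span_of_αAlg_eq_zero (RingHom.mem_ker.1 hb))
  rw [Ideal.mem_bot]
  change a * b = 0
  rw [hc, ← hd]
  linear_combination (c * d) * t_pow k (n + 1)

variable [CharZero k] {F : Art k k ⥤ Type v}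

/-- Lifting along `A_(n+2) → A_(n+1)` is detected on first-order tangents. -/
lemma exists_lift_iff_tangent
    (hRS : ∀ ⦃P A A' A'' : Art k k⦄ (p' : P ⟶ A') (p'' : P ⟶ A'') (f' : A' ⟶ A) (f'' : A'' ⟶ A)
      (h : Art.IsFibreProd p' p'' f' f''), Function.Surjective f'' → Function.Bijective (cmp F h))
    (V : Type u) [AddCommGroup V] [Module k V] (O : ObsTheory F V)
    (hnat : ∀ ⦃A' A C' C : Art k k⦄ (φ : A' ⟶ A) (hφ : Art.IsSemismallExt φ)
      (ψ : C' ⟶ C) (hψ : Art.IsSemismallExt ψ) (g' : A' ⟶ C') (g : A ⟶ C), φ ≫ g = g' ≫ ψ →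
      ∀ (ℓ : ↥(RingHom.ker φ.toAlgHom) →ₗ[k] ↥(RingHom.ker ψ.toAlgHom)),
        (∀ j : ↥(RingHom.ker φ.toAlgHom), ((ℓ j : ↥(RingHom.ker ψ.toAlgHom)) : C') = g' (j : A')) →
        ∀ u : F.obj A, O.obs ψ hψ (F.map g u) = LinearMap.lTensor V ℓ (O.obs φ hφ u))
    (n : ℕ) (X : F.obj (T1Lift.A k (n + 1))) :
    (∃ X' : F.obj (T1Lift.A k (n + 2)), F.map (α k (n + 1)) X' = X) ↔
      ∃ Y : F.obj (T1Lift.B k (n + 1)), F.map (β k (n + 1)) Y = X ∧
        F.map (T1Lift.ξ k n) Y = F.map (ε k n) X := by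
  constructor
  · rintro ⟨X', rfl⟩
    refine ⟨F.map (ε k (n + 1)) X', by rw [map_map, t1_ε_β], ?_⟩
    rw [map_map, map_map, t1_ε_ξ]
  rintro ⟨Y, hY₁, hY₂⟩
  let B' := T1Lift.B k (n + 1)
  let K : Ideal B' := RingHom.ker (β k (n + 1)).toAlgHom ⊓ RingHom.ker (T1Lift.ξ k n).toAlgHom
  have hK : K ≤ maximalIdeal B' := inf_le_left.trans (ker_le_maximalIdeal _)
  let b₁ := Art.quotFactor hK (β k (n + 1)) inf_le_left
  let b₂ := Art.quotFactor hK (T1Lift.ξ k n) inf_le_right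
  have hβs : Function.Surjective (β k n) := fun a => ⟨(TrivSqZeroExt.inl (a : Tr k n) : DualNumber (Tr k n)), rfl⟩
  have hC : Art.IsFibreProd b₁ b₂ (α k n) (β k n) := by
    refine ⟨?_, fun x y h₁ h₂ => ?_, fun a b h => ?_⟩
    · refine hom_ext_apply fun x => ?_
      obtain ⟨x, rfl⟩ := Art.quotMk_surjective B' K hK x
      rfl
    · obtain ⟨x, rfl⟩ := Art.quotMk_surjective B' K hK x
      obtain ⟨y, rfl⟩ := Art.quotMk_surjective B' K hK y
      refine Ideal.Quotient.eq.2 (Ideal.mem_inf.2 ⟨?_, ?_⟩)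
      · rw [RingHom.mem_ker, map_sub, sub_eq_zero]; exact h₁
      · rw [RingHom.mem_ker, map_sub, sub_eq_zero]; exact h₂
    · obtain ⟨c, hc⟩ := t1_α_surjective (k := k) n (TrivSqZeroExt.snd (b : DualNumber (Tr k n)))
      refine ⟨Art.quotMk B' K hK ((a, c) : DualNumber (Tr k (n + 1))), rfl, ?_⟩
      exact TrivSqZeroExt.ext h hc
  have hK0 : maximalIdeal B' * K = ⊥ := by
    rw [← le_bot_iff, Ideal.mul_le]
    intro (x : DualNumber (Tr k (n + 1))) hx (y : DualNumber (Tr k (n + 1))) hy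
    obtain ⟨hy₁, hy₂⟩ := Ideal.mem_inf.1 hy
    have hy1 : y.fst = 0 := RingHom.mem_ker.1 hy₁
    obtain ⟨d, hd⟩ := Ideal.mem_span_singleton'.1 (t1_mem_span_of_αAlg_eq_zero
      (show αAlg k n y.snd = 0 from congrArg TrivSqZeroExt.snd (RingHom.mem_ker.1 hy₂)))
    obtain ⟨c, hc⟩ := t1_eq_t_mul_of_mem
      (show resA k (n + 1) x.fst = 0 from (Art.mem_maximalIdeal_iff (T1Lift.B k (n + 1)) x).1 hx)
    rw [Ideal.mem_bot]
    change x * y = 0
    refine TrivSqZeroExt.ext ?_ ?_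
    · rw [TrivSqZeroExt.fst_mul, hy1, mul_zero, TrivSqZeroExt.fst_zero]
    · rw [TrivSqZeroExt.snd_mul, hy1, MulOpposite.op_zero, zero_smul, add_zero, smul_eq_mul,
        TrivSqZeroExt.snd_zero, hc, ← hd]
      linear_combination (c * d) * t_pow k (n + 1)
  have hψ : Art.IsSemismallExt (Art.quotMk B' K hK) :=
    ⟨Art.quotMk_surjective B' K hK, by rw [ker_quotMk]; exact hK0⟩
  have hεK : ∀ x, (α k (n + 1)).toAlgHom x = 0 → (ε k (n + 1)).toAlgHom x ∈ K := fun x hx =>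
    Ideal.mem_inf.2 ⟨RingHom.mem_ker.2 ((apply_congr_hom (t1_ε_β (k := k) (n + 1)) x).trans hx),
      RingHom.mem_ker.2 ((apply_congr_hom (t1_ε_ξ (k := k) n) x).trans
        ((congrArg (ε k n).toAlgHom hx).trans (map_zero _)))⟩
  obtain ⟨g, hg⟩ := exists_factor (t1_α_surjective (n + 1)) (ε k (n + 1) ≫ Art.quotMk B' K hK)
    (fun x hx => mem_ker_iff.2 ((quotMk_eq_zero_iff hK).2 (hεK x (RingHom.mem_ker.1 hx))))
  have hg₁ : g ≫ b₁ = 𝟙 _ := hom_ext_apply fun x => by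
    obtain ⟨z, rfl⟩ := t1_α_surjective (k := k) (n + 1) x
    exact (congrArg b₁ (apply_congr_hom hg z)).trans (apply_congr_hom (t1_ε_β (k := k) (n + 1)) z)
  have hg₂ : g ≫ b₂ = ε k n := hom_ext_apply fun x => by
    obtain ⟨z, rfl⟩ := t1_α_surjective (k := k) (n + 1) x
    exact (congrArg b₂ (apply_congr_hom hg z)).trans (apply_congr_hom (t1_ε_ξ (k := k) n) z)
  have hlift : F.map g X = F.map (Art.quotMk B' K hK) Y := by
    refine eq_of_cmp_injective (hRS b₁ b₂ _ _ hC hβs).1 ?_ ?_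
    · rw [map_map, map_map, hg₁, map_id', Art.quotMk_quotFactor, hY₁]
    · rw [map_map, map_map, hg₂, Art.quotMk_quotFactor, hY₂]
  let ℓ : ↥(RingHom.ker (α k (n + 1)).toAlgHom) →ₗ[k] ↥(RingHom.ker (Art.quotMk B' K hK).toAlgHom) :=
    { toFun := fun j => ⟨(ε k (n + 1)).toAlgHom j,
        RingHom.mem_ker.2 ((quotMk_eq_zero_iff hK).2 (hεK j (RingHom.mem_ker.1 j.2)))⟩
      map_add' := fun a b => Subtype.ext (map_add (ε k (n + 1)).toAlgHom _ _)
      map_smul' := fun c a => Subtype.ext (map_smul (ε k (n + 1)).toAlgHom c (a : T1Lift.A k (n + 2))) }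
  have hℓ : Function.Injective ℓ := by
    rw [injective_iff_map_eq_zero]
    rintro ⟨j₀, hj⟩ h
    refine Subtype.ext ?_
    let j : Tr k (n + 2) := j₀
    have h' : εAlg k (n + 1) j = 0 := congrArg Subtype.val h
    obtain ⟨d, hd⟩ := Ideal.mem_span_singleton'.1
      (t1_mem_span_of_αAlg_eq_zero (a := j) (RingHom.mem_ker.1 hj))
    obtain ⟨b, hb⟩ := eq_algebraMap_add_t_mul k (n + 2) d
    have hj' : j = algebraMap k _ (resA k (n + 2) d) * t k (n + 2) ^ (n + 2) := by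
      rw [← hd]
      conv_lhs => rw [hb]
      linear_combination b * t_pow k (n + 2)
    have h2 : resA k (n + 2) d = 0 := by
      by_contra hne
      rw [hj', map_mul, AlgHom.commutes, map_pow, εAlg_t] at h'
      have h3 := congrArg TrivSqZeroExt.snd h'
      rw [TrivSqZeroExt.snd_mul, TrivSqZeroExt.snd_pow] at h3
      simp [TrivSqZeroExt.algebraMap_eq_inl'] at h3
      have h4 : algebraMap k (Tr k (n + 1)) (resA k (n + 2) d * ((n : k) + 2)) * t k (n + 1) ^ (n + 1) = 0 := by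
        rw [map_mul, map_add, map_natCast, map_ofNat, AdjoinRoot.algebraMap_eq]
        linear_combination h3
      have hn2 : ((n : k) + 2) ≠ 0 := by exact_mod_cast Nat.succ_ne_zero (n + 1)
      exact t1_t_pow_ne_zero (n + 1)
        ((((mul_ne_zero hne hn2).isUnit).map (algebraMap k (Tr k (n + 1)))).mul_right_eq_zero.1 h4)
    change j = 0
    rw [hj', h2, map_zero, zero_mul]
  refine (O.obs_eq_zero_iff (α k (n + 1)) (t1_α_semismall (n + 1)) X).1 ?_
  refine Module.Flat.lTensor_preserves_injective_linearMap (M := V) ℓ hℓ ?_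
  rw [map_zero, ← hnat (α k (n + 1)) (t1_α_semismall (n + 1)) (Art.quotMk B' K hK) hψ (ε k (n + 1)) g hg ℓ
    (fun _ => rfl) X]
  exact (O.obs_eq_zero_iff _ hψ _).2 ⟨Y, hlift.symm⟩

end GrothLib.ArtFun
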