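import Groth.Agent.Lib.ArtFun.RingPresent
import Mathlib.Algebra.MvPolynomial.PDeriv
import Mathlib.Algebra.CharZero.Defs

/-!
# Functors of Artin rings: the T¹-lifting criterion in characteristic zero
-/

universe u v

namespace GrothLib.ArtFun

open _root_.ArtFun CategoryTheory IsLocalRing

variable {k : Type u} [Field k]

section Tsze

variable (A : Art k k) (M : Type u) [AddCommGroup M] [Module A M] [Module (↥A)ᵐᵒᵖ M]
  [IsCentralScalar A M] [Module k M] [IsScalarTower k A M] [IsScalarTower k (↥A)ᵐᵒᵖ M]

/-- A trivial square-zero extension by a finite module as an object. -/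
noncomputable def tszArt [Module.Finite A M] : Art k k :=
  haveI : IsLocalRing (TrivSqZeroExt A M) := IsLocalRing.of_isUnit_or_isUnit_one_sub_self fun a =>
    (IsLocalRing.isUnit_or_isUnit_one_sub_self a.fst).imp TrivSqZeroExt.isUnit_iff_isUnit_fst.2
      fun h => TrivSqZeroExt.isUnit_iff_isUnit_fst.2 (by rwa [TrivSqZeroExt.fst_sub, TrivSqZeroExt.fst_one])
  haveI : IsArtinianRing (TrivSqZeroExt A M) :=
    haveI := finite_art A
    haveI : Module.Finite k M := Module.Finite.trans A M
    haveI : Module.Finite k (TrivSqZeroExt A M) := inferInstanceAs (Module.Finite k (A × M))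
    IsArtinianRing.of_finite k _
  Art.of (TrivSqZeroExt A M) (A.res.comp (TrivSqZeroExt.fstHom k A M)) fun c =>
    (A.res_surjective c).elim fun a ha => ⟨TrivSqZeroExt.inl a, ha⟩

/-- The projection. -/
noncomputable def tszFst [Module.Finite A M] : tszArt A M ⟶ A :=
  Art.homMk (TrivSqZeroExt.fstHom k A M) rfl

/-- The zero section. -/
noncomputable def tszInl [Module.Finite A M] : A ⟶ tszArt A M :=
  Art.homMk (TrivSqZeroExt.inlAlgHom k A M) (AlgHom.ext fun _ => rfl)

lemma tsz_ker_sq [Module.Finite A M] :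
    RingHom.ker (tszFst A M).toAlgHom * RingHom.ker (tszFst A M).toAlgHom = ⊥ := by
  rw [← le_bot_iff, Ideal.mul_le]
  intro a ha b hb
  have ha' : a.fst = 0 := ha
  have hb' : b.fst = 0 := hb
  rw [Ideal.mem_bot]
  refine TrivSqZeroExt.ext ?_ ?_
  · exact (TrivSqZeroExt.fst_mul a b).trans (by rw [ha', zero_mul]; rfl)
  · exact (TrivSqZeroExt.snd_mul a b).trans (by rw [ha', hb']; simp; rfl)

variable {A M}
variable {M' : Type u} [AddCommGroup M'] [Module A M'] [Module (↥A)ᵐᵒᵖ M']
  [IsCentralScalar A M'] [Module k M'] [IsScalarTower k A M'] [IsScalarTower k (↥A)ᵐᵒᵖ M']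

/-- The map induced by a linear map of modules. -/
noncomputable def tszLin (f : M →ₗ[A] M') : TrivSqZeroExt A M →ₐ[k] TrivSqZeroExt A M' :=
  (TrivSqZeroExt.map f).restrictScalars k

lemma fst_tszLin (f : M →ₗ[A] M') (x : TrivSqZeroExt A M) : (tszLin f x).fst = x.fst :=
  TrivSqZeroExt.fst_map f x

lemma snd_tszLin (f : M →ₗ[A] M') (x : TrivSqZeroExt A M) : (tszLin f x).snd = f x.snd :=
  TrivSqZeroExt.snd_map f x

end Tsze

variable {n : ℕ}

local notation "P" => PS (fieldCRing k) n

/-- Homomorphisms killing a power of the maximal ideal are determined by the variables. -/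
lemma algHom_ps_ext_of_kill {B : Type*} [CommRing B] [Algebra k B] {g₁ g₂ : P →ₐ[k] B} {N : ℕ}
    (h₁ : ∀ x ∈ maximalIdeal P ^ N, g₁ x = 0) (h₂ : ∀ x ∈ maximalIdeal P ^ N, g₂ x = 0)
    (hX : ∀ i, g₁ (MvPowerSeries.X i) = g₂ (MvPowerSeries.X i)) : g₁ = g₂ := by
  refine AlgHom.ext fun f => ?_
  have hp : (g₁ : P →+* B).comp MvPolynomial.coeToMvPowerSeries.ringHom =
      (g₂ : P →+* B).comp MvPolynomial.coeToMvPowerSeries.ringHom :=
    MvPolynomial.ringHom_ext (fun c => by
      have e : (MvPowerSeries.C c : P) = algebraMap k _ c := (psC (fieldCRing k) n).commutes c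
      rw [RingHom.comp_apply, RingHom.comp_apply, MvPolynomial.coeToMvPowerSeries.ringHom_apply,
        MvPolynomial.coe_C]
      exact (congrArg g₁ e).trans ((g₁.commutes c).trans ((g₂.commutes c).symm.trans (congrArg g₂ e.symm))))
      (fun i => by simpa using hX i)
  have a := h₁ _ (sub_truncTotal_mem (fieldCRing k) n N f)
  have b := h₂ _ (sub_truncTotal_mem (fieldCRing k) n N f)
  rw [map_sub, sub_eq_zero] at a b
  rw [a, b]
  exact RingHom.congr_fun hp _

/-- Homomorphisms to square-zero extensions of Artinian rings kill a power of the maximal ideal. -/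
lemma exists_kill_tsz {A : Art k k} {M : Type u} [AddCommGroup M] [Module A M] [Module (↥A)ᵐᵒᵖ M]
    [IsCentralScalar A M] [Module k M] [IsScalarTower k A M] [IsScalarTower k (↥A)ᵐᵒᵖ M]
    (g : P →ₐ[k] TrivSqZeroExt A M) :
    ∃ N, ∀ x ∈ maximalIdeal P ^ N, g x = 0 := by
  let q : P →ₐ[k] A := (TrivSqZeroExt.fstHom k A M).comp g
  have hq : A.res.comp q = psRes (fieldCRing k) n := algHom_res_unique _ _
  obtain ⟨N, hN⟩ := exists_mpow_eq_zero (R := psCRing (fieldCRing k) n) (A := A) ⟨q, hq⟩
  refine ⟨(N + 1) + (N + 1), fun x hx => ?_⟩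
  rw [pow_add] at hx
  refine Submodule.mul_induction_on hx (fun a ha b hb => ?_) fun a b ha hb => by
    rw [map_add, ha, hb, add_zero]
  have ha' : (g a).fst = 0 := hN a ha
  have hb' : (g b).fst = 0 := hN b hb
  rw [map_mul]
  refine TrivSqZeroExt.ext ?_ ?_
  · rw [TrivSqZeroExt.fst_mul, ha', zero_mul, TrivSqZeroExt.fst_zero]
  · rw [TrivSqZeroExt.snd_mul, ha', hb', zero_smul, MulOpposite.op_zero, zero_smul, add_zero,
      TrivSqZeroExt.snd_zero]

/-- The universal square-zero extension over a point. -/
lemma exists_univ_tsz {A : Art k k} (q : P →ₐ[k] A) :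
    ∃ g : P →ₐ[k] TrivSqZeroExt A (Fin n → A), (∀ x, (g x).fst = q x) ∧
      ∀ i, (g (MvPowerSeries.X i)).snd = Pi.single i 1 := by
  classical
  have hq : A.res.comp q = psRes (fieldCRing k) n := algHom_res_unique _ _
  let a : Fin n → tszArt A (Fin n → A) := fun i =>
    (TrivSqZeroExt.inl (q (MvPowerSeries.X i)) + TrivSqZeroExt.inr (Pi.single i 1) :
      TrivSqZeroExt A (Fin n → A))
  obtain ⟨ψ, hC, hX⟩ := exists_homSet_ps (R := fieldCRing k) (r := n)
    (⟨Algebra.ofId k _, AlgHom.ext fun l => (tszArt A (Fin n → A)).res.commutes l⟩ :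
      HomSet (fieldCRing k).carrier (fieldCRing k).res (tszArt A (Fin n → A))) a fun i => by
    change A.res (TrivSqZeroExt.inl (q (MvPowerSeries.X i)) + TrivSqZeroExt.inr (Pi.single i 1) :
      TrivSqZeroExt A (Fin n → A)).fst = 0
    rw [TrivSqZeroExt.fst_add, TrivSqZeroExt.fst_inl, TrivSqZeroExt.fst_inr, add_zero]
    exact (DFunLike.congr_fun hq _).trans ((mem_maximalIdeal_ps _ _).1 (X_mem _ _ i))
  let g : P →ₐ[k] TrivSqZeroExt A (Fin n → A) := ψ.1
  refine ⟨g, fun x => ?_, fun i => ?_⟩
  · obtain ⟨N, hN⟩ := exists_kill_tsz g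
    obtain ⟨N', hN'⟩ := exists_mpow_eq_zero (R := psCRing (fieldCRing k) n) (A := A) ⟨q, hq⟩
    refine DFunLike.congr_fun (algHom_ps_ext_of_kill (N := max N (N' + 1))
      (g₁ := (TrivSqZeroExt.fstHom k A _).comp g) (g₂ := q)
      (fun y hy => by
        rw [AlgHom.comp_apply, hN y (Ideal.pow_le_pow_right (le_max_left _ _) hy), map_zero])
      (fun y hy => hN' y (Ideal.pow_le_pow_right (le_max_right _ _) hy)) fun i => ?_) x
    change (ψ.1 _).fst = _
    rw [hX i]
    simp [a]
  · change (ψ.1 _).snd = _
    rw [hX i]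
    simp [a]

/-- Power series rings satisfy T¹-lifting for all modules. -/
lemma exists_lift_tsz_ps {A : Art k k} {M M' : Type u}
    [AddCommGroup M] [Module A M] [Module (↥A)ᵐᵒᵖ M] [IsCentralScalar A M] [Module k M]
    [IsScalarTower k A M] [IsScalarTower k (↥A)ᵐᵒᵖ M]
    [AddCommGroup M'] [Module A M'] [Module (↥A)ᵐᵒᵖ M'] [IsCentralScalar A M'] [Module k M']
    [IsScalarTower k A M'] [IsScalarTower k (↥A)ᵐᵒᵖ M']
    (f : M' →ₗ[A] M) (hf : Function.Surjective f) (φ : P →ₐ[k] TrivSqZeroExt A M) :
    ∃ ψ : P →ₐ[k] TrivSqZeroExt A M', ∀ r, (ψ r).fst = (φ r).fst ∧ f (ψ r).snd = (φ r).snd := by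
  classical
  obtain ⟨g, hg, hgX⟩ := exists_univ_tsz ((TrivSqZeroExt.fstHom k A M).comp φ)
  choose w hw using fun i => hf (φ (MvPowerSeries.X i)).snd
  let L : (Fin n → A) →ₗ[A] M' := Fintype.linearCombination A w
  have hL : ∀ i, L (Pi.single i 1) = w i := fun i => by
    simp [L, Fintype.linearCombination_apply_single]
  refine ⟨(tszLin L).comp g, fun r => ⟨?_, ?_⟩⟩
  · rw [AlgHom.comp_apply, fst_tszLin, hg]; rfl
  · obtain ⟨N₁, h₁⟩ := exists_kill_tsz φ
    obtain ⟨N₂, h₂⟩ := exists_kill_tsz g
    have e : (tszLin f).comp ((tszLin L).comp g) = φ :=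
      algHom_ps_ext_of_kill (N := max N₁ N₂)
        (fun y hy => by
          rw [AlgHom.comp_apply, AlgHom.comp_apply,
            h₂ y (Ideal.pow_le_pow_right (le_max_right _ _) hy), map_zero, map_zero])
        (fun y hy => h₁ y (Ideal.pow_le_pow_right (le_max_left _ _) hy)) fun i => by
      refine TrivSqZeroExt.ext ?_ ?_
      · rw [AlgHom.comp_apply, AlgHom.comp_apply, fst_tszLin, fst_tszLin, hg]; rfl
      · rw [AlgHom.comp_apply, AlgHom.comp_apply, snd_tszLin, snd_tszLin, hgX, hL, hw]
    have := congrArg TrivSqZeroExt.snd (DFunLike.congr_fun e r)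
    rwa [AlgHom.comp_apply, snd_tszLin] at this

/-- In characteristic zero T¹-lifting forces the presentation ideal to vanish. -/
lemma injective_of_t1Lifting [CharZero k] {R : Type u} [CommRing R] [Algebra k R]
    (π : P →ₐ[k] R) (hπ : Function.Surjective π) (hJ : RingHom.ker π ≤ maximalIdeal P ^ 2)
    (hT : ∀ (A : Art k k) (M M' : Type u) [AddCommGroup M] [Module A M] [Module (↥A)ᵐᵒᵖ M]
        [IsCentralScalar A M] [Module k M] [IsScalarTower k A M] [IsScalarTower k (↥A)ᵐᵒᵖ M]
        [AddCommGroup M'] [Module A M'] [Module (↥A)ᵐᵒᵖ M'] [IsCentralScalar A M'] [Module k M']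
        [IsScalarTower k A M'] [IsScalarTower k (↥A)ᵐᵒᵖ M'] [Module.Finite A M] [Module.Finite A M']
        (f : M' →ₗ[A] M), Function.Surjective f →
          ∀ φ : R →ₐ[k] TrivSqZeroExt A M, ∃ ψ : R →ₐ[k] TrivSqZeroExt A M',
            ∀ r, (ψ r).fst = (φ r).fst ∧ f (ψ r).snd = (φ r).snd) :
    Function.Injective π := by
  classical
  have key : ∀ d, 2 ≤ d → RingHom.ker π ≤ maximalIdeal P ^ d := by
    intro d hd
    induction d, hd using Nat.le_induction with
    | base => exact hJ
    | succ d hd ih =>
      intro f hf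
      obtain ⟨Q, q₀, hq₀, hq₀s, hq₀k⟩ := exists_art_quot (psRes (fieldCRing k) n)
        (psCRing (fieldCRing k) n).res_surjective (d - 1)
      rw [ker_eq_maximalIdeal, show d - 1 + 1 = d by omega] at hq₀k
      have hK : (RingHom.ker π).map q₀ ≤ maximalIdeal Q := Ideal.map_le_iff_le_comap.2 fun a ha => by
        rw [Ideal.mem_comap, Art.mem_maximalIdeal_iff, show Q.res (q₀ a) = psRes (fieldCRing k) n a from
          DFunLike.congr_fun hq₀ a]
        exact (mem_maximalIdeal_ps _ _).1 (Ideal.pow_le_self two_ne_zero (hJ ha))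
      let A := Art.quot Q ((RingHom.ker π).map q₀) hK
      let q : P →ₐ[k] A := (Art.quotMk Q _ hK).toAlgHom.comp q₀
      have hqker : ∀ x, q x = 0 → x ∈ maximalIdeal P ^ d := fun x hx => by
        obtain ⟨a, ha, e⟩ := (Ideal.mem_map_iff_of_surjective q₀ hq₀s).1 ((quotMk_eq_zero_iff hK).1 hx)
        rw [show x = a + (x - a) by ring]
        exact add_mem (ih ha) (hq₀k.le (by rw [RingHom.mem_ker, map_sub, sub_eq_zero]; exact e.symm))
      have hqJ : ∀ x ∈ RingHom.ker π, q x = 0 := fun x hx =>
        (quotMk_eq_zero_iff hK).2 (Ideal.mem_map_of_mem q₀ hx)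
      obtain ⟨g, hg, hgX⟩ := exists_univ_tsz q
      let W : Submodule A (Fin n → A) :=
        Submodule.span A ((fun x => (g x).snd) '' (RingHom.ker π : Set P))
      let φ₀ : P →ₐ[k] TrivSqZeroExt A ((Fin n → A) ⧸ W) := (tszLin W.mkQ).comp g
      have hφ₀ : ∀ x ∈ RingHom.ker π, φ₀ x = 0 := fun x hx => by
        refine TrivSqZeroExt.ext ?_ ?_
        · rw [AlgHom.comp_apply, fst_tszLin, hg, hqJ x hx, TrivSqZeroExt.fst_zero]
        · rw [AlgHom.comp_apply, snd_tszLin, Submodule.mkQ_apply, TrivSqZeroExt.snd_zero,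
            Submodule.Quotient.mk_eq_zero]
          exact Submodule.subset_span ⟨x, hx, rfl⟩
      let e := Ideal.quotientKerAlgEquivOfSurjective hπ
      let φ : R →ₐ[k] TrivSqZeroExt A ((Fin n → A) ⧸ W) :=
        (Ideal.Quotient.liftₐ _ φ₀ hφ₀).comp e.symm.toAlgHom
      have hφ : ∀ x, φ (π x) = φ₀ x := fun x => by
        change Ideal.Quotient.liftₐ _ φ₀ hφ₀ (e.symm (π x)) = _
        rw [show π x = e (Ideal.Quotient.mk _ x) from rfl, e.symm_apply_apply]
        rfl
      obtain ⟨ψ, hψ⟩ := hT A ((Fin n → A) ⧸ W) (Fin n → A) W.mkQ W.mkQ_surjective φ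
      let w : Fin n → (Fin n → A) := fun i => (ψ (π (MvPowerSeries.X i))).snd
      let L : (Fin n → A) →ₗ[A] (Fin n → A) := Fintype.linearCombination A w
      have hfst : ∀ x, (ψ (π x)).fst = q x := fun x => by
        rw [(hψ (π x)).1, hφ, AlgHom.comp_apply, fst_tszLin, hg]
      obtain ⟨N₁, h₁⟩ := exists_kill_tsz g
      obtain ⟨N₂, h₂⟩ := exists_kill_tsz (ψ.comp π)
      have heq : (tszLin L).comp g = ψ.comp π :=
        algHom_ps_ext_of_kill (N := max N₁ N₂)
          (fun y hy => by
            rw [AlgHom.comp_apply, h₁ y (Ideal.pow_le_pow_right (le_max_left _ _) hy), map_zero])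
          (fun y hy => h₂ y (Ideal.pow_le_pow_right (le_max_right _ _) hy)) fun i => by
        refine TrivSqZeroExt.ext ?_ ?_
        · rw [AlgHom.comp_apply, fst_tszLin, hg]
          exact (hfst _).symm
        · rw [AlgHom.comp_apply, snd_tszLin, hgX, AlgHom.comp_apply]
          simp [L, w, Fintype.linearCombination_apply_single]
      -- `L` is the identity modulo `W`, and it kills `W`
      have hLW : ∀ v, v - L v ∈ W := fun v => by
        have hb : ∀ i, (Pi.single i (1 : A) : Fin n → A) - L (Pi.single i 1) ∈ W := fun i => by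
          rw [← Submodule.Quotient.eq]
          have := (hψ (π (MvPowerSeries.X i))).2
          rw [hφ, AlgHom.comp_apply, snd_tszLin, hgX] at this
          simpa [L, w, Fintype.linearCombination_apply_single] using this.symm
        have hv : v = ∑ i, v i • (Pi.single i (1 : A) : Fin n → A) := by
          funext j
          simp [Finset.sum_apply, Pi.single_apply]
        rw [hv, map_sum, ← Finset.sum_sub_distrib]
        refine Submodule.sum_mem _ fun i _ => ?_
        rw [map_smul, ← smul_sub]
        exact Submodule.smul_mem _ _ (hb i)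
      have hL0 : ∀ x ∈ RingHom.ker π, L (g x).snd = 0 := fun x hx => by
        have h := congrArg TrivSqZeroExt.snd (DFunLike.congr_fun heq x)
        rw [AlgHom.comp_apply, snd_tszLin, AlgHom.comp_apply, RingHom.mem_ker.1 hx, map_zero] at h
        exact h
      have hWm : ∀ v ∈ W, ∀ i, v i ∈ maximalIdeal A := fun v hv i => by
        refine Submodule.span_induction ?_ (zero_mem _) (fun _ _ _ _ => add_mem)
          (fun c y _ hy => Ideal.mul_mem_left _ c hy) hv
        rintro _ ⟨x, hx, rfl⟩
        -- derivatives of elements of `m²` lie in `m`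
        have hx2 : x ∈ maximalIdeal P * maximalIdeal P := pow_two (maximalIdeal P) ▸ hJ hx
        have hm : ∀ a ∈ maximalIdeal P, q a ∈ maximalIdeal A := fun a ha => by
          rw [Art.mem_maximalIdeal_iff,
            show A.res (q a) = psRes (fieldCRing k) n a from DFunLike.congr_fun (algHom_res_unique (A.res.comp q) _) a]
          exact (mem_maximalIdeal_ps _ _).1 ha
        change (g x).snd i ∈ _
        refine Submodule.mul_induction_on (C := fun x => (g x).snd i ∈ maximalIdeal A) hx2
          (fun a ha b hb => ?_) fun a b ha hb => by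
          rw [map_add, TrivSqZeroExt.snd_add, Pi.add_apply]
          exact add_mem ha hb
        rw [map_mul, TrivSqZeroExt.snd_mul, op_smul_eq_smul, hg, hg, Pi.add_apply, Pi.smul_apply,
          Pi.smul_apply, smul_eq_mul, smul_eq_mul]
        exact add_mem (Ideal.mul_mem_right _ _ (hm a ha)) (Ideal.mul_mem_right _ _ (hm b hb))
      have hW0 : ∀ x ∈ RingHom.ker π, (g x).snd = 0 := fun x hx => by
        set v := (g x).snd
        let I : Ideal A := Ideal.span (Set.range v)
        suffices hI : I ≤ ⊥ by
          funext i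
          exact hI (Ideal.subset_span ⟨i, rfl⟩)
        refine Submodule.le_of_le_smul_of_le_jacobson_bot (IsNoetherian.noetherian _)
          (maximalIdeal_le_jacobson ⊥) ?_
        rw [bot_sup_eq, smul_eq_mul, Ideal.span_le]
        rintro _ ⟨i, rfl⟩
        have hv : v i = ∑ j, v j * ((Pi.single j (1 : A) : Fin n → A) - L (Pi.single j 1)) i := by
          have e1 : v - L v = ∑ j, v j • ((Pi.single j (1 : A) : Fin n → A) - L (Pi.single j 1)) := by
            conv_lhs =>
              rw [show v = ∑ j, v j • (Pi.single j (1 : A) : Fin n → A) by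
                funext l; simp [Finset.sum_apply, Pi.single_apply]]
            simp [smul_sub, map_sum]
          rw [hL0 x hx, sub_zero] at e1
          simpa [Finset.sum_apply] using congrFun e1 i
        rw [hv]
        refine Ideal.sum_mem _ fun j _ => ?_
        rw [mul_comm (v j)]
        exact Ideal.mul_mem_mul (hWm _ (hLW _) i) (Ideal.subset_span (Set.mem_range_self j))
      -- compare with the derivative of the truncation
      let T : MvPolynomial (Fin n) (fieldCRing k).carrier := MvPowerSeries.truncTotal (N₁ + d + 1) f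
      have hT0 : f - (T : P) ∈ maximalIdeal P ^ (N₁ + d + 1) := sub_truncTotal_mem _ _ _ f
      have hgT : (g (T : P)).snd = 0 := by
        have : g (T : P) = g f := by
          rw [eq_comm, ← sub_eq_zero, ← map_sub]
          exact h₁ _ (Ideal.pow_le_pow_right (by omega) hT0)
        rw [this]
        exact hW0 f hf
      have hpd : ∀ p : MvPolynomial (Fin n) (fieldCRing k).carrier,
          (g (p : P)).snd = fun i => q ((MvPolynomial.pderiv i p : MvPolynomial (Fin n) (fieldCRing k).carrier) : P) := by
        intro p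
        induction p using MvPolynomial.induction_on with
        | C c =>
          funext i
          have e : ((MvPolynomial.C c : MvPolynomial (Fin n) (fieldCRing k).carrier) : P) = algebraMap k P c :=
            (MvPolynomial.coe_C c).trans ((psC (fieldCRing k) n).commutes c)
          rw [e, AlgHom.commutes, MvPolynomial.pderiv_C, MvPolynomial.coe_zero, map_zero]
          rfl
        | add p p' hp hp' =>
          funext i
          simp [hp, hp']
        | mul_X p j hp =>
          funext i
          rw [MvPolynomial.coe_mul, MvPolynomial.coe_X, map_mul, TrivSqZeroExt.snd_mul, hp, hgX,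
            op_smul_eq_smul, hg, hg, MvPolynomial.pderiv_mul, MvPolynomial.pderiv_X,
            MvPolynomial.coe_add, MvPolynomial.coe_mul, MvPolynomial.coe_mul, map_add, map_mul,
            map_mul, MvPolynomial.coe_X, Pi.add_apply, Pi.smul_apply, Pi.smul_apply, smul_eq_mul,
            smul_eq_mul]
          rcases eq_or_ne i j with rfl | hij
          · simp; ring
          · simp [Pi.single_eq_of_ne hij, Pi.single_eq_of_ne (Ne.symm hij)]; ring
      refine (mem_pow_maximalIdeal_ps (fieldCRing k) n (d + 1) f).2 fun m => ?_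
      by_cases hm : m.degree ≥ d + 1
      · rw [Nat.sub_eq_zero_of_le hm, pow_zero, Ideal.one_eq_top]; trivial
      have hbot : maximalIdeal (fieldCRing k).carrier = ⊥ :=
        IsLocalRing.isField_iff_maximalIdeal_eq.1 (Field.toIsField k)
      suffices hc : MvPowerSeries.coeff m f = 0 by
        rw [hc]; exact zero_mem _
      rcases lt_or_eq_of_le (show m.degree ≤ d by omega) with hlt | heq'
      · have := (mem_pow_maximalIdeal_ps (fieldCRing k) n d f).1 (ih hf) m
        rw [hbot, ← Nat.succ_pred_eq_of_pos (show 0 < d - m.degree by omega), pow_succ, Ideal.mul_bot] at this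
        exact this
      obtain ⟨i, hi⟩ : ∃ i, 0 < m i := by
        by_contra hno
        push Not at hno
        have : m = 0 := Finsupp.ext fun i => Nat.le_zero.1 (hno i)
        rw [this, map_zero] at heq'
        omega
      let m' : Fin n →₀ ℕ := m - Finsupp.single i 1
      have hm' : m' + Finsupp.single i 1 = m := by
        refine Finsupp.ext fun j => ?_
        rcases eq_or_ne j i with rfl | hj
        · simp [m']; omega
        · simp [m', Finsupp.single_eq_of_ne hj]
      have hdeg : m'.degree + 1 = d := by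
        rw [← heq', ← hm', map_add, Finsupp.degree_single]
      have h0 : ((MvPolynomial.pderiv i T : MvPolynomial (Fin n) (fieldCRing k).carrier) : P) ∈ maximalIdeal P ^ d :=
        hqker _ (congrFun ((hpd T).symm.trans hgT) i)
      have h1 := (mem_pow_maximalIdeal_ps (fieldCRing k) n d _).1 h0 m'
      rw [hbot, show d - m'.degree = 1 by omega, pow_one, Ideal.mem_bot, MvPolynomial.coeff_coe,
        MvPolynomial.coeff_pderiv, hm'] at h1
      haveI : CharZero (fieldCRing k).carrier := inferInstanceAs (CharZero k)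
      haveI : NoZeroDivisors (fieldCRing k).carrier := inferInstanceAs (NoZeroDivisors k)
      have hne : ((m' i : (fieldCRing k).carrier) + 1) ≠ 0 := by exact_mod_cast Nat.succ_ne_zero (m' i)
      have h2 : MvPolynomial.coeff m T = 0 := (mul_eq_zero.1 h1).resolve_right hne
      rwa [MvPowerSeries.coeff_truncTotal _ (by omega)] at h2
  rw [injective_iff_map_eq_zero]
  intro x hx
  haveI := (psCRing (fieldCRing k) n).isAdicComplete
  refine IsHausdorff.haus (I := maximalIdeal P)
    (show IsHausdorff (maximalIdeal P) P from (isAdicComplete_ps (fieldCRing k) n).toIsHausdorff) x fun d => ?_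
  rw [SModEq.sub_mem, sub_zero, Ideal.smul_eq_mul, Ideal.mul_top]
  exact Ideal.pow_le_pow_right (Nat.le_add_right d 2) (key (d + 2) (by omega) hx)

end GrothLib.ArtFun
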