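import Groth.Agent.Lib.ArtFun.Smooth

/-!
# Functors of Artin rings: left exactness of `h_R` and consequences of versality
-/

universe u v

namespace GrothLib.ArtFun

open _root_.ArtFun CategoryTheory IsLocalRing

variable {Λ : Type u} {k : Type u} [CommRing Λ] [Field k] [Algebra Λ k]
variable {R : Type u} [CommRing R] [Algebra Λ R] {resR : R →ₐ[Λ] k} {F : Art Λ k ⥤ Type v}
variable {B A A' A'' : Art Λ k} {p' : B ⟶ A'} {p'' : B ⟶ A''} {f' : A' ⟶ A} {f'' : A'' ⟶ A}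

lemma homSet_ext {φ ψ : HomSet R resR A} (h : ∀ r, φ.1 r = ψ.1 r) : φ = ψ :=
  Subtype.ext (AlgHom.ext h)

lemma homSet_fp_exists (h : Art.IsFibreProd p' p'' f' f'') (a : HomSet R resR A')
    (b : HomSet R resR A'') (hab : HomSet.map f' a = HomSet.map f'' b) :
    ∃ c : HomSet R resR B, HomSet.map p' c = a ∧ HomSet.map p'' c = b := by
  obtain ⟨c, h₁, h₂⟩ := fp_exists_algHom h a.1 b.1 (congrArg Subtype.val hab)
  exact ⟨⟨c, by rw [← p'.res_comp, AlgHom.comp_assoc, h₁, a.2]⟩, Subtype.ext h₁, Subtype.ext h₂⟩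

lemma homSet_fp_ext (h : Art.IsFibreProd p' p'' f' f'') {c₁ c₂ : HomSet R resR B}
    (h₁ : HomSet.map p' c₁ = HomSet.map p' c₂) (h₂ : HomSet.map p'' c₁ = HomSet.map p'' c₂) :
    c₁ = c₂ :=
  homSet_ext fun r => h.inj _ _ (DFunLike.congr_fun (congrArg Subtype.val h₁) r)
    (DFunLike.congr_fun (congrArg Subtype.val h₂) r)

/-- A family versal and surjective on objects gives condition `S1`. -/
lemma s1_of_versal (ξ : Family R resR F) (hξ : IsVersal ξ)
    (hsurj : ∀ A : Art Λ k, Function.Surjective (ξ.app A)) : S1 F := by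
  intro B A A' A'' p' p'' f' f'' h hf
  rw [cmp_surjective_iff]
  intro x y hxy
  obtain ⟨a, rfl⟩ := hsurj A' x
  obtain ⟨b, hb₁, rfl⟩ := hξ f'' hf (HomSet.map f' a) y (by rw [ξ.natural, hxy])
  obtain ⟨c, rfl, rfl⟩ := homSet_fp_exists h a b hb₁.symm
  exact ⟨ξ.app B c, (ξ.natural p' c).symm, (ξ.natural p'' c).symm⟩

/-- A family versal, surjective on objects and bijective on the dual numbers gives condition `Heps`. -/
lemma heps_of_miniversal (ξ : Family R resR F) (hξ : IsMiniversal ξ)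
    (hsurj : ∀ A : Art Λ k, Function.Surjective (ξ.app A)) : Heps F := by
  intro B A' p' p'' h
  refine ⟨?_, s1_of_versal ξ hξ.1 hsurj p' p'' _ _ h (toBase_surjective _)⟩
  intro z₁ z₂ e
  have e₁ : F.map p' z₁ = F.map p' z₂ := congrArg (fun t => t.1.1) e
  have e₂ : F.map p'' z₁ = F.map p'' z₂ := congrArg (fun t => t.1.2) e
  obtain ⟨a, rfl⟩ := hsurj B z₁
  obtain ⟨b, hb₁, rfl⟩ := hξ.1 p' (fp_fst_surjective h (toBase_surjective _)) (HomSet.map p' a) z₂
    (by rw [ξ.natural, e₁])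
  rw [← ξ.natural, ← ξ.natural] at e₂
  rw [homSet_fp_ext h hb₁.symm (hξ.2.1 e₂)]

lemma along_app {S : Type u} [CommRing S] [Algebra Λ S] {resS : S →ₐ[Λ] k} (ξ : Family R resR F)
    (g : R →ₐ[Λ] S) (hg : resS.comp g = resR) {A : Art Λ k} (φ : HomSet S resS A) :
    (ξ.along g hg).app A φ = ξ.app A ⟨φ.1.comp g, by rw [← AlgHom.comp_assoc, φ.2, hg]⟩ := rfl

end GrothLib.ArtFun
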