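import Groth.Agent.Lib.ArtFun.Formal
import Groth.Prelude.Def_W4sfdMinVersal

/-!
# Functors of Artin rings: versal lifting along surjections of coefficient rings
-/

universe u v

namespace GrothLib.ArtFun

open _root_.ArtFun CategoryTheory IsLocalRing

variable {Λ : Type u} {k : Type u} [CommRing Λ] [Field k] [Algebra Λ k]
variable {A' A : CRing Λ k} (g : A'.carrier →ₐ[Λ] A.carrier) (hg : A.res.comp g = A'.res)

include hg in
lemma mpow_eq_map_of_surjective (hgs : Function.Surjective g) (n : ℕ) :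
    (CRing.mpow A' n).map g = CRing.mpow A n := by
  have h1 : (maximalIdeal A'.carrier).map g = maximalIdeal A.carrier := by
    refine le_antisymm (Ideal.map_le_iff_le_comap.2 (CRing.maximalIdeal_le_comap g hg)) fun y hy => ?_
    obtain ⟨x, rfl⟩ := hgs y
    refine Ideal.mem_map_of_mem g ?_
    rw [CRing.mem_maximalIdeal_iff, ← CRing.res_comp_apply g hg x]
    exact (CRing.mem_maximalIdeal_iff A _).1 hy
  rw [CRing.mpow, Ideal.map_pow, h1]

/-- Versality lifts along surjections of coefficient rings. -/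
lemma exists_lift_along_cring_surjective {F : Art Λ k ⥤ Type v}
    (hRS : ∀ ⦃B A A₁ A₂ : Art Λ k⦄ (p₁ : B ⟶ A₁) (p₂ : B ⟶ A₂) (f₁ : A₁ ⟶ A) (f₂ : A₂ ⟶ A)
        (h : Art.IsFibreProd p₁ p₂ f₁ f₂), Function.Surjective f₂ → Function.Bijective (cmp F h))
    (R : CRing Λ k) (ξ : Family R.carrier R.res F) (hξ : IsVersal ξ)
    (hgs : Function.Surjective g) (η' : FormalElt F A')
    (φ : R.carrier →ₐ[Λ] A.carrier) (hφ : A.res.comp φ = R.res)
    (hsq : (ξ.along φ hφ).toFormalElt = η'.push g hg) :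
    ∃ (ψ : R.carrier →ₐ[Λ] A'.carrier) (hψ : A'.res.comp ψ = R.res),
      g.comp ψ = φ ∧ (ξ.along ψ hψ).toFormalElt = η' := by
  let gn := fun n => CRing.truncMapOfHom g hg n
  let φn : ∀ n, HomSet R.carrier R.res (A.trunc n) := fun n =>
    ⟨(A.truncHom n).1.comp φ, by rw [← AlgHom.comp_assoc, (A.truncHom n).2, hφ]⟩
  have hφn : ∀ n, ξ.app _ (φn n) = F.map (gn n) (η'.elt n) := fun n =>
    congrArg (fun u => u.elt n) hsq
  have hφmap : ∀ n, HomSet.map (A.truncMap n) (φn (n + 1)) = φn n := fun n => homSet_ext fun _ => rfl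
  have hgn : ∀ n, Function.Surjective (gn n) := fun n y => by
    obtain ⟨a, rfl⟩ := truncHom_surjective A n y
    obtain ⟨a', rfl⟩ := hgs a
    exact ⟨(A'.truncHom n).1 a', rfl⟩
  haveI : IsIso (gn 0) := isIso_of_bijective _ ⟨fun x y hxy => by
    obtain ⟨a, rfl⟩ := truncHom_surjective A' 0 x
    obtain ⟨b, rfl⟩ := truncHom_surjective A' 0 y
    refine Ideal.Quotient.eq.2 ?_
    have h := Ideal.Quotient.eq.1 hxy
    rw [CRing.mpow, pow_one, CRing.mem_maximalIdeal_iff] at h ⊢
    rw [← map_sub] at h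
    exact (CRing.res_comp_apply g hg _).symm.trans h, hgn 0⟩
  have h0 : ξ.app _ (HomSet.map (inv (gn 0)) (φn 0)) = η'.elt 0 := by
    rw [ξ.natural, hφn, map_hom_inv]
  obtain ⟨a, -, ha⟩ := exists_seq
    (X := fun n => {a : HomSet R.carrier R.res (A'.trunc n) //
      HomSet.map (gn n) a = φn n ∧ ξ.app _ a = η'.elt n})
    (fun n x y => HomSet.map (A'.truncMap n) y.1 = x.1)
    ⟨HomSet.map (inv (gn 0)) (φn 0), by rw [homSet_map_comp, IsIso.inv_hom_id]; exact homSet_ext fun _ => rfl, h0⟩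
    (fun n x => by
      obtain ⟨B, p₁, p₂, hB⟩ := exists_isFibreProd_of_surjective (gn n) (A.truncMap n) (truncMap_surjective A n)
      obtain ⟨c, hc₁, hc₂⟩ := fp_exists_lift hB (A'.truncMap n) (gn (n + 1))
        (CRing.truncMapOfHom_truncMap g hg n).symm
      have hcs : Function.Surjective c := fun z => by
        obtain ⟨a₀, ha₀⟩ := truncHom_surjective A' n (p₁ z)
        obtain ⟨b, hb⟩ := truncHom_surjective A (n + 1) (p₂ z)
        have hw := hB.w_apply z
        rw [← ha₀, ← hb] at hw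
        have hd : b - g a₀ ∈ CRing.mpow A n := Ideal.Quotient.eq.1 hw.symm
        rw [← mpow_eq_map_of_surjective g hg hgs n, Ideal.mem_map_iff_of_surjective g hgs] at hd
        obtain ⟨w, hw', hgw⟩ := hd
        refine ⟨(A'.truncHom (n + 1)).1 (a₀ + w), hB.inj _ _ ?_ ?_⟩
        · refine (apply_congr_hom hc₁ _).trans (Eq.trans ?_ ha₀)
          exact Ideal.Quotient.eq.2 (by simpa using hw')
        · refine (apply_congr_hom hc₂ _).trans (Eq.trans ?_ hb)
          change Ideal.Quotient.mk _ (g (a₀ + w)) = Ideal.Quotient.mk _ b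
          rw [map_add, hgw, add_sub_cancel]
      obtain ⟨φB, h₁, h₂⟩ := homSet_fp_exists hB x.1 (φn (n + 1)) (by rw [x.2.1, hφmap])
      have hy : F.map c (η'.elt (n + 1)) = ξ.app B φB := by
        refine eq_of_cmp_injective (hRS p₁ p₂ _ _ hB (truncMap_surjective A n)).1 ?_ ?_
        · rw [map_map, hc₁, η'.compat, ← ξ.natural, h₁, x.2.2]
        · rw [map_map, hc₂, ← ξ.natural, h₂, hφn]
      obtain ⟨ψ, hψ₁, hψ₂⟩ := hξ c hcs φB (η'.elt (n + 1)) hy
      refine ⟨⟨ψ, ?_, hψ₂⟩, ?_⟩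
      · have e := (congrArg (HomSet.map p₂) hψ₁).trans h₂
        rwa [homSet_map_comp, hc₂] at e
      · have e := (congrArg (HomSet.map p₁) hψ₁).trans h₁
        rwa [homSet_map_comp, hc₁] at e)
  obtain ⟨ψ, hψ, hψn⟩ := exists_algHom_of_trunc (fun n => (a n).1) ha
  refine ⟨ψ, hψ, algHom_ext_trunc fun n => AlgHom.ext fun x => ?_, FormalElt.ext' fun n => ?_⟩
  · have := DFunLike.congr_fun (congrArg Subtype.val (a n).2.1) x
    refine Eq.trans ?_ this
    change _ = (gn n).toAlgHom ((a n).1.1 x)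
    rw [← hψn]
    rfl
  · rw [along_trunc_app, ← (a n).2.2]
    exact congrArg (ξ.app _) (Subtype.ext (hψn n))

end GrothLib.ArtFun
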